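import Cfsg.Agent.Lib.Helper7.AutPM.StdField
import Cfsg.Agent.Lib.Helper7.AutPO.FieldInj
import Cfsg.Agent.Lib.Helper5.OrthAut.InndiagPlus
import Mathlib

/-!
# `Inndiag(PΩ⁺_{2m}(q))` in all characteristics (helper7)

In characteristic two it is `Inn`; in odd characteristic it is the image of the similarities with
`det g = μ(g)^m` (helper5).  Uniform consequences, parallel to `InndiagM`.
-/

set_option autoImplicit false
set_option linter.unusedSectionVars false
set_option linter.style.haveILetI false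

namespace Cfsg.Agent.Lib.H7AutPM

open Matrix Cfsg Cfsg.Agent.Lib.H7AutPSp Cfsg.Agent.Lib.H7AutPO Cfsg.Agent.Lib.Helper5.OrthAut
  Cfsg.Agent.H9.Orth Cfsg.Agent.Lib.Helper5.OrthSN Cfsg.Agent.Lib.Helper5.OrthPar
  Cfsg.Agent.Lib.Helper5.OrthCls Cfsg.Agent.Lib.Helper5.OrthPM Cfsg.Agent.Lib.Helper5.OrthTv

universe u

section generic

variable {ι : Type} [Fintype ι] [DecidableEq ι] {F : Type u} [Field F] {Q : (ι → F) → F}
  (hQ : Cfsg.Geo.IsNondegenerateQuadraticForm Q)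

include hQ in
/-- a reflection in a vector with entries fixed by `σ` is fixed by `σ` -/
theorem gmapI_rf (hc : FieldCompat Q) (σ : RingAut F) (x : ι → F) (hx : Q x ≠ 0)
    (hfix : vmap σ x = x) : gmapI σ (rf hQ x) = rf hQ x := by
  apply gl_ext
  intro v
  rw [act_gmapI, act_rf hQ x hx, act_rf hQ x hx, vmap_sub, vmap_smul, vmap_symm, hfix, map_mul,
    map_inv₀, ← pol_vmap hc σ, vmap_symm, hfix]
  have := hc σ x
  rw [show (fun i => σ (x i)) = vmap σ x from rfl, hfix] at this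
  rw [← this]

end generic

section plus

variable {F : Type u} [Field F] [Fintype F] {m : ℕ}

theorem hQP : Cfsg.Geo.IsNondegenerateQuadraticForm (Cfsg.quadFormPlus m F) :=
  quadFormPlus_nondeg m

theorem card_IP : Fintype.card (Fin m ⊕ Fin m) = 2 * m := card_sum_fin m

theorem hnP (hm : 4 ≤ m) : 7 ≤ Fintype.card (Fin m ⊕ Fin m) := by
  rw [card_IP]; omega

theorem hσP (σ : RingAut F) (v : Fin m ⊕ Fin m → F) :
    Cfsg.quadFormPlus m F (fun i => σ (v i)) = σ (Cfsg.quadFormPlus m F v) :=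
  fieldCompat_plus m σ v

/-- the vector `e₁ + f₁` -/
def vP (hm : 0 < m) : Fin m ⊕ Fin m → F :=
  Pi.single (Sum.inl ⟨0, hm⟩) 1 + Pi.single (Sum.inr ⟨0, hm⟩) 1

theorem Q_vP (hm : 0 < m) : Cfsg.quadFormPlus m F (vP hm) = 1 := by
  unfold Cfsg.quadFormPlus vP
  rw [Finset.sum_eq_single (⟨0, hm⟩ : Fin m)]
  · simp
  · intro i _ hi
    simp [Pi.single_apply, hi]
  · intro h
    exact absurd (Finset.mem_univ _) h

theorem vmap_vP (hm : 0 < m) (σ : RingAut F) : vmap σ (vP (F := F) hm) = vP hm := by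
  funext i
  unfold vmap vP
  simp only [Pi.add_apply, Pi.single_apply, map_add]
  split_ifs <;> simp

/-- the reflection in `e₁ + f₁` -/
noncomputable def reflP (hm : 0 < m) : GL (Fin m ⊕ Fin m) F := rf hQP (vP hm)

theorem reflP_mem (hm : 0 < m) :
    reflP (F := F) hm ∈ Cfsg.isometryGroup F (Cfsg.quadFormPlus m F) := rf_mem hQP _

theorem reflP_mem_sim (hm : 0 < m) :
    reflP (F := F) hm ∈ Cfsg.Geo.quadSimilarityGroup (F := F) (Cfsg.quadFormPlus m F) :=
  iso_le_sim _ (reflP_mem hm)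

theorem gmapI_reflP (hm : 0 < m) (σ : RingAut F) : gmapI σ (reflP (F := F) hm) = reflP hm :=
  gmapI_rf hQP (fieldCompat_plus m) σ _ (by rw [Q_vP]; exact one_ne_zero) (vmap_vP hm σ)

theorem not_par_reflP (hm : 0 < m) : ¬ par (reflP (F := F) hm) :=
  not_par_rf hQP _ (by rw [Q_vP]; exact one_ne_zero)

section two

variable (hm : 4 ≤ m) (h2 : (2 : F) = 0)
include hm h2

/-- characteristic two: decomposition of a similarity as scalar times isometry -/
theorem exists_scalar_iso_two_P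
    (g : ↥(Cfsg.Geo.quadSimilarityGroup (F := F) (Cfsg.quadFormPlus m F))) :
    ∃ (l : F) (hl0 : l ≠ 0) (g' : GL (Fin m ⊕ Fin m) F),
      g' ∈ Cfsg.isometryGroup F (Cfsg.quadFormPlus m F) ∧ g.1 = scalarGL l hl0 * g' := by
  haveI : Nonempty (Fin m ⊕ Fin m) := ⟨Sum.inl ⟨0, by omega⟩⟩
  have hchar : ringChar F = 2 :=
    CharP.ringChar_of_prime_eq_zero Nat.prime_two (by exact_mod_cast h2)
  obtain ⟨l, hl⟩ := FiniteField.isSquare_of_char_two hchar
    (mu g : F)
  obtain ⟨hl0, g', hg', e⟩ := exists_scalar_mul_iso (hQP (m := m)) g l hl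
  exact ⟨l, hl0, g', hg', e⟩

theorem DhO_scalar_mul_two_P
    (g : ↥(Cfsg.Geo.quadSimilarityGroup (F := F) (Cfsg.quadFormPlus m F)))
    (l : F) (hl0 : l ≠ 0) (g' : GL (Fin m ⊕ Fin m) F)
    (hg' : g' ∈ Cfsg.isometryGroup F (Cfsg.quadFormPlus m F))
    (e : g.1 = scalarGL l hl0 * g') :
    DhO (Cfsg.quadFormPlus m F) g =
      DhO (Cfsg.quadFormPlus m F) ⟨g', iso_le_sim _ hg'⟩ := by
  have e2 : g = (⟨scalarGL l hl0, scalarGL_mem_GO (hQP (m := m)) l hl0⟩ :
      ↥(Cfsg.Geo.quadSimilarityGroup (F := F) (Cfsg.quadFormPlus m F))) *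
        ⟨g', iso_le_sim _ hg'⟩ := Subtype.ext e
  rw [e2, map_mul, DhO_scalarG (hQP (m := m)), one_mul]

/-- characteristic two: a similarity induces an inner automorphism iff its isometry part has even
parity -/
theorem DhO_mem_inn_iff_two_P
    (g : ↥(Cfsg.Geo.quadSimilarityGroup (F := F) (Cfsg.quadFormPlus m F)))
    (l : F) (hl0 : l ≠ 0) (g' : GL (Fin m ⊕ Fin m) F)
    (hg' : g' ∈ Cfsg.isometryGroup F (Cfsg.quadFormPlus m F))
    (e : g.1 = scalarGL l hl0 * g') :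
    DhO (Cfsg.quadFormPlus m F) g ∈
      Cfsg.Inn (Cfsg.POmega F (Cfsg.quadFormPlus m F)) ↔ par g' := by
  haveI : CharP F 2 := CharTwo.of_one_ne_zero_of_two_eq_zero one_ne_zero h2
  have hQ := hQP (F := F) (m := m)
  have hcard : Fintype.card F ≠ 2 ∨ Fintype.card (Fin m ⊕ Fin m) ≠ 4 :=
    Or.inr (by rw [card_IP]; omega)
  have hgen : Cfsg.isometryGroup F (Cfsg.quadFormPlus m F) ≤ RR hQ := iso_le_RR hQ hcard
  have heven : Even (Fintype.card (Fin m ⊕ Fin m)) := by rw [card_IP]; exact even_two_mul _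
  rw [DhO_scalar_mul_two_P hm h2 g l hl0 g' hg' e]
  constructor
  · intro h
    by_contra hpar
    exact DhO_not_mem_inn_of_not_par hQ (hnP hm) hgen heven ⟨g', iso_le_sim _ hg'⟩ hg' hpar h
  · intro hpar
    apply DhO_mem_inn_of_omega _ hg'
    rw [mem_omega_iff_even_all hQ hcard]
    exact hpar

/-- class preservation through the parity of the isometry part -/
theorem preservesPlus_iff_par (g : GL (Fin m ⊕ Fin m) F) (l : F) (hl0 : l ≠ 0)
    (g' : GL (Fin m ⊕ Fin m) F) (hg' : g' ∈ Cfsg.isometryGroup F (Cfsg.quadFormPlus m F))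
    (e : g = scalarGL l hl0 * g') :
    Cfsg.PreservesSingularClasses (Cfsg.quadFormPlus m F)
      (g : Matrix (Fin m ⊕ Fin m) (Fin m ⊕ Fin m) F) ↔ par g' := by
  have hQ := hQP (F := F) (m := m)
  have hcard : Fintype.card F ≠ 2 ∨ Fintype.card (Fin m ⊕ Fin m) ≠ 4 :=
    Or.inr (by rw [card_IP]; omega)
  exact preserves_iff_par_of_scalar hQ (iso_le_RR hQ hcard) m card_IP (stdU (F := F) m)
    (stdU_maxTS m) g l hl0 g' hg' e

/-- **characteristic two: `Inndiag = Inn`** -/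
theorem inndiag_eq_inn_two_P :
    Cfsg.inndiagPOmegaPlus m F = Cfsg.Inn (Cfsg.POmega F (Cfsg.quadFormPlus m F)) := by
  haveI : CharP F 2 := CharTwo.of_one_ne_zero_of_two_eq_zero one_ne_zero h2
  have hQ := hQP (F := F) (m := m)
  have hcard : Fintype.card F ≠ 2 ∨ Fintype.card (Fin m ⊕ Fin m) ≠ 4 :=
    Or.inr (by rw [card_IP]; omega)
  apply le_antisymm
  · unfold Cfsg.inndiagPOmegaPlus Cfsg.autSubgroupOf
    rw [Subgroup.closure_le]
    rintro β ⟨g, hgG, hpres, hind⟩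
    have hβ := (induced_refl_iff ⟨g, hgG⟩ β).1 hind
    obtain ⟨l, hl0, g', hg', e⟩ := exists_scalar_iso_two_P hm h2 ⟨g, hgG⟩
    have hpar := (preservesPlus_iff_par hm h2 g l hl0 g' hg' e).1 hpres
    rw [SetLike.mem_coe, hβ]
    exact (DhO_mem_inn_iff_two_P hm h2 ⟨g, hgG⟩ l hl0 g' hg' e).2 hpar
  · rintro _ ⟨t, rfl⟩
    obtain ⟨s, rfl⟩ := prC_surjective t
    apply Subgroup.subset_closure
    have hs := (mem_omega_iff_even_all hQ hcard s.1).1 s.2
    refine ⟨s.1.1, iso_le_sim _ s.1.2, ?_, ?_⟩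
    · refine (preservesPlus_iff_par hm h2 s.1.1 1 one_ne_zero s.1.1 s.1.2 ?_).2 hs
      apply gl_ext
      intro v
      rw [act_mul, act_scalarGL, one_smul]
    · rw [induced_refl_iff ⟨s.1.1, iso_le_sim _ s.1.2⟩]
      exact (DhO_omega s).symm

end two

section odd

variable (hm : 4 ≤ m) (hodd : Odd (Fintype.card F)) [Nonempty (Fin m ⊕ Fin m)]
include hm hodd

/-- **odd characteristic**: membership in `Inndiag` through the sign character -/
theorem mem_inndiag_iff_odd_P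
    (g : ↥(Cfsg.Geo.quadSimilarityGroup (F := F) (Cfsg.quadFormPlus m F))) :
    DhO (Cfsg.quadFormPlus m F) g ∈ Cfsg.inndiagPOmegaPlus m F ↔
      chiDet (hQP (m := m)) (two_ne_zero_of_odd_card hodd) m card_IP g = 1 := by
  have h2 := two_ne_zero_of_odd_card hodd
  have hQ := hQP (F := F) (m := m)
  rw [inndiagPlus_eq m hodd]
  unfold inndiagGen
  rw [DhO_eq_conjHom, ← MonoidHom.mem_ker]
  constructor
  · rintro ⟨g', hg', e⟩
    have h1 : g'⁻¹ * g ∈
        (Cfsg.Agent.Lib.Helper5.OrthAut.conjHom (Cfsg.quadFormPlus m F)).ker := by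
      rw [MonoidHom.mem_ker, map_mul, map_inv, e, inv_mul_cancel]
    have h3 := ker_le_chiDet hQ (hnP hm) h2 m card_IP h1
    have h4 := mul_mem hg' h3
    rwa [mul_inv_cancel_left] at h4
  · intro hg
    exact ⟨g, hg, rfl⟩

end odd

/-! ### uniform consequences -/

section uniform

variable (hm : 4 ≤ m)
include hm

theorem odd_card_of_two_ne_zero_P (h2 : (2 : F) ≠ 0) : Odd (Fintype.card F) := by
  rw [← Nat.not_even_iff_odd]
  intro hev
  apply h2
  have h3 : ((Fintype.card F : ℕ) : F) = 0 := Nat.cast_card_eq_zero F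
  obtain ⟨p, hp⟩ := CharP.exists F
  haveI := hp
  have hpp : p.Prime := by
    rcases CharP.char_is_prime_or_zero F p with h | h
    · exact h
    · exfalso
      subst h
      haveI : CharZero F := CharP.charP_to_charZero F
      exact absurd (Nat.cast_injective (R := F) (h3.trans Nat.cast_zero.symm))
        Fintype.card_ne_zero
  haveI : Fact p.Prime := ⟨hpp⟩
  obtain ⟨n, hn⟩ := FiniteField.card F p
  have h4 : Even ((p : ℕ) ^ (n : ℕ)) := by rw [← hn.2]; exact hev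
  have h5 : Even p := (Nat.even_pow.1 h4).1
  have h6 : p = 2 := (Nat.Prime.even_iff hpp).1 h5
  subst h6
  exact_mod_cast CharP.cast_eq_zero F 2

theorem inndiag_le_range_P :
    Cfsg.inndiagPOmegaPlus m F ≤ (DhO (Cfsg.quadFormPlus m F)).range := by
  haveI : Nonempty (Fin m ⊕ Fin m) := ⟨Sum.inl ⟨0, by omega⟩⟩
  by_cases h2 : (2 : F) = 0
  · rw [inndiag_eq_inn_two_P hm h2]
    exact inn_le_DhO_range
  · have hodd := odd_card_of_two_ne_zero_P hm h2
    rw [inndiagPlus_eq m hodd, ← Cfsg.Agent.Lib.H7AutPO.pgoAut_eq]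
    exact inndiagGen_le_pgo _ _ _ _

theorem inn_le_inndiag_P :
    Cfsg.Inn (Cfsg.POmega F (Cfsg.quadFormPlus m F)) ≤ Cfsg.inndiagPOmegaPlus m F := by
  haveI : Nonempty (Fin m ⊕ Fin m) := ⟨Sum.inl ⟨0, by omega⟩⟩
  by_cases h2 : (2 : F) = 0
  · rw [inndiag_eq_inn_two_P hm h2]
  · have hodd := odd_card_of_two_ne_zero_P hm h2
    rw [inndiagPlus_eq m hodd]
    have hQ := hQP (F := F) (m := m)
    exact inn_le_inndiagGen hQ (hnP hm) _
      (iso_le_RR hQ (Or.inr (by rw [card_IP]; omega))) _ _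

/-- for a similarity `g` and a reflection `ρ`: exactly one of `g`, `g ρ` induces an inner-diagonal
automorphism -/
theorem inndiag_iff_not_mul_rf
    (g : ↥(Cfsg.Geo.quadSimilarityGroup (F := F) (Cfsg.quadFormPlus m F)))
    (x : Fin m ⊕ Fin m → F) (hx : Cfsg.quadFormPlus m F x ≠ 0) :
    DhO (Cfsg.quadFormPlus m F) (g * ⟨rf hQP x, iso_le_sim _ (rf_mem hQP x)⟩) ∈
        Cfsg.inndiagPOmegaPlus m F ↔
      DhO (Cfsg.quadFormPlus m F) g ∉ Cfsg.inndiagPOmegaPlus m F := by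
  haveI : Nonempty (Fin m ⊕ Fin m) := ⟨Sum.inl ⟨0, by omega⟩⟩
  have hQ := hQP (F := F) (m := m)
  have hgen : Cfsg.isometryGroup F (Cfsg.quadFormPlus m F) ≤ RR hQ :=
    iso_le_RR hQ (Or.inr (by rw [card_IP]; omega))
  by_cases h2 : (2 : F) = 0
  · rw [inndiag_eq_inn_two_P hm h2]
    obtain ⟨l, hl0, g', hg', e⟩ := exists_scalar_iso_two_P hm h2 g
    have e' : (g * ⟨rf hQP x, iso_le_sim _ (rf_mem hQP x)⟩ :
        ↥(Cfsg.Geo.quadSimilarityGroup (F := F) (Cfsg.quadFormPlus m F))).1 =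
        scalarGL l hl0 * (g' * rf hQP x) := by
      show g.1 * rf hQP x = _
      rw [e, mul_assoc]
    rw [DhO_mem_inn_iff_two_P hm h2 _ l hl0 (g' * rf hQP x) (mul_mem hg' (rf_mem hQP x)) e',
      DhO_mem_inn_iff_two_P hm h2 g l hl0 g' hg' e,
      par_mul_gen hQ hgen g' _ hg' (rf_mem hQP x)]
    have hρ : ¬ par (rf hQP x) := not_par_rf hQ _ hx
    tauto
  · have hodd := odd_card_of_two_ne_zero_P hm h2
    rw [mem_inndiag_iff_odd_P hm hodd, mem_inndiag_iff_odd_P hm hodd, map_mul,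
      chiDet_rf hQ (two_ne_zero_of_odd_card hodd) m card_IP _ hx]
    rcases Int.units_eq_one_or (chiDet hQ (two_ne_zero_of_odd_card hodd) m card_IP g)
      with h | h
    · rw [h]
      simp
    · rw [h]
      simp

/-- reflections do not induce inner-diagonal automorphisms -/
theorem DhO_rf_not_mem_inndiag (x : Fin m ⊕ Fin m → F) (hx : Cfsg.quadFormPlus m F x ≠ 0) :
    DhO (Cfsg.quadFormPlus m F) ⟨rf hQP x, iso_le_sim _ (rf_mem hQP x)⟩ ∉
      Cfsg.inndiagPOmegaPlus m F := by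
  have h := inndiag_iff_not_mul_rf hm (1 : ↥(Cfsg.Geo.quadSimilarityGroup (F := F)
    (Cfsg.quadFormPlus m F))) x hx
  rw [one_mul, map_one] at h
  intro hmem
  exact h.1 hmem (one_mem _)

/-- `Inndiag` is normalised by the image of the semisimilarity group -/
theorem inndiag_conj_PsO_P (x : ↥(GammaO (Cfsg.quadFormPlus m F)))
    (δ : MulAut (Cfsg.POmega F (Cfsg.quadFormPlus m F)))
    (hδ : δ ∈ Cfsg.inndiagPOmegaPlus m F) :
    PsO _ x * δ * (PsO _ x)⁻¹ ∈ Cfsg.inndiagPOmegaPlus m F := by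
  haveI : Nonempty (Fin m ⊕ Fin m) := ⟨Sum.inl ⟨0, by omega⟩⟩
  by_cases h2 : (2 : F) = 0
  · rw [inndiag_eq_inn_two_P hm h2] at hδ ⊢
    exact (innNormal _).conj_mem δ hδ _
  · have hodd := odd_card_of_two_ne_zero_P hm h2
    obtain ⟨g, rfl⟩ := inndiag_le_range_P hm hδ
    rw [PsO_conj_DhO, mem_inndiag_iff_odd_P hm hodd, chiDet_conjSim]
    exact (mem_inndiag_iff_odd_P hm hodd g).1 hδ

theorem inndiag_normal_P (hFac : FacG (Cfsg.quadFormPlus m F)) :
    (Cfsg.inndiagPOmegaPlus m F).Normal := by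
  constructor
  intro δ hδ y
  obtain ⟨x, rfl⟩ := PsO_surjective _ hFac y
  exact inndiag_conj_PsO_P hm x δ hδ

end uniform

end plus

end Cfsg.Agent.Lib.H7AutPM
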