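import Cfsg.Agent.Lib.Helper7.AutPM.GroupLemmas
import Mathlib

/-!
# Abstract shapes of `Out` (helper7)

* `equiv_two_twof`: `O ≃ Z₂ × Z_{2f}` from commuting elements `δ` (order 2, in the kernel of `ρ`) and
  `y` (order `2f`, with `ρ y` of order `f`), `δ ≠ y ^ f`, `|O| ≤ 4f`;
* `equiv_prod_zmod`: `O ≃ D × Z_f` from an embedded group `D` inside the kernel of `ρ` centralised by
  `w` of order `f` with `ρ w` of order `f`, `|O| ≤ |D| f`.
-/

set_option autoImplicit false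

namespace Cfsg.Agent.Lib.H7AutPM

theorem zpow_mem_of_dvd {O C : Type*} [Group O] [Group C] (ρ : O →* C) (y : O) {f : ℕ}
    (hρ : orderOf (ρ y) = f) (j : ℤ) (h : ρ (y ^ j) = 1) : ∃ k : ℤ, y ^ j = (y ^ f) ^ k := by
  rw [map_zpow] at h
  have h1 := orderOf_dvd_iff_zpow_eq_one.2 h
  rw [hρ] at h1
  obtain ⟨k, rfl⟩ := h1
  exact ⟨k, by rw [zpow_mul, zpow_natCast]⟩

theorem equiv_two_twof {O C : Type*} [Group O] [Group C] [Finite O] (ρ : O →* C) (δ y : O)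
    {f : ℕ} (hcomm : Commute δ y) (hδ : orderOf δ = 2) (hy : orderOf y = 2 * f)
    (hρδ : ρ δ = 1) (hρy : orderOf (ρ y) = f) (hne : δ ≠ y ^ f)
    (hcard : Nat.card O ≤ 4 * f) :
    Nonempty (O ≃* Multiplicative (ZMod 2 × ZMod (2 * f))) := by
  obtain ⟨f₁, hf₁, hr₁⟩ := exists_zmod_hom δ 2 hδ
  obtain ⟨f₂, hf₂, hr₂⟩ := exists_zmod_hom y (2 * f) hy
  have hf0 : f ≠ 0 := by
    rintro rfl
    rw [mul_zero] at hy
    have := orderOf_pos y
    omega
  have hδ2 : δ ^ 2 = 1 := by rw [← hδ]; exact pow_orderOf_eq_one δ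
  have hyf2 : (y ^ f) ^ 2 = 1 := by
    rw [← pow_mul, mul_comm, ← hy]; exact pow_orderOf_eq_one y
  have hz2 : ∀ (t : O), t ^ 2 = 1 → ∀ k : ℤ, t ^ k = 1 ∨ t ^ k = t := by
    intro t ht k
    rcases Int.even_or_odd' k with ⟨c, hc | hc⟩
    · left
      rw [hc, zpow_mul, zpow_ofNat, ht, one_zpow]
    · right
      rw [hc, zpow_add, zpow_mul, zpow_ofNat, ht, one_zpow, one_mul, zpow_one]
  have hdisj : f₁.range ⊓ f₂.range = ⊥ := by
    rw [hr₁, hr₂, eq_bot_iff]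
    intro z hz
    rw [Subgroup.mem_inf] at hz
    obtain ⟨h1, h2⟩ := hz
    rw [Subgroup.mem_bot]
    rw [Subgroup.mem_zpowers_iff] at h1 h2
    obtain ⟨i, hi⟩ := h1
    obtain ⟨j, hj⟩ := h2
    have hρz : ρ (y ^ j) = 1 := by
      rw [hj, ← hi, map_zpow, hρδ, one_zpow]
    obtain ⟨k, hk⟩ := zpow_mem_of_dvd ρ y hρy j hρz
    rw [hj] at hk
    rcases hz2 δ hδ2 i with h3 | h3
    · rw [← hi, h3]
    · rcases hz2 (y ^ f) hyf2 k with h4 | h4
      · rw [hk, h4]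
      · exfalso
        apply hne
        rw [← h3, hi, hk, h4]
  have hc : ∀ (h : Multiplicative (ZMod 2)) (k : Multiplicative (ZMod (2 * f))),
      Commute (f₁ h) (f₂ k) := by
    intro h k
    have h1 : f₁ h ∈ Subgroup.zpowers δ := by rw [← hr₁]; exact ⟨h, rfl⟩
    have h2 : f₂ k ∈ Subgroup.zpowers y := by rw [← hr₂]; exact ⟨k, rfl⟩
    obtain ⟨i, hi⟩ := Subgroup.mem_zpowers_iff.1 h1
    obtain ⟨j, hj⟩ := Subgroup.mem_zpowers_iff.1 h2
    rw [← hi, ← hj]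
    exact (hcomm.zpow_left i).zpow_right j
  obtain ⟨e⟩ := prod_equiv_of_commute f₁ f₂ hf₁ hf₂ hc hdisj (by
    have h1 : Nat.card (Multiplicative (ZMod 2)) = 2 := by
      rw [Nat.card_congr Multiplicative.toAdd]; exact Nat.card_zmod 2
    have h2 : Nat.card (Multiplicative (ZMod (2 * f))) = 2 * f := by
      rw [Nat.card_congr Multiplicative.toAdd]; exact Nat.card_zmod (2 * f)
    rw [h1, h2]
    omega)
  exact ⟨e.symm.trans (MulEquiv.prodMultiplicative (ZMod 2) (ZMod (2 * f))).symm⟩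

theorem equiv_prod_zmod {O C D : Type*} [Group O] [Group C] [Group D] [Finite O] (ρ : O →* C)
    (e : D →* O) (he : Function.Injective e) (hker : ∀ d, ρ (e d) = 1) (w : O) {f : ℕ}
    (hcomm : ∀ d, Commute (e d) w) (hw : orderOf w = f) (hρw : orderOf (ρ w) = f)
    (hcard : Nat.card O ≤ Nat.card D * f) :
    Nonempty (O ≃* D × Multiplicative (ZMod f)) := by
  obtain ⟨f₂, hf₂, hr₂⟩ := exists_zmod_hom w f hw
  have hf0 : f ≠ 0 := by
    rintro rfl
    have := orderOf_pos w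
    omega
  have hdisj : e.range ⊓ f₂.range = ⊥ := by
    rw [hr₂, eq_bot_iff]
    intro z hz
    rw [Subgroup.mem_inf] at hz
    obtain ⟨⟨d, rfl⟩, h2⟩ := hz
    rw [Subgroup.mem_bot]
    rw [Subgroup.mem_zpowers_iff] at h2
    obtain ⟨j, hj⟩ := h2
    have hρz : ρ (w ^ j) = 1 := by rw [hj, hker]
    obtain ⟨k, hk⟩ := zpow_mem_of_dvd ρ w hρw j hρz
    rw [← hj, hk, ← hw, pow_orderOf_eq_one, one_zpow]
  have hc : ∀ (d : D) (k : Multiplicative (ZMod f)), Commute (e d) (f₂ k) := by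
    intro d k
    have h2 : f₂ k ∈ Subgroup.zpowers w := by rw [← hr₂]; exact ⟨k, rfl⟩
    obtain ⟨j, hj⟩ := Subgroup.mem_zpowers_iff.1 h2
    rw [← hj]
    exact (hcomm d).zpow_right j
  obtain ⟨e'⟩ := prod_equiv_of_commute e f₂ he hf₂ hc hdisj (by
    have h2 : Nat.card (Multiplicative (ZMod f)) = f := by
      rw [Nat.card_congr Multiplicative.toAdd]; exact Nat.card_zmod f
    rw [h2]
    exact hcard)
  exact ⟨e'.symm⟩

end Cfsg.Agent.Lib.H7AutPM
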