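import Cfsg.Agent.Lib.Helper7.AutPM.OutM
import Cfsg.Agent.Lib.Helper7.AutPM.GroupLemmas2
import Cfsg.Agent.S2727
import Mathlib

/-!
# `Out(PΩ⁻_{2m+2}(q))` for odd `q`, given the factorisation (helper7)

`D₈ × Z_f` when `m` is even and `q ≡ 3 (mod 4)`, and `Z₂ × Z_{2f}` otherwise.
-/

set_option autoImplicit false
set_option linter.unusedSectionVars false
set_option linter.style.haveILetI false

namespace Cfsg.Agent.Lib.H7AutPM

open Matrix Cfsg Cfsg.Agent.Lib.H7AutPSp Cfsg.Agent.Lib.H7AutPO Cfsg.Agent.Lib.Helper5.OrthAut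
  Cfsg.Agent.H9.Orth Cfsg.Agent.Lib.Helper5.OrthSN Cfsg.Agent.Lib.Helper5.OrthPar
  Cfsg.Agent.Lib.Helper5.OrthCls Cfsg.Agent.Lib.Helper5.OrthPM

universe u

variable {F : Type u} [Field F] [Fintype F] {m : ℕ} {a b : F}

theorem klein_sq (t : Multiplicative (ZMod 2 × ZMod 2)) : t * t = 1 := by
  revert t
  decide

theorem klein_exists_ne (u : Multiplicative (ZMod 2 × ZMod 2)) :
    ∃ t : Multiplicative (ZMod 2 × ZMod 2), t ≠ 1 ∧ t ≠ u := by
  revert u
  decide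

theorem pow_mod_four_of_even (p f : ℕ) (hp : Odd p) (hf : Even f) : p ^ f % 4 = 1 := by
  obtain ⟨k, rfl⟩ := hf
  have h1 : p ^ 2 % 4 = 1 := by
    obtain ⟨j, rfl⟩ := hp
    have : (2 * j + 1) ^ 2 = 4 * (j * j + j) + 1 := by ring
    rw [this]
    omega
  rw [← two_mul, pow_mul, Nat.pow_mod, h1, one_pow]
  norm_num

section main

variable (hm : 3 ≤ m)
  (hab : ∀ z₁ z₂ : F, z₁ ^ 2 + a * z₁ * z₂ + b * z₂ ^ 2 = 0 → z₁ = 0 ∧ z₂ = 0)
  (hFac : FacG (Cfsg.quadFormMinus m F a b))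
include hm hab hFac

theorem rhoM_of_mem_pgo (d : MulAut (Cfsg.POmega F (Cfsg.quadFormMinus m F a b)))
    (hd : d ∈ Cfsg.pgoAut F (Cfsg.quadFormMinus m F a b)) : rhoM hm hab hFac d = 1 := by
  rw [Cfsg.Agent.Lib.H7AutPO.pgoAut_eq, ← rhoM_ker hm hab hFac] at hd
  exact hd

/-- the commutator of any automorphism with an element of the `PGO`-image lies in the
`PSO`-image -/
theorem comm_mem_pso (h2 : (2 : F) ≠ 0)
    (y d : MulAut (Cfsg.POmega F (Cfsg.quadFormMinus m F a b)))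
    (hd : d ∈ Cfsg.pgoAut F (Cfsg.quadFormMinus m F a b)) :
    y * d * y⁻¹ * d⁻¹ ∈ Cfsg.psoAut F (Cfsg.quadFormMinus m F a b) := by
  obtain ⟨x, rfl⟩ := PsO_surjective _ hFac y
  rw [Cfsg.Agent.Lib.H7AutPO.pgoAut_eq] at hd
  obtain ⟨g, rfl⟩ := hd
  exact PsO_comm_DhO_mem_pso (hQM a b hab) (hnM hm) h2 (m + 1) card_IM x g

theorem conj_pso_mem (y c : MulAut (Cfsg.POmega F (Cfsg.quadFormMinus m F a b)))
    (hc : c ∈ Cfsg.psoAut F (Cfsg.quadFormMinus m F a b)) :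
    y * c * y⁻¹ ∈ Cfsg.psoAut F (Cfsg.quadFormMinus m F a b) := by
  obtain ⟨x, rfl⟩ := PsO_surjective _ hFac y
  exact PsO_conj_pso_mem (hQM a b hab) x c hc

set_option maxHeartbeats 4000000 in
/-- **case `Z₂ × Z_{2f}`** -/
theorem out_minus_odd_B (p : ℕ) [Fact p.Prime] [CharP F p] {f : ℕ} (hf : 1 ≤ f)
    (hF : Fintype.card F = p ^ f) (hodd : Odd (Fintype.card F))
    (hcase : ¬ (Even m ∧ Fintype.card F % 4 = 3)) :
    Nonempty (Cfsg.Out (Cfsg.POmega F (Cfsg.quadFormMinus m F a b)) ≃*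
      Multiplicative (ZMod 2 × ZMod (2 * f))) := by
  have h2 : (2 : F) ≠ 0 := two_ne_zero_of_odd_card hodd
  have hcard : Nat.card (Cfsg.Out (Cfsg.POmega F (Cfsg.quadFormMinus m F a b))) = 4 * f := by
    apply card_out_minus hm hab hFac p hF 4
    rw [card_DhO_range_minus_odd hodd hm hab, if_neg hcase]
  haveI : Finite (Cfsg.Out (Cfsg.POmega F (Cfsg.quadFormMinus m F a b))) :=
    Nat.finite_of_card_ne_zero (by rw [hcard]; omega)
  have hpso : Cfsg.psoAut F (Cfsg.quadFormMinus m F a b) ≤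
      Cfsg.Inn (Cfsg.POmega F (Cfsg.quadFormMinus m F a b)) :=
    Subgroup.relIndex_eq_one.1 ((Cfsg.Agent.S2727.result hodd hm a b hab).2 hcase)
  obtain ⟨φ, hφ, hker⟩ := (Cfsg.Agent.S2728.result hodd hm a b hab).2 hcase
  obtain ⟨y, hy1, hy2, hy3⟩ := exists_out_order hm hab hFac p hf hF
  have hrmem : DhO (Cfsg.quadFormMinus m F a b) ⟨reflM m a, reflM_mem_sim⟩ ∈
      Cfsg.pgoAut F (Cfsg.quadFormMinus m F a b) := by
    rw [Cfsg.Agent.Lib.H7AutPO.pgoAut_eq]; exact ⟨_, rfl⟩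
  obtain ⟨t, ht1, ht2⟩ := klein_exists_ne (φ ⟨_, hrmem⟩)
  obtain ⟨d, rfl⟩ := hφ t
  set δ : Cfsg.Out (Cfsg.POmega F (Cfsg.quadFormMinus m F a b)) := QuotientGroup.mk d.1 with hδ
  have hδ1 : δ ≠ 1 := by
    intro h
    apply ht1
    have h1 : d.1 ∈ Cfsg.Inn (Cfsg.POmega F (Cfsg.quadFormMinus m F a b)) :=
      (QuotientGroup.eq_one_iff _).1 h
    have h3 : d ∈ φ.ker := by rw [hker]; exact Subgroup.mem_subgroupOf.2 h1
    exact MonoidHom.mem_ker.1 h3
  have hδ2 : δ ^ 2 = 1 := by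
    have h3 : d * d ∈ φ.ker := by rw [MonoidHom.mem_ker, map_mul, klein_sq]
    rw [hker, Subgroup.mem_subgroupOf] at h3
    rw [hδ, pow_two, ← QuotientGroup.mk_mul]
    exact (QuotientGroup.eq_one_iff _).2 h3
  haveI : Fact (Nat.Prime 2) := ⟨Nat.prime_two⟩
  have hδord : orderOf δ = 2 := orderOf_eq_prime hδ2 hδ1
  have hρδ : rhoBar hm hab hFac δ = 1 := by
    rw [hδ, rhoBar_mk]
    exact rhoM_of_mem_pgo hm hab hFac d.1 d.2
  have hρy : orderOf (rhoBar hm hab hFac (QuotientGroup.mk y)) = f := by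
    rw [rhoBar_mk, hy1, orderOf_frob p hF]
  have hcomm : Commute δ (QuotientGroup.mk y) := by
    have h1 := hpso (comm_mem_pso hm hab hFac h2 y d.1 d.2)
    have h3 : (QuotientGroup.mk (y * d.1 * y⁻¹ * d.1⁻¹) :
        Cfsg.Out (Cfsg.POmega F (Cfsg.quadFormMinus m F a b))) = 1 :=
      (QuotientGroup.eq_one_iff _).2 h1
    rw [QuotientGroup.mk_mul, QuotientGroup.mk_mul, QuotientGroup.mk_mul, QuotientGroup.mk_inv,
      QuotientGroup.mk_inv] at h3
    show δ * QuotientGroup.mk y = QuotientGroup.mk y * δ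
    rw [hδ]
    have h4 := mul_inv_eq_one.1 h3
    exact (mul_inv_eq_iff_eq_mul.1 h4).symm
  have hne : δ ≠ (QuotientGroup.mk y : Cfsg.Out (Cfsg.POmega F (Cfsg.quadFormMinus m F a b))) ^ f := by
    rw [← QuotientGroup.mk_pow, hy2, hδ]
    intro h
    apply ht2
    have h1 := QuotientGroup.eq.1 h
    have h3 : d⁻¹ * ⟨_, hrmem⟩ ∈ φ.ker := by rw [hker]; exact Subgroup.mem_subgroupOf.2 h1
    rw [MonoidHom.mem_ker, map_mul, map_inv] at h3
    exact (inv_mul_eq_one.1 h3)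
  obtain ⟨e⟩ := equiv_two_twof (rhoBar hm hab hFac) δ (QuotientGroup.mk y) hcomm hδord hy3 hρδ hρy
    hne (by rw [hcard])
  exact ⟨e⟩

set_option maxHeartbeats 4000000 in
/-- **case `D₈ × Z_f`** -/
theorem out_minus_odd_A (p : ℕ) [Fact p.Prime] [CharP F p] {f : ℕ} (hf : 1 ≤ f)
    (hF : Fintype.card F = p ^ f) (hodd : Odd (Fintype.card F))
    (hcase : Even m ∧ Fintype.card F % 4 = 3) :
    Nonempty (Cfsg.Out (Cfsg.POmega F (Cfsg.quadFormMinus m F a b)) ≃*
      DihedralGroup 4 × Multiplicative (ZMod f)) := by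
  have h2 : (2 : F) ≠ 0 := two_ne_zero_of_odd_card hodd
  have hpodd : Odd p := by
    rw [hF] at hodd
    exact (Nat.odd_pow_iff (by omega)).1 hodd
  have hfodd : Odd f := by
    rw [← Nat.not_even_iff_odd]
    intro hev
    have := pow_mod_four_of_even p f hpodd hev
    rw [hF] at hcase
    omega
  have hcard : Nat.card (Cfsg.Out (Cfsg.POmega F (Cfsg.quadFormMinus m F a b))) = 8 * f := by
    apply card_out_minus hm hab hFac p hF 8
    rw [card_DhO_range_minus_odd hodd hm hab, if_pos hcase]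
  haveI : Finite (Cfsg.Out (Cfsg.POmega F (Cfsg.quadFormMinus m F a b))) :=
    Nat.finite_of_card_ne_zero (by rw [hcard]; omega)
  have hidx : (Cfsg.Inn (Cfsg.POmega F (Cfsg.quadFormMinus m F a b))).relIndex
      (Cfsg.psoAut F (Cfsg.quadFormMinus m F a b)) = 2 :=
    (Cfsg.Agent.S2727.result hodd hm a b hab).1 hcase
  obtain ⟨φ, hφ, hker⟩ := (Cfsg.Agent.S2728.result hodd hm a b hab).1 hcase
  obtain ⟨y, hy1, hy2, hy3⟩ := exists_out_order hm hab hFac p hf hF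
  -- the embedding of `D₈`
  let ι' : ↥(Cfsg.pgoAut F (Cfsg.quadFormMinus m F a b)) →*
      Cfsg.Out (Cfsg.POmega F (Cfsg.quadFormMinus m F a b)) :=
    (QuotientGroup.mk' _).comp (Cfsg.pgoAut F (Cfsg.quadFormMinus m F a b)).subtype
  have hι : ∀ d, ι' d = QuotientGroup.mk d.1 := fun d => rfl
  have hιker : ι'.ker = φ.ker := by
    rw [hker]
    ext d
    rw [MonoidHom.mem_ker, hι, QuotientGroup.eq_one_iff, Subgroup.mem_subgroupOf]
  let e : DihedralGroup 4 →* Cfsg.Out (Cfsg.POmega F (Cfsg.quadFormMinus m F a b)) :=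
    φ.liftOfSurjective hφ ⟨ι', by rw [hιker]⟩
  have he : ∀ d, e (φ d) = ι' d := fun d =>
    φ.liftOfRightInverse_comp_apply _ _ ⟨ι', by rw [hιker]⟩ d
  have heinj : Function.Injective e := by
    rw [injective_iff_map_eq_one]
    intro t ht
    obtain ⟨d, rfl⟩ := hφ t
    rw [he] at ht
    have : d ∈ ι'.ker := ht
    rw [hιker] at this
    exact this
  set w : Cfsg.Out (Cfsg.POmega F (Cfsg.quadFormMinus m F a b)) :=
    (QuotientGroup.mk y) ^ 2 with hw
  have hword : orderOf w = f := by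
    have hg : (2 * f).gcd 2 = 2 := Nat.gcd_eq_right (dvd_mul_right 2 f)
    rw [hw, orderOf_pow, hy3, hg, Nat.mul_div_cancel_left _ (by norm_num)]
  have hρw : orderOf (rhoBar hm hab hFac w) = f := by
    rw [hw, map_pow, rhoBar_mk, hy1, orderOf_pow' _ (by norm_num), orderOf_frob p hF]
    have : Nat.gcd f 2 = 1 := by
      obtain ⟨k, rfl⟩ := hfodd
      simp
    rw [this, Nat.div_one]
  have hkerρ : ∀ t, rhoBar hm hab hFac (e t) = 1 := by
    intro t
    obtain ⟨d, rfl⟩ := hφ t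
    rw [he, hι, rhoBar_mk]
    exact rhoM_of_mem_pgo hm hab hFac d.1 d.2
  have hcomm : ∀ t, Commute (e t) w := by
    intro t
    obtain ⟨d, rfl⟩ := hφ t
    rw [he, hι, hw, ← QuotientGroup.mk_pow]
    obtain ⟨c, hc⟩ : ∃ c, c = y * d.1 * y⁻¹ * d.1⁻¹ := ⟨_, rfl⟩
    have hc1 : c ∈ Cfsg.psoAut F (Cfsg.quadFormMinus m F a b) := by
      rw [hc]; exact comm_mem_pso hm hab hFac h2 y d.1 d.2
    have hc2 := conj_pso_mem hm hab hFac y c hc1
    have hkey : y ^ 2 * d.1 * (y ^ 2)⁻¹ * d.1⁻¹ = (y * c * y⁻¹) * c := by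
      rw [hc, pow_two, _root_.mul_inv_rev]
      simp only [mul_assoc, inv_mul_cancel_left]
    have hmem : (y * c * y⁻¹) * c ∈ Cfsg.Inn (Cfsg.POmega F (Cfsg.quadFormMinus m F a b)) := by
      have h5 : ((Cfsg.Inn (Cfsg.POmega F (Cfsg.quadFormMinus m F a b))).subgroupOf
          (Cfsg.psoAut F (Cfsg.quadFormMinus m F a b))).index = 2 := hidx
      have h6 := Subgroup.mul_mem_iff_of_index_two h5
        (a := (⟨y * c * y⁻¹, hc2⟩ : ↥(Cfsg.psoAut F (Cfsg.quadFormMinus m F a b))))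
        (b := ⟨c, hc1⟩)
      rw [Subgroup.mem_subgroupOf, Subgroup.mem_subgroupOf, Subgroup.mem_subgroupOf] at h6
      apply h6.2
      constructor
      · intro h7
        have := (innNormal (Cfsg.POmega F (Cfsg.quadFormMinus m F a b))).conj_mem _ h7 y⁻¹
        rw [inv_inv] at this
        have e8 : y⁻¹ * (y * c * y⁻¹) * y = c := by group
        rw [e8] at this
        exact this
      · intro h7
        exact (innNormal (Cfsg.POmega F (Cfsg.quadFormMinus m F a b))).conj_mem _ h7 y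
    rw [← hkey] at hmem
    have h3 : (QuotientGroup.mk (y ^ 2 * d.1 * (y ^ 2)⁻¹ * d.1⁻¹) :
        Cfsg.Out (Cfsg.POmega F (Cfsg.quadFormMinus m F a b))) = 1 :=
      (QuotientGroup.eq_one_iff _).2 hmem
    rw [QuotientGroup.mk_mul, QuotientGroup.mk_mul, QuotientGroup.mk_mul, QuotientGroup.mk_inv,
      QuotientGroup.mk_inv] at h3
    have h4 := mul_inv_eq_one.1 h3
    exact (mul_inv_eq_iff_eq_mul.1 h4).symm
  exact equiv_prod_zmod (rhoBar hm hab hFac) e heinj hkerρ w hcomm hword hρw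
    (by rw [hcard, DihedralGroup.nat_card])

end main

/-- **`Out(PΩ⁻_{2m}(q))`, `q` odd** (the form `quadFormMinus (m - 1)`), given the factorisation -/
theorem out_minus_odd_final {p f m : ℕ} [Fact p.Prime] (hf : 1 ≤ f)
    (hF : Fintype.card F = p ^ f) (hp : p ≠ 2) (hm : 4 ≤ m) (a b : F)
    (hab : ∀ z₁ z₂ : F, z₁ ^ 2 + a * z₁ * z₂ + b * z₂ ^ 2 = 0 → z₁ = 0 ∧ z₂ = 0)
    (hFac : FacG (Cfsg.quadFormMinus (m - 1) F a b)) :
    if p ^ f % 4 = 3 ∧ Odd m then
      Nonempty (Cfsg.Out (Cfsg.POmega F (Cfsg.quadFormMinus (m - 1) F a b)) ≃*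
        DihedralGroup 4 × Multiplicative (ZMod f))
    else
      Nonempty (Cfsg.Out (Cfsg.POmega F (Cfsg.quadFormMinus (m - 1) F a b)) ≃*
        Multiplicative (ZMod 2 × ZMod (2 * f))) := by
  haveI := Cfsg.Agent.S2690.charP_of_card_pow p f hF
  have hm' : 3 ≤ m - 1 := by omega
  have hpodd : Odd p := (Fact.out : p.Prime).odd_of_ne_two hp
  have hodd : Odd (Fintype.card F) := by rw [hF]; exact hpodd.pow
  have hiff : (Even (m - 1) ∧ Fintype.card F % 4 = 3) ↔ (p ^ f % 4 = 3 ∧ Odd m) := by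
    rw [hF]
    have : Even (m - 1) ↔ Odd m := by
      rw [← Nat.not_even_iff_odd]
      rcases Nat.even_or_odd m with h | h
      · obtain ⟨j, rfl⟩ := h
        constructor
        · intro h3
          exfalso
          rw [Nat.even_iff] at h3
          omega
        · intro h3
          exact absurd ⟨j, rfl⟩ h3
      · obtain ⟨j, rfl⟩ := h
        constructor
        · intro _ h3
          rw [Nat.even_iff] at h3
          omega
        · intro _
          exact ⟨j, by omega⟩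
    rw [this]
    tauto
  by_cases hc : p ^ f % 4 = 3 ∧ Odd m
  · rw [if_pos hc]
    exact out_minus_odd_A hm' hab hFac p hf hF hodd (hiff.2 hc)
  · rw [if_neg hc]
    exact out_minus_odd_B hm' hab hFac p hf hF hodd (fun h => hc (hiff.1 h))

end Cfsg.Agent.Lib.H7AutPM
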