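import Cfsg.Agent.Lib.Helper7.AutPM.CosetMainM
import Cfsg.Agent.Lib.Helper7.AutPSL.FixedField
import Mathlib

/-!
# The centraliser of a standard field automorphism in `Inndiag(PΩ⁻_{2m+2}(F))` (helper7)

`C_{Inndiag}(PhiM σ) ≃ Inndiag(PΩ⁻_{2m+2}(F₀))` for `F₀` the fixed field of `σ`; all
characteristics.
-/

set_option autoImplicit false
set_option linter.unusedSectionVars false
set_option linter.style.haveILetI false

namespace Cfsg.Agent.Lib.H7AutPM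

open Matrix Cfsg Cfsg.Agent.Lib.H7AutPSp Cfsg.Agent.Lib.H7AutPO Cfsg.Agent.Lib.H7AutPSL
  Cfsg.Agent.Lib.Helper5.OrthAut Cfsg.Agent.H9.Orth Cfsg.Agent.Lib.Helper5.OrthSN
  Cfsg.Agent.Lib.Helper5.OrthPar Cfsg.Agent.Lib.Helper5.OrthCls Cfsg.Agent.Lib.Helper5.OrthPM

universe u v

section abstract

variable {S A B : Type*} [Group S] [Group A] [Group B]

/-- two surjections with the same kernel have isomorphic images -/
noncomputable def equivOfSurjKer (f₁ : S →* A) (f₂ : S →* B) (h₁ : Function.Surjective f₁)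
    (h₂ : Function.Surjective f₂) (hk : f₁.ker = f₂.ker) : A ≃* B :=
  (QuotientGroup.quotientKerEquivOfSurjective f₁ h₁).symm.trans
    ((QuotientGroup.quotientMulEquivOfEq hk).trans
      (QuotientGroup.quotientKerEquivOfSurjective f₂ h₂))

end abstract

section base

variable {F : Type u} [Field F] {F₀ : Type v} [Field F₀] (ι : F₀ →+* F) (m : ℕ) (a₀ b₀ : F₀)

/-- base change of similarities of the minus-type form -/
noncomputable def mapSimM :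
    ↥(Cfsg.Geo.quadSimilarityGroup (F := F₀) (Cfsg.quadFormMinus m F₀ a₀ b₀)) →*
      ↥(Cfsg.Geo.quadSimilarityGroup (F := F) (Cfsg.quadFormMinus m F (ι a₀) (ι b₀))) :=
  ((Matrix.GeneralLinearGroup.map ι).comp
      (Cfsg.Geo.quadSimilarityGroup (F := F₀) (Cfsg.quadFormMinus m F₀ a₀ b₀)).subtype).codRestrict _
    (fun g => by
      obtain ⟨c, hc⟩ := (mem_sim_iff _ g.1).1 g.2
      rw [mem_sim_iff]
      exact ⟨Units.map (ι : F₀ →* F) c, fun w => sim_push_minus ι m a₀ b₀ g.1.val c hc w⟩)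

theorem mapSimM_val
    (g : ↥(Cfsg.Geo.quadSimilarityGroup (F := F₀) (Cfsg.quadFormMinus m F₀ a₀ b₀))) :
    (mapSimM ι m a₀ b₀ g).1.val = g.1.val.map ι := rfl

theorem mapSimM_coe
    (g : ↥(Cfsg.Geo.quadSimilarityGroup (F := F₀) (Cfsg.quadFormMinus m F₀ a₀ b₀))) :
    (mapSimM ι m a₀ b₀ g).1 = Matrix.GeneralLinearGroup.map ι g.1 := rfl

end base

section cent

variable {F : Type u} [Field F] [Fintype F] {m : ℕ} {a b : F}

/-- the similarities whose automorphism centralises the standard field automorphism -/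
theorem comm_PhiM_iff (hm : 3 ≤ m)
    (hab : ∀ z₁ z₂ : F, z₁ ^ 2 + a * z₁ * z₂ + b * z₂ ^ 2 = 0 → z₁ = 0 ∧ z₂ = 0)
    (σ : RingAut F) (ha : σ a = a) (hb : σ b = b)
    (g : ↥(Cfsg.Geo.quadSimilarityGroup (F := F) (Cfsg.quadFormMinus m F a b))) :
    DhO _ g * PhiM σ ha hb = PhiM σ ha hb * DhO _ g ↔
      ∃ d : F, d ≠ 0 ∧ g.1.val.map σ = d • g.1.val := by
  have hQ := hQM (m := m) a b hab
  have hn := hnM (m := m) hm
  have e3 : PhiM σ ha hb * DhO (Cfsg.quadFormMinus m F a b) g * (PhiM σ ha hb)⁻¹ =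
      DhO _ (conjSim (stdG σ ha hb) g) := PsO_conj_DhO (stdG σ ha hb) g
  have hval : (conjSim (stdG σ ha hb) g).1.val = g.1.val.map σ := by
    rw [conjSim_val, conjG_apply, stdG_left, stdG_right, inv_one, mul_one, one_mul, gmapI_val]
  have h1 : DhO _ g * PhiM σ ha hb = PhiM σ ha hb * DhO _ g ↔
      DhO _ (g⁻¹ * conjSim (stdG σ ha hb) g) = 1 := by
    rw [map_mul, map_inv, ← e3, inv_mul_eq_one, eq_mul_inv_iff_mul_eq, eq_comm]
  rw [h1]
  constructor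
  · intro h
    obtain ⟨l, hl⟩ := scalar_of_DhO_eq_one hQ hn _ h
    have hl' : ∀ v, (g.1.val.map σ) *ᵥ v = (l • g.1.val) *ᵥ v := by
      intro v
      have := hl v
      rw [Subgroup.coe_mul, act_mul, Subgroup.coe_inv] at this
      have h2 := congrArg (act g.1) this
      rw [← act_mul, mul_inv_cancel, act_one] at h2
      rw [← hval, Matrix.smul_mulVec]
      show act (conjSim (stdG σ ha hb) g).1 v = l • act g.1 v
      rw [h2]
      show g.1.val *ᵥ (l • v) = l • (g.1.val *ᵥ v)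
      rw [Matrix.mulVec_smul]
    have hmat : g.1.val.map σ = l • g.1.val := by
      apply Matrix.toLin'.injective
      apply LinearMap.ext
      intro x
      rw [Matrix.toLin'_apply, Matrix.toLin'_apply]
      exact hl' x
    refine ⟨l, ?_, hmat⟩
    rintro rfl
    rw [zero_smul, ← hval] at hmat
    have h3 : (conjSim (stdG σ ha hb) g).1.val * (conjSim (stdG σ ha hb) g).1⁻¹.val = 1 := by
      rw [← Units.val_mul, mul_inv_cancel, Units.val_one]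
    rw [hmat, Matrix.zero_mul] at h3
    have h4 := congrFun (congrFun h3 (Sum.inr 0)) (Sum.inr 0)
    rw [Matrix.zero_apply, Matrix.one_apply_eq] at h4
    exact zero_ne_one h4
  · rintro ⟨d, hd0, hd⟩
    have e1 : g⁻¹ * conjSim (stdG σ ha hb) g =
        (⟨scalarGL d hd0, scalarGL_mem_GO hQ d hd0⟩ :
          ↥(Cfsg.Geo.quadSimilarityGroup (F := F) (Cfsg.quadFormMinus m F a b))) := by
      rw [inv_mul_eq_iff_eq_mul]
      apply sim_ext'
      show _ = (g.1 * scalarGL d hd0).val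
      rw [hval, hd, Units.val_mul]
      show _ = g.1.val * (d • (1 : Matrix (IM m) (IM m) F))
      rw [Matrix.mul_smul, Matrix.mul_one]
    rw [e1, DhO_scalarG hQ]

/-- a similarity centralising the field automorphism is, up to a scalar, fixed by it -/
theorem exists_fixed_rep_M (hm : 3 ≤ m)
    (hab : ∀ z₁ z₂ : F, z₁ ^ 2 + a * z₁ * z₂ + b * z₂ ^ 2 = 0 → z₁ = 0 ∧ z₂ = 0)
    (σ : RingAut F) (ha : σ a = a) (hb : σ b = b) (r : ℕ)
    (hr : 0 < r) (hσ : σ ^ r = 1) (hinj : ∀ i j, i < r → j < r → σ ^ i = σ ^ j → i = j)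
    (g : ↥(Cfsg.Geo.quadSimilarityGroup (F := F) (Cfsg.quadFormMinus m F a b)))
    (hg : DhO _ g * PhiM σ ha hb = PhiM σ ha hb * DhO _ g) :
    ∃ (c : F) (_ : c ≠ 0), (c • g.1.val).map σ = c • g.1.val := by
  obtain ⟨d, hd0, h'⟩ := (comm_PhiM_iff hm hab σ ha hb g).1 hg
  have hN : fnorm σ d r = 1 := by
    have e := map_pow_of_semifixedG σ g.1.val d h' r
    rw [hσ] at e
    have e1 : g.1.val.map (1 : RingAut F) = g.1.val := by
      ext i j
      rfl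
    rw [e1] at e
    have e2 : g.1.val * g.1⁻¹.val = (fnorm σ d r • g.1.val) * g.1⁻¹.val := by rw [← e]
    rw [Matrix.smul_mul, ← Units.val_mul, mul_inv_cancel, Units.val_one] at e2
    have e3 := congrFun (congrFun e2 (Sum.inr 0)) (Sum.inr 0)
    rw [Matrix.smul_apply, Matrix.one_apply_eq, smul_eq_mul, mul_one] at e3
    exact e3.symm
  obtain ⟨c, hc0, hc⟩ := hilbert90_field σ r hr hσ hinj d hN
  refine ⟨c, hc0, ?_⟩
  rw [map_smulG, h', smul_smul, mul_comm, hc]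

end cent

section compat

variable {F : Type u} [Field F] [Fintype F] {F₀ : Type v} [Field F₀] [Fintype F₀]
  (ι : F₀ →+* F) {m : ℕ} (a₀ b₀ : F₀)

include ι in
theorem two_eq_zero_base_iff : (2 : F₀) = 0 ↔ (2 : F) = 0 := by
  constructor
  · intro h
    have := congrArg ι h
    rwa [map_ofNat, map_zero] at this
  · intro h
    apply ι.injective
    rw [map_ofNat, map_zero]
    exact h

/-- base change of an isometry is an isometry -/
theorem map_mem_iso (g' : GL (IM m) F₀)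
    (hg' : g' ∈ Cfsg.isometryGroup F₀ (Cfsg.quadFormMinus m F₀ a₀ b₀)) :
    Matrix.GeneralLinearGroup.map ι g' ∈
      Cfsg.isometryGroup F (Cfsg.quadFormMinus m F (ι a₀) (ι b₀)) := by
  rw [mem_iso_iff] at hg' ⊢
  intro w
  have := sim_push_minus ι m a₀ b₀ g'.val 1 (fun v => by rw [hg' v, one_mul]) w
  rw [map_one, one_mul] at this
  exact this

/-- **`Inndiag` is compatible with base change** -/
theorem mapSimM_mem_inndiag_iff (hm : 3 ≤ m)
    (hab : ∀ z₁ z₂ : F, z₁ ^ 2 + ι a₀ * z₁ * z₂ + ι b₀ * z₂ ^ 2 = 0 → z₁ = 0 ∧ z₂ = 0)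
    (g₀ : ↥(Cfsg.Geo.quadSimilarityGroup (F := F₀) (Cfsg.quadFormMinus m F₀ a₀ b₀))) :
    DhO _ (mapSimM ι m a₀ b₀ g₀) ∈ Cfsg.inndiagPOmegaMinus m F (ι a₀) (ι b₀) ↔
      DhO _ g₀ ∈ Cfsg.inndiagPOmegaMinus m F₀ a₀ b₀ := by
  have hab₀ := aniso_of_push ι a₀ b₀ hab
  by_cases h2 : (2 : F) = 0
  · have h2₀ : (2 : F₀) = 0 := (two_eq_zero_base_iff ι).2 h2
    rw [inndiag_eq_inn_two hm hab h2, inndiag_eq_inn_two hm hab₀ h2₀]
    obtain ⟨l, hl0, g', hg', e⟩ := exists_scalar_iso_two hm hab₀ h2₀ g₀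
    have hg'' := map_mem_iso ι a₀ b₀ g' hg'
    have e' : (mapSimM ι m a₀ b₀ g₀).1 =
        scalarGL (ι l) ((map_ne_zero ι).2 hl0) * Matrix.GeneralLinearGroup.map ι g' := by
      rw [mapSimM_coe, e, map_mul, map_scalarGL]
    rw [DhO_mem_inn_iff_two hm hab h2 _ (ι l) _ (Matrix.GeneralLinearGroup.map ι g') hg'' e',
      DhO_mem_inn_iff_two hm hab₀ h2₀ g₀ l hl0 g' hg' e, par_map]
  · have h2₀ : (2 : F₀) ≠ 0 := fun h => h2 ((two_eq_zero_base_iff ι).1 h)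
    have hodd := odd_card_of_two_ne_zero hm hab h2
    have hodd₀ := odd_card_of_two_ne_zero hm hab₀ h2₀
    rw [mem_inndiag_iff_odd hm hab hodd, mem_inndiag_iff_odd hm hab₀ hodd₀, chiDet_eq_one_iff,
      chiDet_eq_one_iff]
    have hmu : (mu (mapSimM ι m a₀ b₀ g₀) : F) = ι (mu g₀ : F₀) :=
      mu_unique (hQM (ι a₀) (ι b₀) hab) _ _
        (fun v => sim_push_minus ι m a₀ b₀ g₀.1.val _ (mu_spec g₀) v)
    have hdet : ((mapSimM ι m a₀ b₀ g₀ : GL (IM m) F) : Matrix (IM m) (IM m) F).det =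
        ι ((g₀ : GL (IM m) F₀) : Matrix (IM m) (IM m) F₀).det := by
      rw [RingHom.map_det]
      rfl
    rw [hmu, hdet, ← map_pow]
    exact ι.injective.eq_iff

/-- a similarity acting as a scalar is a scalar matrix -/
theorem eq_scalarGL_of_act {κ : Type} [Fintype κ] [DecidableEq κ] {K : Type*} [Field K]
    (g : GL κ K) (l : K) (hl0 : l ≠ 0) (h : ∀ v, act g v = l • v) : g = scalarGL l hl0 := by
  apply gl_ext
  intro v
  rw [h, act_scalarGL]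

theorem scalar_ne_zero_of_act {κ : Type} [Fintype κ] [DecidableEq κ] [Nonempty κ] {K : Type*}
    [Field K] (g : GL κ K) (l : K) (h : ∀ v, act g v = l • v) : l ≠ 0 := by
  rintro rfl
  obtain ⟨k⟩ := ‹Nonempty κ›
  have h0 := h (Pi.single k 1)
  rw [zero_smul] at h0
  have h1 : (Pi.single k 1 : κ → K) = 0 := act_injective g (h0.trans (act_zero g).symm)
  have := congrFun h1 k
  rw [Pi.single_eq_same, Pi.zero_apply] at this
  exact one_ne_zero this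

/-- the kernel of `DhO` is compatible with base change -/
theorem DhO_mapSimM_eq_one_iff (hm : 3 ≤ m)
    (hab : ∀ z₁ z₂ : F, z₁ ^ 2 + ι a₀ * z₁ * z₂ + ι b₀ * z₂ ^ 2 = 0 → z₁ = 0 ∧ z₂ = 0)
    (g₀ : ↥(Cfsg.Geo.quadSimilarityGroup (F := F₀) (Cfsg.quadFormMinus m F₀ a₀ b₀))) :
    DhO _ (mapSimM ι m a₀ b₀ g₀) = 1 ↔ DhO _ g₀ = 1 := by
  have hab₀ := aniso_of_push ι a₀ b₀ hab
  have hQ := hQM (m := m) (ι a₀) (ι b₀) hab
  have hQ₀ := hQM (m := m) a₀ b₀ hab₀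
  have hn := hnM (m := m) hm
  constructor
  · intro h
    obtain ⟨l, hl⟩ := scalar_of_DhO_eq_one hQ hn _ h
    have hl0 := scalar_ne_zero_of_act _ l hl
    have e1 := eq_scalarGL_of_act _ l hl0 hl
    have hent : ∀ i k, ι (g₀.1.val i k) = if i = k then l else 0 := by
      intro i k
      have e1' : (mapSimM ι m a₀ b₀ g₀).1.val = (scalarGL l hl0 : GL (IM m) F).val := by rw [e1]
      rw [mapSimM_val] at e1'
      have := congrFun (congrFun e1' i) k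
      rw [Matrix.map_apply] at this
      rw [this]
      show (l • (1 : Matrix (IM m) (IM m) F)) i k = _
      rw [Matrix.smul_apply, Matrix.one_apply, smul_eq_mul, mul_ite, mul_one, mul_zero]
    obtain ⟨l₀, hl₀⟩ : ∃ l₀, l₀ = g₀.1.val (Sum.inr 0) (Sum.inr 0) := ⟨_, rfl⟩
    have hιl : ι l₀ = l := by rw [hl₀, hent, if_pos rfl]
    have hl₀0 : l₀ ≠ 0 := by
      rintro rfl
      rw [map_zero] at hιl
      exact hl0 hιl.symm
    have e2 : g₀ = (⟨scalarGL l₀ hl₀0, scalarGL_mem_GO hQ₀ l₀ hl₀0⟩ :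
        ↥(Cfsg.Geo.quadSimilarityGroup (F := F₀) (Cfsg.quadFormMinus m F₀ a₀ b₀))) := by
      apply sim_ext'
      ext i k
      apply ι.injective
      rw [hent]
      show _ = ι ((l₀ • (1 : Matrix (IM m) (IM m) F₀)) i k)
      rw [Matrix.smul_apply, Matrix.one_apply, smul_eq_mul, mul_ite, mul_one, mul_zero,
        apply_ite ι, hιl, map_zero]
    rw [e2, DhO_scalarG hQ₀]
  · intro h
    obtain ⟨l₀, hl⟩ := scalar_of_DhO_eq_one hQ₀ hn _ h
    have hl0 := scalar_ne_zero_of_act _ l₀ hl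
    have e1 := eq_scalarGL_of_act _ l₀ hl0 hl
    have e2 : mapSimM ι m a₀ b₀ g₀ =
        (⟨scalarGL (ι l₀) ((map_ne_zero ι).2 hl0),
          scalarGL_mem_GO hQ (ι l₀) ((map_ne_zero ι).2 hl0)⟩ :
        ↥(Cfsg.Geo.quadSimilarityGroup (F := F) (Cfsg.quadFormMinus m F (ι a₀) (ι b₀)))) := by
      apply Subtype.ext
      rw [mapSimM_coe, e1, map_scalarGL]
    rw [e2, DhO_scalarG hQ]

end compat

section iso

variable {F : Type u} [Field F] [Fintype F] {F₀ : Type v} [Field F₀] [Fintype F₀]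
  (ι : F₀ →+* F) (m : ℕ) (a₀ b₀ : F₀)

/-- the similarities over `F₀` inducing inner-diagonal automorphisms -/
noncomputable def simInndiag :
    Subgroup ↥(Cfsg.Geo.quadSimilarityGroup (F := F₀) (Cfsg.quadFormMinus m F₀ a₀ b₀)) :=
  (Cfsg.inndiagPOmegaMinus m F₀ a₀ b₀).comap (DhO (Cfsg.quadFormMinus m F₀ a₀ b₀))

variable {m}

/-- the homomorphism onto `Inndiag(PΩ⁻(F₀))` -/
noncomputable def baseHomM :
    ↥(simInndiag m a₀ b₀) →* ↥(Cfsg.inndiagPOmegaMinus m F₀ a₀ b₀) :=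
  ((DhO (Cfsg.quadFormMinus m F₀ a₀ b₀)).comp (simInndiag m a₀ b₀).subtype).codRestrict _
    (fun g => g.2)

theorem baseHomM_val (g : ↥(simInndiag m a₀ b₀)) :
    (baseHomM a₀ b₀ g : MulAut (Cfsg.POmega F₀ (Cfsg.quadFormMinus m F₀ a₀ b₀))) =
      DhO _ g.1 := rfl

theorem baseHomM_surjective (hm : 3 ≤ m)
    (hab₀ : ∀ z₁ z₂ : F₀, z₁ ^ 2 + a₀ * z₁ * z₂ + b₀ * z₂ ^ 2 = 0 → z₁ = 0 ∧ z₂ = 0) :
    Function.Surjective (baseHomM (m := m) a₀ b₀) := by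
  rintro ⟨δ, hδ⟩
  obtain ⟨g, rfl⟩ := inndiag_le_range hm hab₀ hδ
  exact ⟨⟨g, hδ⟩, rfl⟩

/-- the homomorphism onto the centraliser of the field automorphism -/
noncomputable def centHomM (hm : 3 ≤ m)
    (hab : ∀ z₁ z₂ : F, z₁ ^ 2 + ι a₀ * z₁ * z₂ + ι b₀ * z₂ ^ 2 = 0 → z₁ = 0 ∧ z₂ = 0)
    (σ : RingAut F) (hι : ∀ s, σ (ι s) = ι s) :
    ↥(simInndiag m a₀ b₀) →*
      ↥(Cfsg.inndiagPOmegaMinus m F (ι a₀) (ι b₀) ⊓
        Subgroup.centralizer {PhiM (m := m) σ (hι a₀) (hι b₀)}) :=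
  ((DhO (Cfsg.quadFormMinus m F (ι a₀) (ι b₀))).comp
    ((mapSimM ι m a₀ b₀).comp (simInndiag m a₀ b₀).subtype)).codRestrict _ (fun g => by
      refine Subgroup.mem_inf.2 ⟨(mapSimM_mem_inndiag_iff ι a₀ b₀ hm hab g.1).2 g.2, ?_⟩
      rw [mem_centralizer_singleton]
      show DhO _ (mapSimM ι m a₀ b₀ g.1) * PhiM σ (hι a₀) (hι b₀) =
        PhiM σ (hι a₀) (hι b₀) * DhO _ (mapSimM ι m a₀ b₀ g.1)
      rw [comm_PhiM_iff hm hab]
      refine ⟨1, one_ne_zero, ?_⟩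
      rw [one_smul, mapSimM_val]
      ext i k
      exact hι _)

theorem centHomM_val (hm : 3 ≤ m)
    (hab : ∀ z₁ z₂ : F, z₁ ^ 2 + ι a₀ * z₁ * z₂ + ι b₀ * z₂ ^ 2 = 0 → z₁ = 0 ∧ z₂ = 0)
    (σ : RingAut F) (hι : ∀ s, σ (ι s) = ι s) (g : ↥(simInndiag m a₀ b₀)) :
    (centHomM ι a₀ b₀ hm hab σ hι g :
      MulAut (Cfsg.POmega F (Cfsg.quadFormMinus m F (ι a₀) (ι b₀)))) =
      DhO _ (mapSimM ι m a₀ b₀ g.1) := rfl

theorem centHomM_ker (hm : 3 ≤ m)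
    (hab : ∀ z₁ z₂ : F, z₁ ^ 2 + ι a₀ * z₁ * z₂ + ι b₀ * z₂ ^ 2 = 0 → z₁ = 0 ∧ z₂ = 0)
    (σ : RingAut F) (hι : ∀ s, σ (ι s) = ι s) :
    (centHomM ι a₀ b₀ hm hab σ hι).ker = (baseHomM (m := m) a₀ b₀).ker := by
  ext g
  have h1 : g ∈ (centHomM ι a₀ b₀ hm hab σ hι).ker ↔ DhO _ (mapSimM ι m a₀ b₀ g.1) = 1 := by
    rw [MonoidHom.mem_ker, Subtype.ext_iff, centHomM_val]
    rfl
  have h2 : g ∈ (baseHomM (m := m) a₀ b₀).ker ↔ DhO _ g.1 = 1 := by
    rw [MonoidHom.mem_ker, Subtype.ext_iff, baseHomM_val]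
    rfl
  rw [h1, h2]
  exact DhO_mapSimM_eq_one_iff ι a₀ b₀ hm hab g.1

theorem quadFormMinus_single_inr (K : Type*) [Field K] (a b : K) :
    Cfsg.quadFormMinus m K a b (Pi.single (Sum.inr 0) 1) = 1 := by
  unfold Cfsg.quadFormMinus
  simp

set_option maxHeartbeats 1600000 in
theorem centHomM_surjective (hm : 3 ≤ m)
    (hab : ∀ z₁ z₂ : F, z₁ ^ 2 + ι a₀ * z₁ * z₂ + ι b₀ * z₂ ^ 2 = 0 → z₁ = 0 ∧ z₂ = 0)
    (σ : RingAut F) (r : ℕ) (hr : 0 < r) (hσ : σ ^ r = 1)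
    (hinj : ∀ i j, i < r → j < r → σ ^ i = σ ^ j → i = j)
    (hι : ∀ t : F, σ t = t ↔ ∃ s, ι s = t) :
    Function.Surjective (centHomM ι a₀ b₀ hm hab σ (fun s => (hι (ι s)).2 ⟨s, rfl⟩)) := by
  have hQ := hQM (m := m) (ι a₀) (ι b₀) hab
  rintro ⟨c, hc⟩
  obtain ⟨hcD, hcent⟩ := Subgroup.mem_inf.1 hc
  obtain ⟨g, rfl⟩ := inndiag_le_range hm hab hcD
  rw [mem_centralizer_singleton] at hcent
  obtain ⟨c', hc'0, hfix⟩ := exists_fixed_rep_M hm hab σ _ _ r hr hσ hinj g hcent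
  obtain ⟨M, hM⟩ : ∃ M, M = c' • g.1.val := ⟨_, rfl⟩
  rw [← hM] at hfix
  have hentry : ∀ i k, ∃ s, ι s = M i k := by
    intro i k
    rw [← hι]
    have := congrFun (congrFun hfix i) k
    rw [Matrix.map_apply] at this
    exact this
  choose M₀ hM₀ using hentry
  have hmap : (Matrix.of M₀).map ι = M := by
    ext i k
    rw [Matrix.map_apply, Matrix.of_apply, hM₀]
  have hmapv : ∀ v : IM m → F₀, M *ᵥ (vpush ι v) = vpush ι (Matrix.of M₀ *ᵥ v) := by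
    intro v
    rw [vpush_mulVec, hmap]
  -- the multiplier descends
  obtain ⟨cg, hcg⟩ := (mem_sim_iff _ g.1).1 g.2
  have hMsim : ∀ w, Cfsg.quadFormMinus m F (ι a₀) (ι b₀) (M *ᵥ w) =
      (c' * c' * (cg : F)) * Cfsg.quadFormMinus m F (ι a₀) (ι b₀) w := by
    intro w
    rw [hM, Matrix.smul_mulVec, Q_smul hQ, hcg]
    ring
  obtain ⟨C₀, hC₀⟩ : ∃ C₀ : F₀, ι C₀ = c' * c' * (cg : F) := by
    have h1 := hMsim (vpush ι (Pi.single (Sum.inr 0) 1))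
    rw [hmapv, quadFormMinus_vpush, quadFormMinus_vpush, quadFormMinus_single_inr, map_one,
      mul_one] at h1
    exact ⟨_, h1⟩
  have hC₀0 : C₀ ≠ 0 := by
    rintro rfl
    rw [map_zero] at hC₀
    exact mul_ne_zero (mul_ne_zero hc'0 hc'0) cg.ne_zero hC₀.symm
  have hform : ∀ v, Cfsg.quadFormMinus m F₀ a₀ b₀ (Matrix.of M₀ *ᵥ v) =
      C₀ * Cfsg.quadFormMinus m F₀ a₀ b₀ v := by
    intro v
    apply ι.injective
    rw [← quadFormMinus_vpush, ← hmapv, hMsim, map_mul, hC₀, quadFormMinus_vpush]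
  have hMdet : M.det ≠ 0 := by
    rw [hM, Matrix.det_smul]
    have h2' : IsUnit g.1.val.det := (Matrix.isUnit_iff_isUnit_det _).1 g.1.isUnit
    exact mul_ne_zero (pow_ne_zero _ hc'0) h2'.ne_zero
  have hdet : (Matrix.of M₀).det ≠ 0 := by
    intro h0
    have h1 : ι (Matrix.of M₀).det = M.det := by
      rw [RingHom.map_det, RingHom.mapMatrix_apply, hmap]
    rw [h0, map_zero] at h1
    exact hMdet h1.symm
  obtain ⟨g₀, hg₀⟩ : ∃ g₀ : ↥(Cfsg.Geo.quadSimilarityGroup (F := F₀)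
      (Cfsg.quadFormMinus m F₀ a₀ b₀)), g₀.1.val = Matrix.of M₀ :=
    ⟨⟨Matrix.GeneralLinearGroup.mkOfDetNeZero (Matrix.of M₀) hdet,
      (mem_sim_iff _ _).2 ⟨Units.mk0 C₀ hC₀0, hform⟩⟩, rfl⟩
  have e : mapSimM ι m a₀ b₀ g₀ =
      (⟨scalarGL c' hc'0, scalarGL_mem_GO hQ c' hc'0⟩ :
        ↥(Cfsg.Geo.quadSimilarityGroup (F := F) (Cfsg.quadFormMinus m F (ι a₀) (ι b₀)))) * g := by
    apply sim_ext'
    rw [mapSimM_val, hg₀, hmap, hM]
    show _ = (scalarGL c' hc'0 * g.1).val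
    rw [Units.val_mul]
    show _ = (c' • (1 : Matrix (IM m) (IM m) F)) * g.1.val
    rw [Matrix.smul_mul, Matrix.one_mul]
  have e' : DhO _ (mapSimM ι m a₀ b₀ g₀) = DhO _ g := by
    rw [e, map_mul, DhO_scalarG hQ, one_mul]
  have hg₀mem : g₀ ∈ simInndiag m a₀ b₀ := by
    show DhO _ g₀ ∈ Cfsg.inndiagPOmegaMinus m F₀ a₀ b₀
    rw [← mapSimM_mem_inndiag_iff ι a₀ b₀ hm hab, e']
    exact hcD
  refine ⟨⟨g₀, hg₀mem⟩, ?_⟩
  apply Subtype.ext
  rw [centHomM_val]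
  exact e'

/-- **`C_{Inndiag}(PhiM σ) ≅ Inndiag(PΩ⁻_{2m+2}(F₀))`** -/
theorem nonempty_cent_field_equiv_M (hm : 3 ≤ m)
    (hab : ∀ z₁ z₂ : F, z₁ ^ 2 + ι a₀ * z₁ * z₂ + ι b₀ * z₂ ^ 2 = 0 → z₁ = 0 ∧ z₂ = 0)
    (σ : RingAut F) (r : ℕ) (hr : 0 < r) (hσ : σ ^ r = 1)
    (hinj : ∀ i j, i < r → j < r → σ ^ i = σ ^ j → i = j)
    (hι : ∀ t : F, σ t = t ↔ ∃ s, ι s = t) :
    Nonempty (↥(Cfsg.inndiagPOmegaMinus m F (ι a₀) (ι b₀) ⊓
        Subgroup.centralizer {PhiM (m := m) σ ((hι (ι a₀)).2 ⟨a₀, rfl⟩)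
          ((hι (ι b₀)).2 ⟨b₀, rfl⟩)}) ≃*
      ↥(Cfsg.inndiagPOmegaMinus m F₀ a₀ b₀)) :=
  ⟨equivOfSurjKer _ _ (centHomM_surjective ι a₀ b₀ hm hab σ r hr hσ hinj hι)
    (baseHomM_surjective a₀ b₀ hm (aniso_of_push ι a₀ b₀ hab))
    (centHomM_ker ι a₀ b₀ hm hab σ _)⟩

end iso

end Cfsg.Agent.Lib.H7AutPM
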