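import Cfsg.Agent.Lib.Helper7.AutPM.HilbertM
import Cfsg.Agent.Lib.Helper5.OrthAut.InndiagMinus
import Mathlib

/-!
# The two classes of maximal totally singular subspaces over a quadratic extension, through the
parity of the rank of `g - 1` (all characteristics) (helper7)
-/

set_option autoImplicit false
set_option linter.unusedSectionVars false
set_option linter.style.haveILetI false

namespace Cfsg.Agent.Lib.H7AutPM

open Matrix Cfsg Cfsg.Agent.H9.Orth Cfsg.Agent.Lib.Helper5.OrthSN Cfsg.Agent.Lib.Helper5.OrthPar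
  Cfsg.Agent.Lib.Helper5.OrthTv Cfsg.Agent.Lib.Helper5.OrthAut Cfsg.Agent.Lib.Helper5.OrthPM
  Cfsg.Agent.Lib.Helper5.OrthCls

universe u v

section rank

variable {F : Type u} [Field F] {K : Type v} [Field K] (f : F →+* K)
variable {ι : Type} [Fintype ι] [DecidableEq ι]

/-- the rank of a matrix does not change under a field extension -/
theorem rank_map_field (M : Matrix ι ι F) : (M.map f).rank = M.rank := by
  classical
  obtain ⟨L, L', D, hM⟩ := Matrix.Pivot.exists_list_transvec_mul_diagonal_mul_list_transvec M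
  obtain ⟨A, hA⟩ : ∃ A, A = (L.map Matrix.TransvectionStruct.toMatrix).prod := ⟨_, rfl⟩
  obtain ⟨B, hB⟩ : ∃ B, B = (L'.map Matrix.TransvectionStruct.toMatrix).prod := ⟨_, rfl⟩
  rw [← hA, ← hB] at hM
  have hAd : A.det = 1 := by rw [hA]; exact Matrix.TransvectionStruct.det_toMatrix_prod L
  have hBd : B.det = 1 := by rw [hB]; exact Matrix.TransvectionStruct.det_toMatrix_prod L'
  have hAd' : (A.map f).det = 1 := by
    rw [← RingHom.mapMatrix_apply, ← RingHom.map_det, hAd, map_one]
  have hBd' : (B.map f).det = 1 := by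
    rw [← RingHom.mapMatrix_apply, ← RingHom.map_det, hBd, map_one]
  have h1 : M.rank = (Matrix.diagonal D).rank := by
    rw [hM, Matrix.rank_mul_eq_left_of_isUnit_det B _ (by rw [hBd]; exact isUnit_one),
      Matrix.rank_mul_eq_right_of_isUnit_det A _ (by rw [hAd]; exact isUnit_one)]
  have h2 : (M.map f).rank = (Matrix.diagonal (fun i => f (D i))).rank := by
    have e : M.map f = A.map f * Matrix.diagonal (fun i => f (D i)) * B.map f := by
      rw [hM, Matrix.map_mul, Matrix.map_mul, Matrix.diagonal_map (map_zero f)]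
    rw [e, Matrix.rank_mul_eq_left_of_isUnit_det (B.map f) _ (by rw [hBd']; exact isUnit_one),
      Matrix.rank_mul_eq_right_of_isUnit_det (A.map f) _ (by rw [hAd']; exact isUnit_one)]
  rw [h1, h2, Matrix.rank_diagonal, Matrix.rank_diagonal]
  apply Fintype.card_congr
  apply Equiv.subtypeEquivRight
  intro i
  rw [Ne, Ne, map_eq_zero]

theorem par_map (g : GL ι F) : par (Matrix.GeneralLinearGroup.map f g) ↔ par g := by
  unfold par
  have e : ((Matrix.GeneralLinearGroup.map f g : GL ι K) : Matrix ι ι K) - 1 =
      ((g : Matrix ι ι F) - 1).map f := by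
    ext i k
    show f ((g : Matrix ι ι F) i k) - (1 : Matrix ι ι K) i k = f ((g : Matrix ι ι F) i k - _)
    rw [map_sub, Matrix.one_apply, Matrix.one_apply]
    split_ifs
    · rw [map_one]
    · rw [map_zero]
  rw [e, rank_map_field]

end rank

section generic

variable {ι : Type} [Fintype ι] [DecidableEq ι] {F : Type u} [Field F] [Fintype F]
  {Q : (ι → F) → F} (hQ : Cfsg.Geo.IsNondegenerateQuadraticForm Q)

include hQ in
/-- a scalar multiple of an isometry preserves the two classes iff the isometry has even parity -/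
theorem preserves_iff_par_of_scalar (hgen : Cfsg.isometryGroup F Q ≤ RR hQ) (k : ℕ)
    (hk : Fintype.card ι = 2 * k) (U₀ : Submodule F (ι → F)) (h₀ : IsMaxTS Q U₀)
    (g : GL ι F) (l : F) (hl0 : l ≠ 0) (g' : GL ι F) (hg' : g' ∈ Cfsg.isometryGroup F Q)
    (hgg' : g = scalarGL l hl0 * g') :
    Cfsg.PreservesSingularClasses Q (g : Matrix ι ι F) ↔ par g' := by
  have himg : ∀ U : Submodule F (ι → F),
      Cfsg.imageSubmodule (g : Matrix ι ι F) U = mapS g' U := by
    intro U
    show mapS g U = mapS g' U
    rw [hgg', mapS_mul, mapS_scalarGL]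
  constructor
  · intro hP
    have h1 := hP U₀ ((maxTotSing_iff hQ k hk U₀ h₀ U₀).2 h₀)
    rw [himg] at h1
    exact (sameParity_iff_par hQ hgen k hk U₀ h₀ g' hg').1 h1
  · intro hpar U hU
    rw [himg]
    exact (sameParity_iff_par hQ hgen k hk U ((maxTotSing_iff hQ k hk U₀ h₀ U).1 hU) g' hg').2 hpar

end generic

section minus

variable {F : Type u} [Field F] {K : Type v} [Field K] (f : F →+* K) (m : ℕ) (a b : F)

/-- base change of a similarity of the minus-type form, all characteristics -/
theorem sim_push_minus (g : Matrix (IM m) (IM m) F) (c : F)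
    (hg : ∀ v, Cfsg.quadFormMinus m F a b (g *ᵥ v) = c * Cfsg.quadFormMinus m F a b v)
    (w : IM m → K) :
    Cfsg.quadFormMinus m K (f a) (f b) ((g.map f) *ᵥ w) =
      f c * Cfsg.quadFormMinus m K (f a) (f b) w := by
  have key : (Cfsg.Agent.S0288.QM m (f a) (f b)).comp (Matrix.toLin' (g.map f)) =
      f c • Cfsg.Agent.S0288.QM m (f a) (f b) := by
    apply quad_ext_of_points f
    intro v₀
    rw [QuadraticMap.comp_apply, Matrix.toLin'_apply, ← vpush_mulVec]
    show Cfsg.Agent.S0288.QM m (f a) (f b) _ = f c * Cfsg.Agent.S0288.QM m (f a) (f b) _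
    rw [Cfsg.Agent.S0288.QM_apply, Cfsg.Agent.S0288.QM_apply, quadFormMinus_vpush,
      quadFormMinus_vpush, hg, map_mul]
  have := congrArg (fun q : QuadraticForm K (IM m → K) => q w) key
  simp only [QuadraticMap.comp_apply, Matrix.toLin'_apply] at this
  rw [Cfsg.Agent.S0288.QM_apply] at this
  rw [this]
  show f c * Cfsg.Agent.S0288.QM m (f a) (f b) w = _
  rw [Cfsg.Agent.S0288.QM_apply]

theorem map_scalarGL {ι : Type} [Fintype ι] [DecidableEq ι] (l : F) (hl0 : l ≠ 0) :
    Matrix.GeneralLinearGroup.map f (scalarGL l hl0 : GL ι F) =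
      scalarGL (f l) ((map_ne_zero f).2 hl0) := by
  apply Units.ext
  ext i k
  show f ((l • (1 : Matrix ι ι F)) i k) = (f l • (1 : Matrix ι ι K)) i k
  rw [Matrix.smul_apply, Matrix.smul_apply, Matrix.one_apply, Matrix.one_apply, smul_eq_mul,
    smul_eq_mul, map_mul]
  split_ifs
  · rw [map_one]
  · rw [map_zero]

variable [Fintype F]

/-- a quadratic extension contains a root of every irreducible quadratic polynomial -/
theorem exists_root_of_finrank_two
    (hab : ∀ z₁ z₂ : F, z₁ ^ 2 + a * z₁ * z₂ + b * z₂ ^ 2 = 0 → z₁ = 0 ∧ z₂ = 0)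
    (K : Type v) [Field K] [Algebra F K] (hfin : Module.finrank F K = 2) :
    ∃ z₀ : K, z₀ ^ 2 + algebraMap F K a * z₀ + algebraMap F K b = 0 := by
  classical
  set p : Polynomial F := Polynomial.X ^ 2 + Polynomial.C a * Polynomial.X + Polynomial.C b
    with hp
  have hdeg : p.natDegree = 2 := by
    rw [hp]
    compute_degree!
  have hp0 : p ≠ 0 := by
    intro h
    rw [h] at hdeg
    simp at hdeg
  have hirr : Irreducible p := by
    apply Polynomial.irreducible_of_degree_le_three_of_not_isRoot
    · rw [hdeg]; simp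
    · intro x hx
      have h1 : x ^ 2 + a * x + b = 0 := by
        have := hx
        rw [Polynomial.IsRoot.def, hp] at this
        simpa using this
      have := hab x 1 (by linear_combination h1)
      exact one_ne_zero this.2
  haveI : Fact (Irreducible p) := ⟨hirr⟩
  have hfinA : Module.finrank F (AdjoinRoot p) = 2 := by
    rw [(AdjoinRoot.powerBasis hp0).finrank, AdjoinRoot.powerBasis_dim, hdeg]
  haveI : Module.Finite F K := Module.finite_of_finrank_pos (by rw [hfin]; norm_num)
  haveI : Finite K := Module.finite_of_finite F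
  obtain ⟨φ⟩ := FiniteField.nonempty_algHom_of_finrank_dvd (F := F) (K := AdjoinRoot p) (L := K)
    (by rw [hfinA, hfin])
  refine ⟨φ (AdjoinRoot.root p), ?_⟩
  have h0 : Polynomial.aeval (AdjoinRoot.root p) p = 0 := by
    rw [Polynomial.aeval_def, AdjoinRoot.algebraMap_eq]
    exact AdjoinRoot.eval₂_root p
  have h1 : Polynomial.aeval (φ (AdjoinRoot.root p)) p = 0 := by
    rw [Polynomial.aeval_algHom_apply, h0, map_zero]
  generalize φ (AdjoinRoot.root p) = z at h1 ⊢
  rw [hp] at h1
  simpa using h1

/-- over a quadratic extension, a scalar multiple of an isometry preserves the two classes iff the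
isometry has even parity -/
theorem preserves_ext_iff_par
    (hab : ∀ z₁ z₂ : F, z₁ ^ 2 + a * z₁ * z₂ + b * z₂ ^ 2 = 0 → z₁ = 0 ∧ z₂ = 0)
    (K : Type v) [Field K] [Algebra F K] (hfin : Module.finrank F K = 2)
    (g : GL (IM m) F) (l : F) (hl0 : l ≠ 0) (g' : GL (IM m) F)
    (hg' : g' ∈ Cfsg.isometryGroup F (Cfsg.quadFormMinus m F a b))
    (hgg' : g = scalarGL l hl0 * g') :
    Cfsg.PreservesSingularClasses
        (Cfsg.quadFormMinus m K (algebraMap F K a) (algebraMap F K b))
        ((g : Matrix (IM m) (IM m) F).map (algebraMap F K)) ↔ par g' := by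
  classical
  have hab' := Cfsg.Agent.S0288.disc_ne_zero a b hab
  set f := algebraMap F K with hf
  haveI : Module.Finite F K := Module.finite_of_finrank_pos (by rw [hfin]; norm_num)
  haveI : Finite K := Module.finite_of_finite F
  letI : Fintype K := Fintype.ofFinite K
  have hQK : Cfsg.Geo.IsNondegenerateQuadraticForm (Cfsg.quadFormMinus m K (f a) (f b)) := by
    apply quadFormMinus_nondeg
    have : 4 * f b - f a ^ 2 = f (4 * b - a ^ 2) := by
      rw [map_sub, map_mul, map_pow, map_ofNat]
    rw [this]
    intro h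
    exact hab' ((map_eq_zero f).1 h)
  have hcardK : Fintype.card K ≠ 2 := by
    intro h
    have hc := Module.card_eq_pow_finrank (K := F) (V := K)
    rw [hfin, h] at hc
    have : 1 < Fintype.card F := Fintype.one_lt_card
    nlinarith
  have hgenK := Cfsg.Agent.H9.Orth.iso_le_RR hQK (Or.inl hcardK)
  obtain ⟨z₀, hz⟩ := exists_root_of_finrank_two a b hab K hfin
  have h₀ := minusU_maxTS m (f a) (f b) z₀ hz
  have hg'K : Matrix.GeneralLinearGroup.map f g' ∈
      Cfsg.isometryGroup K (Cfsg.quadFormMinus m K (f a) (f b)) := by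
    rw [mem_isometryGroup_iff]
    intro w
    have := sim_push_minus f m a b (g' : Matrix (IM m) (IM m) F) 1 (fun v => by
      rw [one_mul]
      exact (mem_isometryGroup_iff g').1 hg' v) w
    rw [map_one, one_mul] at this
    exact this
  have hggK : Matrix.GeneralLinearGroup.map f g =
      scalarGL (f l) ((map_ne_zero f).2 hl0) * Matrix.GeneralLinearGroup.map f g' := by
    rw [hgg', map_mul, map_scalarGL]
  have key := preserves_iff_par_of_scalar hQK hgenK (m + 1) (card_minus m) (minusU m z₀) h₀
    (Matrix.GeneralLinearGroup.map f g) (f l) ((map_ne_zero f).2 hl0)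
    (Matrix.GeneralLinearGroup.map f g') hg'K hggK
  rw [par_map] at key
  exact key

/-- **a scalar multiple of an isometry of the minus-type form preserves the two classes (over a
quadratic extension) iff the isometry has even parity** -/
theorem preservesMinus_iff_par
    (hab : ∀ z₁ z₂ : F, z₁ ^ 2 + a * z₁ * z₂ + b * z₂ ^ 2 = 0 → z₁ = 0 ∧ z₂ = 0)
    (g : GL (IM m) F) (l : F) (hl0 : l ≠ 0) (g' : GL (IM m) F)
    (hg' : g' ∈ Cfsg.isometryGroup F (Cfsg.quadFormMinus m F a b))
    (hgg' : g = scalarGL l hl0 * g') :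
    Cfsg.PreservesSingularClassesMinus m a b (g : Matrix (IM m) (IM m) F) ↔ par g' := by
  classical
  constructor
  · rintro ⟨K, iK, iA, hfin, hP⟩
    exact (preserves_ext_iff_par m a b hab K hfin g l hl0 g' hg' hgg').1 hP
  · intro hpar
    set p : Polynomial F := Polynomial.X ^ 2 + Polynomial.C a * Polynomial.X + Polynomial.C b
      with hp
    have hdeg : p.natDegree = 2 := by
      rw [hp]
      compute_degree!
    have hp0 : p ≠ 0 := by
      intro h
      rw [h] at hdeg
      simp at hdeg
    have hirr : Irreducible p := by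
      apply Polynomial.irreducible_of_degree_le_three_of_not_isRoot
      · rw [hdeg]; simp
      · intro x hx
        have h1 : x ^ 2 + a * x + b = 0 := by
          have := hx
          rw [Polynomial.IsRoot.def, hp] at this
          simpa using this
        have := hab x 1 (by linear_combination h1)
        exact one_ne_zero this.2
    haveI : Fact (Irreducible p) := ⟨hirr⟩
    have hfin : Module.finrank F (AdjoinRoot p) = 2 := by
      rw [(AdjoinRoot.powerBasis hp0).finrank, AdjoinRoot.powerBasis_dim, hdeg]
    exact ⟨AdjoinRoot p, inferInstance, inferInstance, hfin,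
      (preserves_ext_iff_par m a b hab (AdjoinRoot p) hfin g l hl0 g' hg' hgg').2 hpar⟩

end minus

end Cfsg.Agent.Lib.H7AutPM
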