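import Cfsg.Agent.Lib.Helper7.AutPM.CosetP
import Mathlib

/-!
# Conjugation of `GL` by a linear equivalence between coordinate spaces with different index types
(helper7)

`conjL T : GL κ F ≃* GL I F` for `T : (κ → F) ≃ₗ (I → F)`; determinant, residual rank, similarity
multipliers and reflections are preserved.
-/

set_option autoImplicit false
set_option linter.unusedSectionVars false
set_option linter.style.haveILetI false

namespace Cfsg.Agent.Lib.H7AutPM

open Matrix Cfsg Cfsg.Agent.Lib.H7AutPSp Cfsg.Agent.Lib.H7AutPO Cfsg.Agent.Lib.H7AutPSL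
  Cfsg.Agent.Lib.Helper5.OrthAut Cfsg.Agent.H9.Orth Cfsg.Agent.Lib.Helper5.OrthSN
  Cfsg.Agent.Lib.Helper5.OrthPar Cfsg.Agent.Lib.Helper5.OrthCls Cfsg.Agent.Lib.Helper5.OrthPM

universe u

section conjL

variable {I κ : Type} [Fintype I] [DecidableEq I] [Fintype κ] [DecidableEq κ]
  {F : Type u} [Field F]

/-- the linear equivalence of an invertible matrix -/
def linOf (g : GL κ F) : (κ → F) ≃ₗ[F] (κ → F) :=
  LinearEquiv.ofLinear (Matrix.toLin' g.val) (Matrix.toLin' g⁻¹.val)
    (by rw [← Matrix.toLin'_mul, ← Units.val_mul, mul_inv_cancel, Units.val_one,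
      Matrix.toLin'_one])
    (by rw [← Matrix.toLin'_mul, ← Units.val_mul, inv_mul_cancel, Units.val_one,
      Matrix.toLin'_one])

theorem linOf_apply (g : GL κ F) (v : κ → F) : linOf g v = act g v :=
  Matrix.toLin'_apply _ _

variable (T : (κ → F) ≃ₗ[F] (I → F))

theorem act_ofLin_conj (g : GL κ F) (u : I → F) :
    act (ofLin ((T.symm.trans (linOf g)).trans T)) u = T (act g (T.symm u)) := by
  rw [act_ofLin, LinearEquiv.trans_apply, LinearEquiv.trans_apply, linOf_apply]

/-- conjugation by a linear equivalence -/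
noncomputable def conjL : GL κ F →* GL I F where
  toFun g := ofLin ((T.symm.trans (linOf g)).trans T)
  map_one' := by
    apply gl_ext
    intro u
    rw [act_ofLin_conj, act_one, act_one, LinearEquiv.apply_symm_apply]
  map_mul' g h := by
    apply gl_ext
    intro u
    rw [act_ofLin_conj, act_mul, act_mul, act_ofLin_conj, act_ofLin_conj,
      LinearEquiv.symm_apply_apply]

theorem act_conjL (g : GL κ F) (u : I → F) : act (conjL T g) u = T (act g (T.symm u)) :=
  act_ofLin_conj T g u

theorem act_conjL_apply (g : GL κ F) (w : κ → F) : act (conjL T g) (T w) = T (act g w) := by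
  rw [act_conjL, LinearEquiv.symm_apply_apply]

theorem conjL_symm_conjL (g : GL κ F) : conjL T.symm (conjL T g) = g := by
  apply gl_ext
  intro w
  rw [act_conjL, act_conjL, LinearEquiv.symm_symm, LinearEquiv.symm_apply_apply,
    LinearEquiv.symm_apply_apply]

theorem conjL_conjL_symm (g : GL I F) : conjL T (conjL T.symm g) = g := by
  apply gl_ext
  intro w
  rw [act_conjL, act_conjL, LinearEquiv.symm_symm, LinearEquiv.apply_symm_apply,
    LinearEquiv.apply_symm_apply]

theorem conjL_injective : Function.Injective (conjL T : GL κ F → GL I F) := by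
  intro g h e
  rw [← conjL_symm_conjL T g, ← conjL_symm_conjL T h, e]

theorem conjL_scalarGL (l : F) (hl : l ≠ 0) : conjL T (scalarGL l hl) = scalarGL l hl := by
  apply gl_ext
  intro u
  rw [act_conjL, act_scalarGL, act_scalarGL, map_smul, LinearEquiv.apply_symm_apply]

theorem conjL_val (g : GL κ F) :
    (conjL T g).val = LinearMap.toMatrix' ((T : (κ → F) →ₗ[F] (I → F)) ∘ₗ
      Matrix.toLin' g.val ∘ₗ (T.symm : (I → F) →ₗ[F] (κ → F))) := by
  apply Matrix.toLin'.injective
  apply LinearMap.ext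
  intro u
  rw [Matrix.toLin'_toMatrix', Matrix.toLin'_apply]
  exact act_conjL T g u

theorem det_conjL (g : GL κ F) : (conjL T g).val.det = g.val.det := by
  rw [conjL_val, LinearMap.det_toMatrix', LinearMap.det_conj, LinearMap.det_toLin']

theorem imS_conjL (g : GL κ F) : imS (conjL T g) = (imS g).map (T : (κ → F) →ₗ[F] (I → F)) := by
  ext v
  rw [mem_imS, Submodule.mem_map]
  constructor
  · rintro ⟨u, rfl⟩
    refine ⟨act g (T.symm u) - T.symm u, (mem_imS g _).2 ⟨_, rfl⟩, ?_⟩
    rw [act_conjL]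
    simp
  · rintro ⟨w, hw, rfl⟩
    obtain ⟨w', rfl⟩ := (mem_imS g w).1 hw
    refine ⟨T w', ?_⟩
    rw [act_conjL_apply]
    simp

theorem par_conjL (g : GL κ F) : par (conjL T g) ↔ par g := by
  unfold par
  rw [rank_eq, rank_eq, imS_conjL]
  have : Module.finrank F ↥((imS g).map (T : (κ → F) →ₗ[F] (I → F))) =
      Module.finrank F ↥(imS g) := LinearEquiv.finrank_map_eq T (imS g)
  rw [this]

end conjL

section forms

variable {I κ : Type} [Fintype I] [DecidableEq I] [Fintype κ] [DecidableEq κ]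
  {F : Type u} [Field F] {Q : (I → F) → F} {Q' : (κ → F) → F}
  (T : (κ → F) ≃ₗ[F] (I → F)) (hTQ : ∀ w, Q (T w) = Q' w)

include hTQ

theorem conjL_sim (g : GL κ F) (c : F) (hg : ∀ w, Q' (act g w) = c * Q' w) (u : I → F) :
    Q (act (conjL T g) u) = c * Q u := by
  rw [act_conjL, hTQ, hg, ← hTQ, LinearEquiv.apply_symm_apply]

theorem conjL_mem_sim (g : GL κ F) (hg : g ∈ Cfsg.Geo.quadSimilarityGroup (F := F) Q') :
    conjL T g ∈ Cfsg.Geo.quadSimilarityGroup (F := F) Q := by
  obtain ⟨c, hc⟩ := (mem_sim_iff _ g).1 hg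
  rw [mem_sim_iff]
  exact ⟨c, fun u => conjL_sim T hTQ g c hc u⟩

theorem conjL_mem_iso (g : GL κ F) (hg : g ∈ Cfsg.isometryGroup F Q') :
    conjL T g ∈ Cfsg.isometryGroup F Q := by
  rw [mem_iso_iff] at hg ⊢
  intro u
  have := conjL_sim T hTQ g 1 (fun w => by rw [one_mul]; exact hg w) u
  rwa [one_mul] at this

theorem pol_T (w w' : κ → F) : pol Q (T w) (T w') = pol Q' w w' := by
  unfold pol QuadraticMap.polar
  rw [← map_add, hTQ, hTQ, hTQ]

theorem conjL_rf (hQ : Cfsg.Geo.IsNondegenerateQuadraticForm Q)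
    (hQ' : Cfsg.Geo.IsNondegenerateQuadraticForm Q') (v : κ → F) (hv : Q' v ≠ 0) :
    conjL T (rf hQ' v) = rf hQ (T v) := by
  have hv' : Q (T v) ≠ 0 := by rw [hTQ]; exact hv
  apply gl_ext
  intro u
  rw [act_conjL, act_rf hQ' v hv, act_rf hQ _ hv', map_sub, map_smul,
    LinearEquiv.apply_symm_apply, hTQ]
  have : pol Q' (T.symm u) v = pol Q u (T v) := by
    rw [← pol_T T hTQ, LinearEquiv.apply_symm_apply]
  rw [this]

end forms

end Cfsg.Agent.Lib.H7AutPM
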