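import Cfsg.Agent.Lib.Helper7.AutPM.SemiConj
import Cfsg.Agent.Lib.Helper7.AutPSL.SplitClass
import Mathlib

/-!
# Transport along an isomorphism of groups; the isomorphism `PΩ(Q) ≃* PΩ(Q')` induced by a
similarity between two forms (helper7)
-/

set_option autoImplicit false
set_option linter.unusedSectionVars false
set_option linter.style.haveILetI false

namespace Cfsg.Agent.Lib.H7AutPM

open Matrix Cfsg Cfsg.Agent.Lib.H7AutPSp Cfsg.Agent.Lib.H7AutPO Cfsg.Agent.Lib.H7AutPSL
  Cfsg.Agent.H9.Orth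

universe u

section grp

variable {G H : Type*} [Group G] [Group H]

theorem hom_mem_commutator (f : G →* H) {x : G} (hx : x ∈ commutator G) :
    f x ∈ commutator H := by
  have h1 : (commutator G).map f ≤ commutator H := by
    rw [commutator_def, commutator_def, Subgroup.map_commutator]
    exact Subgroup.commutator_mono le_top le_top
  exact h1 (Subgroup.mem_map_of_mem f hx)

/-- an isomorphism of groups induces one of the commutator subgroups -/
def commCongr (e : G ≃* H) : ↥(commutator G) ≃* ↥(commutator H) where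
  toFun x := ⟨e x.1, hom_mem_commutator e.toMonoidHom x.2⟩
  invFun y := ⟨e.symm y.1, hom_mem_commutator e.symm.toMonoidHom y.2⟩
  left_inv x := Subtype.ext (e.symm_apply_apply x.1)
  right_inv y := Subtype.ext (e.apply_symm_apply y.1)
  map_mul' x y := Subtype.ext (map_mul e x.1 y.1)

theorem commCongr_val (e : G ≃* H) (x : ↥(commutator G)) : (commCongr e x).1 = e x.1 := rfl

theorem map_center_equiv (e : G ≃* H) :
    (Subgroup.center G).map e.toMonoidHom = Subgroup.center H := by
  ext y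
  rw [Subgroup.mem_map, Subgroup.mem_center_iff]
  constructor
  · rintro ⟨x, hx, rfl⟩ g
    rw [Subgroup.mem_center_iff] at hx
    obtain ⟨g', rfl⟩ := e.surjective g
    show e g' * e x = e x * e g'
    rw [← map_mul, ← map_mul, hx g']
  · intro hy
    refine ⟨e.symm y, ?_, e.apply_symm_apply y⟩
    rw [Subgroup.mem_center_iff]
    intro g
    apply e.injective
    rw [map_mul, map_mul, e.apply_symm_apply]
    exact hy (e g)

/-- an isomorphism of groups induces one of the central quotients -/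
noncomputable def centCongr (e : G ≃* H) : G ⧸ Subgroup.center G ≃* H ⧸ Subgroup.center H :=
  QuotientGroup.congr (Subgroup.center G) (Subgroup.center H) e (map_center_equiv e)

theorem centCongr_pr (e : G ≃* H) (x : G) : centCongr e (prC x) = prC (e x) := rfl

theorem centCongr_symm_pr (e : G ≃* H) (y : H) : (centCongr e).symm (prC y) = prC (e.symm y) := by
  apply (centCongr e).injective
  rw [MulEquiv.apply_symm_apply, centCongr_pr, MulEquiv.apply_symm_apply]

/-! ### transport of conjugacy data along an isomorphism -/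

variable (e : G ≃* H)

theorem isConjUnder_map (D : Subgroup G) (x y : G) :
    Cfsg.IsConjUnder (D.map e.toMonoidHom) (e x) (e y) ↔ Cfsg.IsConjUnder D x y := by
  constructor
  · rintro ⟨h, ⟨d, hd, rfl⟩, hy⟩
    refine ⟨d, hd, e.injective ?_⟩
    rw [map_mul, map_mul, map_inv]
    exact hy
  · rintro ⟨d, hd, rfl⟩
    refine ⟨e d, Subgroup.mem_map_of_mem _ hd, ?_⟩
    rw [map_mul, map_mul, map_inv]

theorem map_centralizer_singleton (x : G) :
    (Subgroup.centralizer {x}).map e.toMonoidHom = Subgroup.centralizer {e x} := by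
  ext y
  rw [Subgroup.mem_map, mem_centralizer_singleton]
  constructor
  · rintro ⟨c, hc, rfl⟩
    rw [mem_centralizer_singleton] at hc
    show e c * e x = e x * e c
    rw [← map_mul, ← map_mul, hc]
  · intro hy
    refine ⟨e.symm y, ?_, e.apply_symm_apply y⟩
    rw [mem_centralizer_singleton]
    apply e.injective
    rw [map_mul, map_mul, e.apply_symm_apply]
    exact hy

theorem splitClassCount_map (D K : Subgroup G) (hKD : K ≤ D) [hK : K.Normal] (x : G) :
    Cfsg.splitClassCount (D.map e.toMonoidHom) (K.map e.toMonoidHom) (e x) =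
      Cfsg.splitClassCount D K x := by
  haveI : (K.map e.toMonoidHom).Normal := hK.map _ e.surjective
  rw [splitClassCount_eq D K hKD x,
    splitClassCount_eq (D.map e.toMonoidHom) (K.map e.toMonoidHom) (Subgroup.map_mono hKD) (e x)]
  unfold splitSub
  rw [← map_centralizer_singleton, ← Subgroup.map_inf _ _ _ e.injective, ← Subgroup.map_sup]
  exact Subgroup.relIndex_map_map_of_injective _ _ e.injective

/-- the centraliser in `D` transported -/
noncomputable def centEquiv (D : Subgroup G) (x : G) :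
    ↥(D ⊓ Subgroup.centralizer {x}) ≃*
      ↥(D.map e.toMonoidHom ⊓ Subgroup.centralizer {e x}) :=
  (e.subgroupMap (D ⊓ Subgroup.centralizer {x})).trans
    (MulEquiv.subgroupCongr (by
      have h1 := Subgroup.map_inf D (Subgroup.centralizer {x}) e.toMonoidHom e.injective
      rw [map_centralizer_singleton] at h1
      exact h1))

end grp

section forms

variable {ι : Type} [Fintype ι] [DecidableEq ι] {F : Type u} [Field F]
  {Q Q' : (ι → F) → F}

/-- a similarity between two forms: `Q' (h v) = c Q v` -/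
def IsSimBetween (Q Q' : (ι → F) → F) (h : GL ι F) (c : F) : Prop :=
  c ≠ 0 ∧ ∀ v, Q' (h.val *ᵥ v) = c * Q v

theorem IsSimBetween.symm {h : GL ι F} {c : F} (hh : IsSimBetween Q Q' h c) :
    IsSimBetween Q' Q h⁻¹ c⁻¹ := by
  refine ⟨inv_ne_zero hh.1, fun v => ?_⟩
  have := hh.2 (h⁻¹.val *ᵥ v)
  rw [Matrix.mulVec_mulVec, ← Units.val_mul, mul_inv_cancel, Units.val_one,
    Matrix.one_mulVec] at this
  rw [this, ← mul_assoc, inv_mul_cancel₀ hh.1, one_mul]

theorem IsSimBetween.conj_iso {h : GL ι F} {c : F} (hh : IsSimBetween Q Q' h c) (s : GL ι F)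
    (hs : s ∈ Cfsg.isometryGroup F Q) : h * s * h⁻¹ ∈ Cfsg.isometryGroup F Q' := by
  rw [mem_iso_iff] at hs ⊢
  intro v
  have h1 := hh.symm.2 v
  rw [Units.val_mul, Units.val_mul, ← Matrix.mulVec_mulVec, ← Matrix.mulVec_mulVec, hh.2, hs, h1,
    ← mul_assoc, mul_inv_cancel₀ hh.1, one_mul]

theorem IsSimBetween.conj_sim {h : GL ι F} {c : F} (hh : IsSimBetween Q Q' h c) (g : GL ι F)
    (hg : g ∈ Cfsg.Geo.quadSimilarityGroup (F := F) Q) :
    h * g * h⁻¹ ∈ Cfsg.Geo.quadSimilarityGroup (F := F) Q' := by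
  rw [mem_sim_iff] at hg ⊢
  obtain ⟨μ, hμ⟩ := hg
  refine ⟨μ, fun v => ?_⟩
  have h1 := hh.symm.2 v
  rw [Units.val_mul, Units.val_mul, ← Matrix.mulVec_mulVec, ← Matrix.mulVec_mulVec, hh.2, hμ, h1]
  rw [← mul_assoc, ← mul_assoc, mul_comm c, mul_assoc (μ : F), mul_inv_cancel₀ hh.1, mul_one]

/-- conjugation by a similarity between two forms, on the isometry groups -/
def isoConj {h : GL ι F} {c : F} (hh : IsSimBetween Q Q' h c) :
    ↥(Cfsg.isometryGroup F Q) ≃* ↥(Cfsg.isometryGroup F Q') where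
  toFun s := ⟨h * s.1 * h⁻¹, hh.conj_iso s.1 s.2⟩
  invFun s := ⟨h⁻¹ * s.1 * h⁻¹⁻¹, hh.symm.conj_iso s.1 s.2⟩
  left_inv s := by
    apply Subtype.ext
    show h⁻¹ * (h * s.1 * h⁻¹) * h⁻¹⁻¹ = s.1
    group
  right_inv s := by
    apply Subtype.ext
    show h * (h⁻¹ * s.1 * h⁻¹⁻¹) * h⁻¹ = s.1
    group
  map_mul' s t := by
    apply Subtype.ext
    show h * (s.1 * t.1) * h⁻¹ = (h * s.1 * h⁻¹) * (h * t.1 * h⁻¹)
    group

/-- the isomorphism `PΩ(Q) ≃* PΩ(Q')` induced by a similarity between the forms -/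
noncomputable def pomConj {h : GL ι F} {c : F} (hh : IsSimBetween Q Q' h c) :
    Cfsg.POmega F Q ≃* Cfsg.POmega F Q' :=
  centCongr (commCongr (isoConj hh))

theorem pomConj_pr {h : GL ι F} {c : F} (hh : IsSimBetween Q Q' h c) (s : ↥(Cfsg.Omega F Q)) :
    pomConj hh (prC s) = prC (commCongr (isoConj hh) s) := rfl

theorem pomConj_symm_pr {h : GL ι F} {c : F} (hh : IsSimBetween Q Q' h c)
    (s : ↥(Cfsg.Omega F Q')) :
    (pomConj hh).symm (prC s) = prC ((commCongr (isoConj hh)).symm s) :=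
  centCongr_symm_pr _ s

/-- the transported similarity -/
def simConj {h : GL ι F} {c : F} (hh : IsSimBetween Q Q' h c)
    (g : ↥(Cfsg.Geo.quadSimilarityGroup (F := F) Q)) :
    ↥(Cfsg.Geo.quadSimilarityGroup (F := F) Q') :=
  ⟨h * g.1 * h⁻¹, hh.conj_sim g.1 g.2⟩

/-- **transport of the similarity-induced automorphisms** -/
theorem pomConj_DhO {h : GL ι F} {c : F} (hh : IsSimBetween Q Q' h c)
    (g : ↥(Cfsg.Geo.quadSimilarityGroup (F := F) Q)) :
    MulAut.congr (pomConj hh) (DhO Q g) = DhO Q' (simConj hh g) := by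
  apply autC_ext
  intro s
  show pomConj hh (DhO Q g ((pomConj hh).symm (prC s))) = _
  rw [pomConj_symm_pr, DhO_pr, pomConj_pr, DhO_pr]
  congr 1
  apply om_ext
  show (h * (g.1 * (h⁻¹ * s.1.1 * h⁻¹⁻¹) * g.1⁻¹) * h⁻¹).val =
    ((h * g.1 * h⁻¹) * s.1.1 * (h * g.1 * h⁻¹)⁻¹).val
  congr 1
  group

end forms

end Cfsg.Agent.Lib.H7AutPM
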