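import Cfsg.Agent.Lib.Helper7.AutPM.InndiagM
import Cfsg.Agent.Lib.Helper7.AutPM.IsoTransport
import Cfsg.Agent.Lib.Helper7.AutPSp.CosetFieldSp
import Mathlib

/-!
# Elements of prime order in the coset of a standard field automorphism of `PΩ⁻` (helper7)
-/

set_option autoImplicit false
set_option linter.unusedSectionVars false
set_option linter.style.haveILetI false

namespace Cfsg.Agent.Lib.H7AutPM

open Matrix Cfsg Cfsg.Agent.Lib.H7AutPSp Cfsg.Agent.Lib.H7AutPO Cfsg.Agent.Lib.H7AutPSL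
  Cfsg.Agent.Lib.Helper5.OrthAut Cfsg.Agent.H9.Orth Cfsg.Agent.Lib.Helper5.OrthSN
  Cfsg.Agent.Lib.Helper5.OrthPar Cfsg.Agent.Lib.Helper5.OrthCls Cfsg.Agent.Lib.Helper5.OrthPM

universe u

section std

variable {F : Type u} [Field F] {m : ℕ} {a b : F} (σ : RingAut F) (ha : σ a = a) (hb : σ b = b)

include ha hb in
theorem quadFormMinus_sigma (v : IM m → F) :
    Cfsg.quadFormMinus m F a b (fun i => σ (v i)) = σ (Cfsg.quadFormMinus m F a b v) := by
  have := quadFormMinus_vpush (σ : F →+* F) m a b v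
  rw [show ((σ : F →+* F) a) = σ a from rfl, show ((σ : F →+* F) b) = σ b from rfl, ha, hb]
    at this
  exact this

/-- the standard semisimilarity `v ↦ σ(v)` -/
def stdG : ↥(GammaO (Cfsg.quadFormMinus m F a b)) :=
  ⟨SemidirectProduct.inr σ, ⟨1, fun v => by
    rw [sact_def, SemidirectProduct.left_inr, SemidirectProduct.right_inr, Units.val_one,
      Matrix.one_mulVec, Units.val_one, one_mul]
    exact quadFormMinus_sigma σ ha hb v⟩⟩

theorem stdG_left : (stdG (m := m) σ ha hb).1.left = 1 := rfl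

theorem stdG_right : (stdG (m := m) σ ha hb).1.right = σ := rfl

/-- the standard field automorphism of `PΩ⁻` -/
noncomputable def PhiM : MulAut (Cfsg.POmega F (Cfsg.quadFormMinus m F a b)) :=
  PsO _ (stdG σ ha hb)

/-- bridge to the Prelude predicate -/
theorem fieldAut_iff (φ : MulAut (Cfsg.POmega F (Cfsg.quadFormMinus m F a b))) :
    Cfsg.IsFieldAutPOmegaOf (Cfsg.quadFormMinus m F a b) σ φ ↔ φ = PhiM σ ha hb := by
  have hval : ∀ s : ↥(Cfsg.Omega F (Cfsg.quadFormMinus m F a b)),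
      (commAut (semiIso _ (stdG σ ha hb)) s).1.1.val = s.1.1.val.map σ := by
    intro s
    rw [PsO_val, stdG_left, stdG_right, inv_one, Units.val_one, Matrix.one_mul, Matrix.mul_one]
  constructor
  · intro h
    apply autC_ext
    intro s
    unfold PhiM
    rw [PsO_pr]
    exact h s _ (hval s)
  · rintro rfl s s' hs'
    have e : s' = commAut (semiIso _ (stdG σ ha hb)) s := by
      apply om_ext
      rw [hval]
      exact hs'
    rw [e]
    rfl

/-- the coset element `(g, σ)` -/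
def cosG (g : ↥(Cfsg.Geo.quadSimilarityGroup (F := F) (Cfsg.quadFormMinus m F a b))) :
    ↥(GammaO (Cfsg.quadFormMinus m F a b)) := simIncl _ g * stdG σ ha hb

theorem PsO_cosG (g : ↥(Cfsg.Geo.quadSimilarityGroup (F := F) (Cfsg.quadFormMinus m F a b))) :
    PsO _ (cosG σ ha hb g) = DhO _ g * PhiM σ ha hb := by
  unfold cosG PhiM
  rw [map_mul, PsO_simIncl]

theorem cosG_pow (g : ↥(Cfsg.Geo.quadSimilarityGroup (F := F) (Cfsg.quadFormMinus m F a b)))
    (k : ℕ) :
    ((cosG σ ha hb g) ^ k).1.left.val = pnormG σ g.1.val k ∧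
      ((cosG σ ha hb g) ^ k).1.right = σ ^ k := by
  induction k with
  | zero =>
    rw [pow_zero, pow_zero]
    exact ⟨rfl, rfl⟩
  | succ k ih =>
    rw [pow_succ']
    have hl : (cosG σ ha hb g).1.left = g.1 := by
      show (SemidirectProduct.inl g.1 * SemidirectProduct.inr σ :
        GamL (IM m) F).left = g.1
      rw [SemidirectProduct.mul_left, SemidirectProduct.left_inl, SemidirectProduct.right_inl,
        SemidirectProduct.left_inr, map_one, mul_one]
    have hr : (cosG σ ha hb g).1.right = σ := by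
      show (SemidirectProduct.inl g.1 * SemidirectProduct.inr σ :
        GamL (IM m) F).right = σ
      rw [SemidirectProduct.mul_right, SemidirectProduct.right_inl, SemidirectProduct.right_inr,
        one_mul]
    constructor
    · show ((cosG σ ha hb g).1 * ((cosG σ ha hb g) ^ k).1).left.val = _
      rw [SemidirectProduct.mul_left, hl, hr, Units.val_mul, gmapAut_apply, gmapI_val, ih.1]
      rfl
    · show ((cosG σ ha hb g).1 * ((cosG σ ha hb g) ^ k).1).right = _
      rw [SemidirectProduct.mul_right, hr, ih.2, pow_succ']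

end std

section main

variable {F : Type u} [Field F] [Fintype F] {m : ℕ} {a b : F}

theorem sim_ext' {ι : Type} [Fintype ι] [DecidableEq ι] {Q : (ι → F) → F}
    {g h : ↥(Cfsg.Geo.quadSimilarityGroup (F := F) Q)} (e : g.1.val = h.1.val) :
    g = h := Subtype.ext (Units.ext e)

set_option maxHeartbeats 1600000 in
/-- **Elements of order `r` in the coset of a standard field automorphism of prime order `r`.** -/
theorem field_coset_conj_M (hm : 3 ≤ m)
    (hab : ∀ z₁ z₂ : F, z₁ ^ 2 + a * z₁ * z₂ + b * z₂ ^ 2 = 0 → z₁ = 0 ∧ z₂ = 0)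
    (σ : RingAut F) (ha : σ a = a) (hb : σ b = b) (r : ℕ)
    (hr : r.Prime) (hσ : orderOf σ = r)
    (g : ↥(Cfsg.Geo.quadSimilarityGroup (F := F) (Cfsg.quadFormMinus m F a b)))
    (hy : (DhO (Cfsg.quadFormMinus m F a b) g * PhiM σ ha hb) ^ r = 1) :
    ∃ h : ↥(Cfsg.Geo.quadSimilarityGroup (F := F) (Cfsg.quadFormMinus m F a b)),
      DhO (Cfsg.quadFormMinus m F a b) g * PhiM σ ha hb =
        DhO (Cfsg.quadFormMinus m F a b) h * PhiM σ ha hb *
          (DhO (Cfsg.quadFormMinus m F a b) h)⁻¹ := by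
  have hQ := hQM (m := m) a b hab
  have hn := hnM (m := m) hm
  have hσr : σ ^ r = 1 := by rw [← hσ]; exact pow_orderOf_eq_one σ
  have hinj : ∀ i j, i < r → j < r → σ ^ i = σ ^ j → i = j := by
    intro i j hi hj hij
    rw [← hσ] at hi hj
    exact pow_injOn_Iio_orderOf (Set.mem_Iio.2 hi) (Set.mem_Iio.2 hj) hij
  -- the norm of `g` is a scalar
  rw [← PsO_cosG, ← map_pow] at hy
  obtain ⟨-, l, hl⟩ := ker_PsO hQ hn _ hy
  obtain ⟨M, hM⟩ : ∃ M, M = g.1.val := ⟨_, rfl⟩
  have hcs : pnormG σ M r = l • (1 : Matrix (IM m) (IM m) F) := by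
    rw [hM, ← (cosG_pow σ ha hb g r).1]
    ext i k
    have := congrFun (hl (Pi.single k 1)) i
    rw [Pi.smul_apply, Pi.single_apply, smul_eq_mul] at this
    rw [Matrix.smul_apply, Matrix.one_apply, smul_eq_mul, ← this]
    show _ = (Matrix.mulVec _ (Pi.single k 1)) i
    rw [Matrix.mulVec_single_one]
    rfl
  have hl0 : l ≠ 0 := by
    rintro rfl
    have h0 := hl (Pi.single (Sum.inr 0) 1)
    rw [zero_smul] at h0
    have h1 : (Pi.single (Sum.inr 0) 1 : IM m → F) = 0 := by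
      have := act_injective ((cosG σ ha hb g ^ r).1.left) (h0.trans (act_zero _).symm)
      exact this
    have := congrFun h1 (Sum.inr 0)
    rw [Pi.single_eq_same, Pi.zero_apply] at this
    exact one_ne_zero this
  have hMM : M * g.1⁻¹.val = 1 := by
    rw [hM, ← Units.val_mul, mul_inv_cancel, Units.val_one]
  -- the scalar is fixed by `σ`
  have hfix : σ l = l := by
    have e1 : pnormG σ M (r + 1) = M * (pnormG σ M r).map σ := rfl
    have e2 := pnormG_succ' σ M r
    rw [hσr, e1, hcs, map_smulG] at e2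
    have h1 : (1 : Matrix (IM m) (IM m) F).map σ = 1 := by
      ext i j
      rw [Matrix.map_apply, Matrix.one_apply]
      split_ifs
      · exact map_one σ
      · exact map_zero σ
    have h2' : M.map (1 : RingAut F) = M := by
      ext i j
      rfl
    rw [h1, h2', Matrix.mul_smul, Matrix.mul_one, Matrix.smul_mul, Matrix.one_mul] at e2
    have e3 : (σ l • M) * g.1⁻¹.val = (l • M) * g.1⁻¹.val := by rw [e2]
    rw [Matrix.smul_mul, Matrix.smul_mul, hMM] at e3
    have e4 := congrFun (congrFun e3 (Sum.inr 0)) (Sum.inr 0)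
    rw [Matrix.smul_apply, Matrix.smul_apply, Matrix.one_apply_eq, smul_eq_mul, smul_eq_mul,
      mul_one, mul_one] at e4
    exact e4
  obtain ⟨μ, hμ0, hμ⟩ := norm_surj σ r hr.pos hσr hinj l hl0 hfix
  -- normalise `g`
  have hN : pnormG σ (μ⁻¹ • M) r = 1 := by
    rw [pnormG_smul, hcs, fnorm_inv, hμ, smul_smul, inv_mul_cancel₀ hl0, one_smul]
  obtain ⟨cg, hcg⟩ := (mem_sim_iff _ g.1).1 g.2
  rw [← hM] at hcg
  have hg' : ∀ v, Cfsg.quadFormMinus m F a b ((μ⁻¹ • M) *ᵥ v) =
      (μ⁻¹ * μ⁻¹ * (cg : F)) * Cfsg.quadFormMinus m F a b v := by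
    intro v
    rw [Matrix.smul_mulVec, Q_smul hQ, hcg]
    ring
  obtain ⟨P, hPu, hP, ν, hν0, hPG⟩ := hilbert90_minus σ r hr.pos hσr hinj m a b ha hb hab
    (μ⁻¹ • M) (μ⁻¹ * μ⁻¹ * (cg : F))
    (mul_ne_zero (mul_ne_zero (inv_ne_zero hμ0) (inv_ne_zero hμ0)) cg.ne_zero) hg' hN
  obtain ⟨h, hh⟩ : ∃ h : ↥(Cfsg.Geo.quadSimilarityGroup (F := F)
      (Cfsg.quadFormMinus m F a b)), h.1.val = P :=
    ⟨⟨hPu.unit, (mem_sim_iff _ _).2 ⟨Units.mk0 ν hν0, by
      intro v
      rw [IsUnit.unit_spec, Units.val_mk0]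
      exact hPG v⟩⟩, IsUnit.unit_spec hPu⟩
  refine ⟨h, ?_⟩
  -- `g σ(h) = μ h`
  have e1 : g * conjSim (stdG σ ha hb) h =
      (⟨scalarGL μ hμ0, scalarGL_mem_GO hQ μ hμ0⟩ :
        ↥(Cfsg.Geo.quadSimilarityGroup (F := F) (Cfsg.quadFormMinus m F a b))) * h := by
    apply sim_ext'
    show (g.1 * (conjSim (stdG σ ha hb) h).1).val = (scalarGL μ hμ0 * h.1).val
    rw [Units.val_mul, Units.val_mul, conjSim_val, conjG_apply, stdG_left, stdG_right, inv_one,
      mul_one, one_mul, gmapI_val, hh, ← hM]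
    show M * P.map σ = (μ • (1 : Matrix (IM m) (IM m) F)) * P
    rw [Matrix.smul_mul, Matrix.one_mul]
    rw [Matrix.smul_mul] at hP
    conv_rhs => rw [← hP]
    rw [smul_smul, mul_inv_cancel₀ hμ0, one_smul]
  have e2 : DhO _ g * DhO _ (conjSim (stdG σ ha hb) h) =
      DhO (Cfsg.quadFormMinus m F a b) h := by
    rw [← map_mul, e1, map_mul, DhO_scalarG hQ, one_mul]
  have e3 : PhiM σ ha hb * DhO (Cfsg.quadFormMinus m F a b) h * (PhiM σ ha hb)⁻¹ =
      DhO _ (conjSim (stdG σ ha hb) h) := PsO_conj_DhO (stdG σ ha hb) h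
  have e4 : DhO _ g = DhO (Cfsg.quadFormMinus m F a b) h *
      (DhO _ (conjSim (stdG σ ha hb) h))⁻¹ := by
    rw [← e2, mul_inv_cancel_right]
  rw [e4, ← e3]
  group

end main

end Cfsg.Agent.Lib.H7AutPM
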