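import Cfsg.Agent.Lib.Helper7.AutPM.CosetM
import Mathlib

/-!
# Elements of prime order in the coset of a field automorphism of `PΩ⁻`: transport to a standard
field automorphism (helper7)
-/

set_option autoImplicit false
set_option linter.unusedSectionVars false
set_option linter.style.haveILetI false

namespace Cfsg.Agent.Lib.H7AutPM

open Matrix Cfsg Cfsg.Agent.Lib.H7AutPSp Cfsg.Agent.Lib.H7AutPO Cfsg.Agent.Lib.H7AutPSL
  Cfsg.Agent.Lib.Helper5.OrthAut Cfsg.Agent.H9.Orth Cfsg.Agent.Lib.Helper5.OrthSN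
  Cfsg.Agent.Lib.Helper5.OrthPar Cfsg.Agent.Lib.Helper5.OrthCls Cfsg.Agent.Lib.Helper5.OrthPM

universe u

section std

variable {F : Type u} [Field F] [Fintype F] {m : ℕ} {a b : F} (σ : RingAut F) (ha : σ a = a)
  (hb : σ b = b)

include ha in
/-- the reflection of the binary part has entries fixed by `σ` -/
theorem reflM_fixed : gmapI σ (reflM m a) = reflM m a := by
  apply Units.ext
  rw [gmapI_val]
  show (Matrix.fromBlocks (1 : Matrix (Fin m ⊕ Fin m) (Fin m ⊕ Fin m) F) 0 0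
    (refl2 a).val).map σ = Matrix.fromBlocks 1 0 0 (refl2 a).val
  rw [Matrix.fromBlocks_map, Matrix.map_zero _ (map_zero σ), Matrix.map_zero _ (map_zero σ),
    Matrix.map_one _ (map_zero σ) (map_one σ)]
  congr 1
  ext i j
  fin_cases i <;> fin_cases j <;> simp [refl2, ha]

/-- the standard field automorphism commutes with the reflection of the binary part -/
theorem PhiM_comm_refl :
    PhiM σ ha hb * DhO (Cfsg.quadFormMinus m F a b) ⟨reflM m a, reflM_mem_sim⟩ =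
      DhO (Cfsg.quadFormMinus m F a b) ⟨reflM m a, reflM_mem_sim⟩ * PhiM σ ha hb := by
  have e3 := PsO_conj_DhO (stdG (m := m) σ ha hb) ⟨reflM m a, reflM_mem_sim (b := b)⟩
  have e4 : conjSim (stdG (m := m) σ ha hb) ⟨reflM m a, reflM_mem_sim (b := b)⟩ =
      ⟨reflM m a, reflM_mem_sim⟩ := by
    apply Subtype.ext
    rw [conjSim_val, conjG_apply, stdG_left, stdG_right, inv_one, mul_one, one_mul]
    exact reflM_fixed σ ha
  rw [e4, mul_inv_eq_iff_eq_mul] at e3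
  exact e3

end std

section main

variable {F : Type u} [Field F] [Fintype F] {m : ℕ}

/-- the order of the field automorphism behind a standard field automorphism of prime order -/
theorem orderOf_sigma_of_PhiM (hm : 3 ≤ m) {a b : F}
    (hab : ∀ z₁ z₂ : F, z₁ ^ 2 + a * z₁ * z₂ + b * z₂ ^ 2 = 0 → z₁ = 0 ∧ z₂ = 0)
    (σ : RingAut F) (ha : σ a = a) (hb : σ b = b) (hσ1 : σ ≠ 1) (r : ℕ) (hr : r.Prime)
    (hΦ : orderOf (PhiM (m := m) σ ha hb) = r) : orderOf σ = r := by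
  haveI : Fact r.Prime := ⟨hr⟩
  have h1 : PhiM (m := m) σ ha hb ^ r = 1 := by rw [← hΦ]; exact pow_orderOf_eq_one _
  unfold PhiM at h1
  rw [← map_pow] at h1
  have h2 := (ker_PsO (hQM a b hab) (hnM hm) _ h1).1
  have h3 : (stdG (m := m) σ ha hb ^ r).1.right = σ ^ r := by
    have := map_pow (rightO (Cfsg.quadFormMinus m F a b)) (stdG σ ha hb) r
    rw [rightO_apply, rightO_apply, stdG_right] at this
    exact this
  rw [h3] at h2
  exact orderOf_eq_prime h2 hσ1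

theorem congr_conj {G H : Type*} [Group G] [Group H] (ψ : G ≃* H) (t : G) :
    MulAut.congr ψ (MulAut.conj t) = MulAut.conj (ψ t) := by
  ext y
  show ψ (t * ψ.symm y * t⁻¹) = ψ t * y * (ψ t)⁻¹
  rw [map_mul, map_mul, map_inv, ψ.apply_symm_apply]

theorem congr_inn {G H : Type*} [Group G] [Group H] (ψ : G ≃* H) (δ : MulAut G)
    (hδ : δ ∈ Cfsg.Inn G) : MulAut.congr ψ δ ∈ Cfsg.Inn H := by
  obtain ⟨t, rfl⟩ := hδ
  exact ⟨ψ t, (congr_conj ψ t).symm⟩

/-- the multiplier of a transported similarity -/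
theorem mu_simConj {ι : Type} [Fintype ι] [DecidableEq ι] [Nonempty ι] {Q Q' : (ι → F) → F}
    (hQ' : Cfsg.Geo.IsNondegenerateQuadraticForm Q') {h : GL ι F} {c : F}
    (hh : IsSimBetween Q Q' h c) (g : ↥(Cfsg.Geo.quadSimilarityGroup (F := F) Q)) :
    (mu (simConj hh g) : F) = (mu g : F) := by
  apply mu_unique hQ'
  intro v
  have h1 := hh.symm.2 v
  show Q' ((h * g.1 * h⁻¹).val *ᵥ v) = _
  rw [Units.val_mul, Units.val_mul, ← Matrix.mulVec_mulVec, ← Matrix.mulVec_mulVec, hh.2]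
  have := mu_spec g (h⁻¹.val *ᵥ v)
  rw [show act (g : GL ι F) (h⁻¹.val *ᵥ v) = g.1.val *ᵥ (h⁻¹.val *ᵥ v) from rfl] at this
  rw [this, h1]
  rw [← mul_assoc, ← mul_assoc, mul_comm c, mul_assoc (mu g : F), mul_inv_cancel₀ hh.1, mul_one]

/-- an isometry between two minus-type forms, as a matrix -/
theorem exists_simBetween_minus (a b a' b' : F)
    (hab : ∀ z₁ z₂ : F, z₁ ^ 2 + a * z₁ * z₂ + b * z₂ ^ 2 = 0 → z₁ = 0 ∧ z₂ = 0)
    (hab' : ∀ z₁ z₂ : F, z₁ ^ 2 + a' * z₁ * z₂ + b' * z₂ ^ 2 = 0 → z₁ = 0 ∧ z₂ = 0) :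
    ∃ h : GL (IM m) F,
      IsSimBetween (Cfsg.quadFormMinus m F a b) (Cfsg.quadFormMinus m F a' b') h 1 := by
  obtain ⟨e⟩ := Cfsg.Agent.Lib.Helper8.QType.QM_equiv m a b a' b' hab hab'
  obtain ⟨A, B, hAB, hBA, hA, -⟩ := exists_matrix_equiv e.toLinearEquiv
  refine ⟨⟨A, B, hAB, hBA⟩, one_ne_zero, fun v => ?_⟩
  show Cfsg.quadFormMinus m F a' b' (A *ᵥ v) = _
  rw [hA, one_mul, ← Cfsg.Agent.S0288.QM_apply, ← Cfsg.Agent.S0288.QM_apply]
  exact e.map_app v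

/-- **transport of `Inndiag` along an arbitrary isomorphism between two minus-type groups** -/
theorem inndiag_transport (hm : 3 ≤ m) {a b a' b' : F}
    (hab : ∀ z₁ z₂ : F, z₁ ^ 2 + a * z₁ * z₂ + b * z₂ ^ 2 = 0 → z₁ = 0 ∧ z₂ = 0)
    (hab' : ∀ z₁ z₂ : F, z₁ ^ 2 + a' * z₁ * z₂ + b' * z₂ ^ 2 = 0 → z₁ = 0 ∧ z₂ = 0)
    (hFac : FacG (Cfsg.quadFormMinus m F a b))
    (ψ : Cfsg.POmega F (Cfsg.quadFormMinus m F a b) ≃*
      Cfsg.POmega F (Cfsg.quadFormMinus m F a' b'))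
    (δ : MulAut (Cfsg.POmega F (Cfsg.quadFormMinus m F a b)))
    (hδ : δ ∈ Cfsg.inndiagPOmegaMinus m F a b) :
    MulAut.congr ψ δ ∈ Cfsg.inndiagPOmegaMinus m F a' b' := by
  by_cases h2 : (2 : F) = 0
  · rw [inndiag_eq_inn_two hm hab h2] at hδ
    rw [inndiag_eq_inn_two hm hab' h2]
    exact congr_inn ψ δ hδ
  · have hodd := odd_card_of_two_ne_zero hm hab h2
    obtain ⟨h, hh⟩ := exists_simBetween_minus (m := m) a b a' b' hab hab'
    obtain ⟨β, hβ⟩ : ∃ β : MulAut (Cfsg.POmega F (Cfsg.quadFormMinus m F a b)),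
        β = ψ.trans (pomConj hh).symm := ⟨_, rfl⟩
    have hN := inndiag_normal hm hab hFac
    have h1 : β * δ * β⁻¹ ∈ Cfsg.inndiagPOmegaMinus m F a b := hN.conj_mem δ hδ β
    have e1 : MulAut.congr ψ δ = MulAut.congr (pomConj hh) (β * δ * β⁻¹) := by
      ext y
      show ψ (δ (ψ.symm y)) = pomConj hh (β (δ (β⁻¹ ((pomConj hh).symm y))))
      have e2 : β⁻¹ ((pomConj hh).symm y) = ψ.symm y := by
        rw [MulAut.inv_apply, hβ]
        show ψ.symm ((pomConj hh).symm.symm ((pomConj hh).symm y)) = _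
        rw [MulEquiv.symm_symm, MulEquiv.apply_symm_apply]
      rw [e2, hβ]
      show _ = pomConj hh ((pomConj hh).symm (ψ (δ (ψ.symm y))))
      rw [MulEquiv.apply_symm_apply]
    obtain ⟨g, hg⟩ := inndiag_le_range hm hab h1
    rw [e1, ← hg, pomConj_DhO, mem_inndiag_iff_odd hm hab' hodd, chiDet_eq_one_iff,
      mu_simConj (hQM a' b' hab') hh]
    rw [← hg, mem_inndiag_iff_odd hm hab hodd, chiDet_eq_one_iff] at h1
    rw [← h1]
    show ((h * g.1 * h⁻¹ : GL (IM m) F) : Matrix (IM m) (IM m) F).det = _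
    rw [Units.val_mul, Units.val_mul, Matrix.det_mul, Matrix.det_mul, mul_comm, ← mul_assoc,
      ← Matrix.det_mul, ← Units.val_mul, inv_mul_cancel, Units.val_one, Matrix.det_one, one_mul]

theorem congr_symm_apply {G H : Type*} [Group G] [Group H] (ψ : G ≃* H) (δ : MulAut H) :
    (MulAut.congr ψ).symm δ = MulAut.congr ψ.symm δ := rfl

/-- the image of `Inndiag` under the transport -/
theorem map_inndiag_eq (hm : 3 ≤ m) {a b a' b' : F}
    (hab : ∀ z₁ z₂ : F, z₁ ^ 2 + a * z₁ * z₂ + b * z₂ ^ 2 = 0 → z₁ = 0 ∧ z₂ = 0)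
    (hab' : ∀ z₁ z₂ : F, z₁ ^ 2 + a' * z₁ * z₂ + b' * z₂ ^ 2 = 0 → z₁ = 0 ∧ z₂ = 0)
    (hFac : FacG (Cfsg.quadFormMinus m F a b)) (hFac' : FacG (Cfsg.quadFormMinus m F a' b'))
    (ψ : Cfsg.POmega F (Cfsg.quadFormMinus m F a b) ≃*
      Cfsg.POmega F (Cfsg.quadFormMinus m F a' b')) :
    (Cfsg.inndiagPOmegaMinus m F a b).map (MulAut.congr ψ).toMonoidHom =
      Cfsg.inndiagPOmegaMinus m F a' b' := by
  apply le_antisymm
  · rintro _ ⟨δ, hδ, rfl⟩
    exact inndiag_transport hm hab hab' hFac ψ δ hδ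
  · intro δ' hδ'
    refine ⟨MulAut.congr ψ.symm δ', inndiag_transport hm hab' hab hFac' ψ.symm δ' hδ', ?_⟩
    rw [← congr_symm_apply]
    exact (MulAut.congr ψ).apply_symm_apply δ'

theorem map_inn_eq {G H : Type*} [Group G] [Group H] (ψ : G ≃* H) :
    (Cfsg.Inn G).map (MulAut.congr ψ).toMonoidHom = Cfsg.Inn H := by
  apply le_antisymm
  · rintro _ ⟨δ, hδ, rfl⟩
    exact congr_inn ψ δ hδ
  · intro δ' hδ'
    refine ⟨MulAut.congr ψ.symm δ', congr_inn ψ.symm δ' hδ', ?_⟩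
    rw [← congr_symm_apply]
    exact (MulAut.congr ψ).apply_symm_apply δ'

/-- the data of a field automorphism of `PΩ⁻` -/
theorem field_data_M {a b : F} (x : MulAut (Cfsg.POmega F (Cfsg.quadFormMinus m F a b)))
    (hx : Cfsg.IsFieldAutClassPOmegaMinus m x) :
    ∃ (a' b' : F) (ψ : Cfsg.POmega F (Cfsg.quadFormMinus m F a b) ≃*
        Cfsg.POmega F (Cfsg.quadFormMinus m F a' b')) (σ : RingAut F)
      (_ : ∀ z₁ z₂ : F, z₁ ^ 2 + a' * z₁ * z₂ + b' * z₂ ^ 2 = 0 → z₁ = 0 ∧ z₂ = 0)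
      (ha : σ a' = a') (hb : σ b' = b'), σ ≠ 1 ∧ MulAut.congr ψ x = PhiM σ ha hb := by
  obtain ⟨a', b', ψ, σ, hab', hσ, ha, hb, hf⟩ := hx
  refine ⟨a', b', ψ, σ, hab', ha, hb, hσ, ?_⟩
  rw [← fieldAut_iff σ ha hb]
  exact hf

set_option maxHeartbeats 1600000 in
/-- **S2737 core**: elements of order `r` in the coset of a field automorphism of prime order `r`
are conjugate to it under `Inndiag` -/
theorem field_coset_iff_M (hm : 3 ≤ m)
    (hFacAll : ∀ (a b : F),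
      (∀ z₁ z₂ : F, z₁ ^ 2 + a * z₁ * z₂ + b * z₂ ^ 2 = 0 → z₁ = 0 ∧ z₂ = 0) →
      FacG (Cfsg.quadFormMinus m F a b))
    (a b : F)
    (hab : ∀ z₁ z₂ : F, z₁ ^ 2 + a * z₁ * z₂ + b * z₂ ^ 2 = 0 → z₁ = 0 ∧ z₂ = 0)
    (x δ : MulAut (Cfsg.POmega F (Cfsg.quadFormMinus m F a b)))
    (hx : Cfsg.IsFieldAutClassPOmegaMinus m x) {r : ℕ} (hr : r.Prime) (hxr : orderOf x = r)
    (hδ : δ ∈ Cfsg.inndiagPOmegaMinus m F a b) :
    orderOf (δ * x) = r ↔ Cfsg.IsConjUnder (Cfsg.inndiagPOmegaMinus m F a b) x (δ * x) := by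
  constructor
  · intro hord
    obtain ⟨a', b', ψ, σ, hab', ha, hb, hσ1, hΦ⟩ := field_data_M x hx
    have hmap := map_inndiag_eq hm hab hab' (hFacAll a b hab) (hFacAll a' b' hab') ψ
    rw [← isConjUnder_map (MulAut.congr ψ), hmap, map_mul, hΦ]
    have hδ' : MulAut.congr ψ δ ∈ Cfsg.inndiagPOmegaMinus m F a' b' :=
      inndiag_transport hm hab hab' (hFacAll a b hab) ψ δ hδ
    have hΦr : orderOf (PhiM (m := m) σ ha hb) = r := by
      rw [← hΦ, MulEquiv.orderOf_eq, hxr]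
    have hσr := orderOf_sigma_of_PhiM hm hab' σ ha hb hσ1 r hr hΦr
    obtain ⟨g, hg⟩ := inndiag_le_range hm hab' hδ'
    have hy : (DhO (Cfsg.quadFormMinus m F a' b') g * PhiM σ ha hb) ^ r = 1 := by
      rw [hg, ← hΦ, ← map_mul, ← map_pow, ← hord, pow_orderOf_eq_one, map_one]
    obtain ⟨h, hh⟩ := field_coset_conj_M hm hab' σ ha hb r hr hσr g hy
    rw [← hg, hh]
    rcases inndiag_or_refl hm hab' h with h1 | h1
    · exact ⟨_, h1, rfl⟩
    · refine ⟨_, h1, ?_⟩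
      rw [map_mul]
      have hc := PhiM_comm_refl (m := m) σ ha hb
      have hc' : DhO (Cfsg.quadFormMinus m F a' b') ⟨reflM m a', reflM_mem_sim⟩ * PhiM σ ha hb *
          (DhO (Cfsg.quadFormMinus m F a' b') ⟨reflM m a', reflM_mem_sim⟩)⁻¹ = PhiM σ ha hb := by
        rw [← hc, mul_inv_cancel_right]
      rw [_root_.mul_inv_rev]
      calc DhO _ h * PhiM σ ha hb * (DhO _ h)⁻¹
          = DhO _ h * (DhO (Cfsg.quadFormMinus m F a' b') ⟨reflM m a', reflM_mem_sim⟩ *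
              PhiM σ ha hb *
              (DhO (Cfsg.quadFormMinus m F a' b') ⟨reflM m a', reflM_mem_sim⟩)⁻¹) *
              (DhO _ h)⁻¹ := by rw [hc']
        _ = _ := by group
  · rintro ⟨h, -, e⟩
    rw [e, ← hxr]
    exact (MulAut.conj h).orderOf_eq x

end main

end Cfsg.Agent.Lib.H7AutPM
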