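import Cfsg.Agent.Lib.Helper7.AutPM.CosetP
import Mathlib

/-!
# S2736 core: elements of prime order in the coset of a field or graph-field automorphism of
`PΩ⁺_{2m}(q)` (helper7)

Conditional on the factorisation `FacG` of the automorphism group (lead's `FacD_core`, `m ≥ 5`).
-/

set_option autoImplicit false
set_option linter.unusedSectionVars false
set_option linter.style.haveILetI false

namespace Cfsg.Agent.Lib.H7AutPM

open Matrix Cfsg Cfsg.Agent.Lib.H7AutPSp Cfsg.Agent.Lib.H7AutPO Cfsg.Agent.Lib.H7AutPSL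
  Cfsg.Agent.Lib.Helper5.OrthAut Cfsg.Agent.H9.Orth Cfsg.Agent.Lib.Helper5.OrthSN
  Cfsg.Agent.Lib.Helper5.OrthPar Cfsg.Agent.Lib.Helper5.OrthCls Cfsg.Agent.Lib.Helper5.OrthPM

universe u

section abstractGrp

variable {A : Type*} [Group A]

/-- transport of the coset statement along a conjugation -/
theorem isConjUnder_of_conj (D : Subgroup A) [hN : D.Normal] (x δ α x' : A) (r : ℕ)
    (hx' : α * x * α⁻¹ = x') (hδ : δ ∈ D) (hord : (δ * x) ^ r = 1)
    (hkey : ∀ δ' ∈ D, (δ' * x') ^ r = 1 → ∃ d ∈ D, δ' * x' = d * x' * d⁻¹) :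
    Cfsg.IsConjUnder D x (δ * x) := by
  have hδ' : α * δ * α⁻¹ ∈ D := hN.conj_mem δ hδ α
  have e1 : α * δ * α⁻¹ * x' = α * (δ * x) * α⁻¹ := by
    rw [← hx']
    group
  have h1 : (α * δ * α⁻¹ * x') ^ r = 1 := by
    rw [e1, conj_pow, hord, mul_one, mul_inv_cancel]
  obtain ⟨d, hd, hdx⟩ := hkey _ hδ' h1
  refine ⟨α⁻¹ * d * α, ?_, ?_⟩
  · have := hN.conj_mem d hd α⁻¹
    rwa [inv_inv] at this
  · have e2 : δ * x = α⁻¹ * (α * δ * α⁻¹ * x') * α := by
      rw [e1]
      group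
    rw [e2, hdx, ← hx']
    group

end abstractGrp

variable {F : Type u} [Field F] [Fintype F] {m : ℕ}

/-- a graph-field automorphism of prime order is an involution -/
theorem graphfield_order (hm : 4 ≤ m) (σ : RingAut F) (hσ1 : σ ≠ 1)
    (v : Fin m ⊕ Fin m → F) (hv : Cfsg.quadFormPlus m F v ≠ 0) (hfix : vmap σ v = v)
    (r : ℕ) (hr : r.Prime)
    (hord : orderOf (DhO (Cfsg.quadFormPlus m F) (rfS v) * PhiQ σ (hσP σ)) = r) :
    r = 2 ∧ orderOf σ = 2 := by
  have hQ := hQP (F := F) (m := m)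
  have hn := hnP (m := m) hm
  have hcomm : Commute (DhO (Cfsg.quadFormPlus m F) (rfS v)) (PhiQ σ (hσP σ)) :=
    DhO_rfS_comm σ v hv hfix
  have e0 : DhO (Cfsg.quadFormPlus m F) (rfS v) ^ 2 = 1 := by
    rw [pow_two, ← map_mul, rfS_mul_self, map_one]
  have hpow : (DhO (Cfsg.quadFormPlus m F) (rfS v) * PhiQ σ (hσP σ)) ^ r = 1 := by
    rw [← hord]
    exact pow_orderOf_eq_one _
  rw [hcomm.mul_pow, PhiQ_pow] at hpow
  -- the kernel of `PsO`
  have hker : ∀ (g : ↥(Cfsg.Geo.quadSimilarityGroup (F := F) (Cfsg.quadFormPlus m F)))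
      (τ : RingAut F), DhO _ g * PhiQ τ (hσP τ) = 1 → τ = 1 := by
    intro g τ h
    rw [← PsO_cosGQ] at h
    have h2 := (ker_PsO hQ hn _ h).1
    have h3 := (cosGQ_pow τ (hσP τ) g 1).2
    rw [pow_one, pow_one] at h3
    rw [← h3]
    exact h2
  have hρD := DhO_rf_not_mem_inndiag hm v hv
  have hr2 : r = 2 := by
    rcases hr.eq_two_or_odd' with h2 | hro
    · exact h2
    · exfalso
      obtain ⟨k, hk⟩ := hro
      have e1 : DhO (Cfsg.quadFormPlus m F) (rfS v) ^ r = DhO _ (rfS v) := by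
        rw [hk, pow_succ, pow_mul, e0, one_pow, one_mul]
      rw [e1] at hpow
      have hτ := hker _ _ hpow
      have e2 : PhiQ (Q := Cfsg.quadFormPlus m F) (σ ^ r) (hσP (σ ^ r)) =
          PhiQ (1 : RingAut F) (hσP 1) := by
        congr 1
      rw [e2, PhiQ_one, mul_one] at hpow
      apply hρD
      show DhO _ (rfS v) ∈ _
      rw [hpow]
      exact one_mem _
  refine ⟨hr2, ?_⟩
  subst hr2
  rw [e0] at hpow
  have hτ := hker 1 _ (by rw [map_one]; exact hpow)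
  haveI : Fact (Nat.Prime 2) := ⟨Nat.prime_two⟩
  exact orderOf_eq_prime hτ hσ1

set_option maxHeartbeats 1600000 in
/-- **S2736 core** -/
theorem field_coset_iff_P (hm : 4 ≤ m) (hFac : FacG (Cfsg.quadFormPlus m F))
    (x δ : MulAut (Cfsg.POmega F (Cfsg.quadFormPlus m F)))
    (hx : Cfsg.IsFieldAutClassPOmega (Cfsg.quadFormPlus m F) x ∨
      Cfsg.IsGraphFieldAutClassPOmegaPlus m x) {r : ℕ} (hr : r.Prime) (hxr : orderOf x = r)
    (hδ : δ ∈ Cfsg.inndiagPOmegaPlus m F) :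
    orderOf (δ * x) = r ↔ Cfsg.IsConjUnder (Cfsg.inndiagPOmegaPlus m F) x (δ * x) := by
  haveI hN := inndiag_normal_P hm hFac
  haveI : Nonempty (Fin m ⊕ Fin m) := ⟨Sum.inl ⟨0, by omega⟩⟩
  have hQ := hQP (F := F) (m := m)
  have hn := hnP (m := m) hm
  constructor
  · intro hord
    have hpow : (δ * x) ^ r = 1 := by rw [← hord]; exact pow_orderOf_eq_one _
    rcases hx with hx | hx
    · obtain ⟨α, φ, σ, hσ1, hφ, hαx⟩ := hx
      rw [fieldAut_iff_Q σ (hσP σ)] at hφ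
      subst hφ
      have hΦr : orderOf (PhiQ (Q := Cfsg.quadFormPlus m F) σ (hσP σ)) = r := by
        rw [← hαx, ← MulAut.conj_apply, MulEquiv.orderOf_eq, hxr]
      have hσr := orderOf_sigma_of_PhiQ hQ σ (hσP σ) hn hσ1 r hr hΦr
      apply isConjUnder_of_conj _ x δ α _ r hαx hδ hpow
      intro δ' hδ' hy
      obtain ⟨g, rfl⟩ := inndiag_le_range_P hm hδ'
      exact field_coset_conj_P hm hFac σ r hr hσr g hδ' hy
    · obtain ⟨α, γ, φ, σ, v, rr, hσ1, hv, hvfix, hrr, hγ, hφ, hαx⟩ := hx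
      rw [fieldAut_iff_Q σ (hσP σ)] at hφ
      subst hφ
      have hrr' : rr = rf hQP v :=
        Units.ext (hrr.trans (reflectionMatrix_eq_rf hQP v hv))
      subst hrr'
      have hγ' : γ = DhO _ (rfS v) :=
        (induced_refl_iff (rfS v) γ).1 hγ
      subst hγ'
      have hfix : vmap σ v = v := funext hvfix
      have hΦr : orderOf (DhO (Cfsg.quadFormPlus m F) (rfS v) * PhiQ σ (hσP σ)) = r := by
        rw [← hαx, ← MulAut.conj_apply, MulEquiv.orderOf_eq, hxr]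
      obtain ⟨hr2, hσ2⟩ := graphfield_order hm σ hσ1 v hv hfix r hr hΦr
      subst hr2
      apply isConjUnder_of_conj _ x δ α _ 2 hαx hδ hpow
      intro δ' hδ' hy
      obtain ⟨g, rfl⟩ := inndiag_le_range_P hm hδ'
      exact graphfield_coset_conj_P hm hFac σ hσ2 v hv hfix g hδ' hy
  · rintro ⟨h, -, e⟩
    rw [e, ← hxr]
    exact (MulAut.conj h).orderOf_eq x

end Cfsg.Agent.Lib.H7AutPM
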