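import Cfsg.Agent.Lib.Helper7.AutPM.HilbertQ
import Mathlib

/-!
# The type of the form of fixed points of a twisted similarity `v ↦ g σ(v)` (helper7)

For a similarity `g` of a `σ`-stable quadratic form `Q` with `g σ(g) ⋯ σ^{r-1}(g) = 1`, the fixed
points of `v ↦ g σ(v)` are a form of `Q` over the fixed field of `σ`; two such similarities whose
forms have the same type are twisted conjugate.
-/

set_option autoImplicit false
set_option linter.unusedSectionVars false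

namespace Cfsg.Agent.Lib.H7AutPM

open QuadraticMap Module Cfsg.Agent.H9.QuadFin Cfsg.Agent.Lib.Helper8.QType
  Cfsg.Agent.Lib.H7AutPSp Cfsg.Agent.Lib.H7AutPSL

universe u

variable {F : Type u} [Field F] [Fintype F] (σ : RingAut F)
variable {ι : Type} [Fintype ι] [DecidableEq ι]

/-- `(g, σ)` has a descent of type `ε`: a `σ`-twisted trivialisation `P₀` of `g` and a scalar `b`
such that `b • Q ∘ P₀` descends to a form of type `ε` over the fixed field -/
def DescType [Fintype (FixedPoints.subfield (Subgroup.zpowers σ) F)]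
    (Q : QuadraticForm F (ι → F)) (g : Matrix ι ι F) (l : ℕ) (ε : ℤ) : Prop :=
  ∃ (P₀ : Matrix ι ι F) (b : F)
    (Q₀ : QuadraticForm (FixedPoints.subfield (Subgroup.zpowers σ) F)
      (ι → FixedPoints.subfield (Subgroup.zpowers σ) F)),
    IsUnit P₀ ∧ b ≠ 0 ∧ g * P₀.map σ = P₀ ∧ HasType Q₀ l ε ∧
      ∀ v₀, (FixedPoints.subfield (Subgroup.zpowers σ) F).subtype (Q₀ v₀) =
        b * Q (P₀.mulVec (vpush (FixedPoints.subfield (Subgroup.zpowers σ) F).subtype v₀))

/-- existence of a descent -/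
theorem exists_descType (r : ℕ) (hr : 0 < r) (hσ : σ ^ r = 1)
    (hinj : ∀ i k, i < r → k < r → σ ^ i = σ ^ k → i = k)
    (l : ℕ) (ε : ℤ)
    (Q : QuadraticForm F (ι → F)) (hQσ : ∀ v : ι → F, Q (fun i => σ (v i)) = σ (Q v))
    (hQt : HasType Q l ε)
    [Fintype (FixedPoints.subfield (Subgroup.zpowers σ) F)]
    (g : Matrix ι ι F) (c : F) (hc : c ≠ 0) (hg : ∀ v, Q (g.mulVec v) = c * Q v)
    (hN : pnormG σ g r = 1) :
    ∃ ε' : ℤ, DescType σ Q g l ε' := by
  classical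
  obtain ⟨j, hj⟩ : ∃ j : FixedPoints.subfield (Subgroup.zpowers σ) F →+* F,
      j = (FixedPoints.subfield (Subgroup.zpowers σ) F).subtype := ⟨_, rfl⟩
  have hjfix : ∀ t : FixedPoints.subfield (Subgroup.zpowers σ) F, σ (j t) = j t := by
    intro t
    rw [hj]
    exact (mem_fixed_iff σ _).1 t.2
  have hjsurj : ∀ t : F, σ t = t → ∃ t₀, j t₀ = t := by
    intro t ht
    exact ⟨⟨t, (mem_fixed_iff σ t).2 ht⟩, by rw [hj]; rfl⟩
  obtain ⟨P₀, hP₀u, hP₀⟩ := hilbert90_matrixG σ r hr hσ hinj g hN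
  have hP₀i : Invertible P₀ := hP₀u.invertible
  set Q₁ : QuadraticForm F (ι → F) := Q.comp (Matrix.toLin' P₀) with hQ₁
  have hQ₁a : ∀ v, Q₁ v = Q (P₀.mulVec v) := fun v => by
    rw [hQ₁, QuadraticMap.comp_apply, Matrix.toLin'_apply]
  have hQ₁σ : ∀ v : ι → F, Q₁ (fun i => σ (v i)) = c * σ (Q₁ v) := by
    intro v
    rw [hQ₁a, hQ₁a, ← hQσ, map_mulVecG]
    conv_lhs => rw [← hP₀]
    rw [← Matrix.mulVec_mulVec, hg]
  have hQ₁t : HasType Q₁ l ε := by
    have := hasType_comp hQt (P₀.toLinearEquiv' hP₀i)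
    rw [Matrix.toLinearEquiv'_apply] at this
    exact this
  have hpow : ∀ (k : ℕ) (v : ι → F), Q₁ (fun i => (σ ^ k) (v i)) =
      fnorm σ c k * (σ ^ k) (Q₁ v) := by
    intro k
    induction k with
    | zero =>
      intro v
      rw [fnorm_zero, one_mul, pow_zero]
      rfl
    | succ k ih =>
      intro v
      have e1 : (fun i => (σ ^ (k + 1)) (v i)) = fun i => σ ((fun i => (σ ^ k) (v i)) i) := by
        ext i
        rw [pow_succ']
        rfl
      rw [e1, hQ₁σ, ih, map_mul, fnorm_succ', pow_succ', mul_assoc]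
      rfl
  have hnorm : fnorm σ c r = 1 := by
    obtain ⟨v, hv⟩ : ∃ v, Q₁ v ≠ 0 := by
      by_contra hcon
      simp only [not_exists, not_not] at hcon
      have h0 : ∀ x, (∀ y, polar Q₁ x y = 0) := by
        intro x y
        unfold polar
        rw [hcon, hcon, hcon]
        ring
      have hnd := (nondeg_iff Q₁).1 hQ₁t.2.1
      have hall : ∀ x : ι → F, x = 0 := fun x => hnd x (h0 x)
      have hfr := hQ₁t.1
      have : Subsingleton (ι → F) := ⟨fun x y => by rw [hall x, hall y]⟩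
      rw [Module.finrank_zero_of_subsingleton] at hfr
      omega
    have := hpow r v
    rw [hσ] at this
    have e : Q₁ (fun i => (1 : RingAut F) (v i)) = Q₁ v := rfl
    rw [e] at this
    have e2 : (1 : RingAut F) (Q₁ v) = Q₁ v := rfl
    rw [e2] at this
    have h3 : 1 * Q₁ v = fnorm σ c r * Q₁ v := by rw [one_mul]; exact this
    exact (mul_right_cancel₀ hv h3).symm
  obtain ⟨b, hb0, hb⟩ := hilbert90_field σ r hr hσ hinj c hnorm
  set Q₂ : QuadraticForm F (ι → F) := b⁻¹ • Q₁ with hQ₂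
  have hQ₂a : ∀ v, Q₂ v = b⁻¹ * Q₁ v := fun v => rfl
  have hQ₂σ : ∀ v : ι → F, Q₂ (fun i => σ (v i)) = σ (Q₂ v) := by
    intro v
    rw [hQ₂a, hQ₂a, hQ₁σ, map_mul, map_inv₀]
    have hσb : σ b ≠ 0 := (map_ne_zero σ).2 hb0
    have hbc : b⁻¹ * c = (σ b)⁻¹ := by
      calc b⁻¹ * c = b⁻¹ * (c * σ b) * (σ b)⁻¹ := by field_simp
        _ = (σ b)⁻¹ := by rw [hb, inv_mul_cancel₀ hb0, one_mul]
    rw [← mul_assoc, hbc]
  have hQ₂t : HasType Q₂ l ε := hasType_smul hQ₁t b⁻¹ (inv_ne_zero hb0)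
  have hdesc : ∀ v₀ : ι → FixedPoints.subfield (Subgroup.zpowers σ) F,
      ∃ c₀, j c₀ = Q₂ (vpush j v₀) := by
    intro v₀
    apply hjsurj
    rw [← hQ₂σ]
    congr 1
    ext i
    exact hjfix (v₀ i)
  obtain ⟨Q₂₀, hQ₂₀⟩ := exists_descend j Q₂ hdesc
  have hnd₀ := descend_nondeg j Q₂ Q₂₀ hQ₂₀ hQ₂t.2.1
  have hfr : finrank (FixedPoints.subfield (Subgroup.zpowers σ) F)
      (ι → FixedPoints.subfield (Subgroup.zpowers σ) F) = 2 * l + 2 := by
    rw [Module.finrank_fintype_fun_eq_card]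
    have := hQt.1
    rw [Module.finrank_fintype_fun_eq_card] at this
    exact this
  obtain ⟨ε', hε'⟩ := exists_hasType Q₂₀ hnd₀ l hfr
  refine ⟨ε', P₀, b⁻¹, Q₂₀, hP₀u, inv_ne_zero hb0, hP₀, hε', ?_⟩
  intro v₀
  rw [← hj, hQ₂₀, hQ₂a, hQ₁a]

/-- the trivial descent -/
theorem descType_one [Fintype (FixedPoints.subfield (Subgroup.zpowers σ) F)]
    (l : ℕ) (ε₀ : ℤ) (Q : QuadraticForm F (ι → F))
    (Q₀ : QuadraticForm (FixedPoints.subfield (Subgroup.zpowers σ) F)
      (ι → FixedPoints.subfield (Subgroup.zpowers σ) F))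
    (hQ₀ : ∀ v₀, (FixedPoints.subfield (Subgroup.zpowers σ) F).subtype (Q₀ v₀) =
      Q (vpush (FixedPoints.subfield (Subgroup.zpowers σ) F).subtype v₀))
    (hQ₀t : HasType Q₀ l ε₀) : DescType σ Q (1 : Matrix ι ι F) l ε₀ := by
  refine ⟨1, 1, Q₀, isUnit_one, one_ne_zero, ?_, hQ₀t, ?_⟩
  · rw [Matrix.one_mul]
    ext i k
    rw [Matrix.map_apply, Matrix.one_apply]
    split_ifs
    · exact map_one σ
    · exact map_zero σ
  · intro v₀
    rw [one_mul, Matrix.one_mulVec]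
    exact hQ₀ v₀

/-- two twisted similarities with descents of the same type are twisted conjugate -/
theorem descType_conj [Fintype (FixedPoints.subfield (Subgroup.zpowers σ) F)]
    (Q : QuadraticForm F (ι → F)) (g g' : Matrix ι ι F) (l : ℕ) (ε : ℤ)
    (h : DescType σ Q g l ε) (h' : DescType σ Q g' l ε) :
    ∃ H : Matrix ι ι F, IsUnit H ∧ g * H.map σ = H * g' ∧ ∃ ν : F, ν ≠ 0 ∧
      ∀ v, Q (H.mulVec v) = ν * Q v := by
  classical
  obtain ⟨j, hj⟩ : ∃ j : FixedPoints.subfield (Subgroup.zpowers σ) F →+* F,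
      j = (FixedPoints.subfield (Subgroup.zpowers σ) F).subtype := ⟨_, rfl⟩
  have hjfix : ∀ t : FixedPoints.subfield (Subgroup.zpowers σ) F, σ (j t) = j t := by
    intro t
    rw [hj]
    exact (mem_fixed_iff σ _).1 t.2
  obtain ⟨P, b, Q₀, hPu, hb0, hP, hQ₀t, hQ₀⟩ := h
  obtain ⟨P', b', Q₀', hP'u, hb'0, hP', hQ₀'t, hQ₀'⟩ := h'
  rw [← hj] at hQ₀ hQ₀'
  have hPi : Invertible P := hPu.invertible
  have hP'i : Invertible P' := hP'u.invertible
  -- the two forms over `F`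
  set Q₂ : QuadraticForm F (ι → F) := b • Q.comp (Matrix.toLin' P) with hQ₂
  set Q₂' : QuadraticForm F (ι → F) := b' • Q.comp (Matrix.toLin' P') with hQ₂'
  have hQ₂a : ∀ v, Q₂ v = b * Q (P.mulVec v) := fun v => by
    rw [hQ₂]
    show b * (Q.comp (Matrix.toLin' P)) v = _
    rw [QuadraticMap.comp_apply, Matrix.toLin'_apply]
  have hQ₂'a : ∀ v, Q₂' v = b' * Q (P'.mulVec v) := fun v => by
    rw [hQ₂']
    show b' * (Q.comp (Matrix.toLin' P')) v = _
    rw [QuadraticMap.comp_apply, Matrix.toLin'_apply]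
  obtain ⟨e⟩ := equiv_of_hasType hQ₀t hQ₀'t
  obtain ⟨A, B, hAB, hBA, hkey⟩ := isometry_push j Q₂ Q₀ (fun v₀ => by rw [hQ₀, hQ₂a]) Q₂' Q₀'
    (fun v₀ => by rw [hQ₀', hQ₂'a]) e
  have hBu : IsUnit (B.map j) := by
    have h1 : B.map j * A.map j = 1 := by rw [← map_mul_push, hBA, map_map_one]
    exact (Matrix.isUnit_iff_isUnit_det _).2 (Matrix.isUnit_det_of_right_inverse h1)
  have hBσ : (B.map j).map σ = B.map j := by
    ext i k
    rw [Matrix.map_apply, Matrix.map_apply]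
    exact hjfix _
  have hP'inv : P' * ⅟P' = 1 := mul_invOf_self P'
  have hP'inv' : ⅟P' * P' = 1 := invOf_mul_self P'
  have hP'σ : ⅟P' * g' = (⅟P').map σ := by
    -- `g' σ(P') = P'`
    have h1 : (⅟P').map σ * P'.map σ = 1 := by
      rw [← map_mulG, hP'inv']
      ext i k
      rw [Matrix.map_apply, Matrix.one_apply]
      split_ifs
      · exact map_one σ
      · exact map_zero σ
    have h2 : P'.map σ * (⅟P').map σ = 1 := by
      rw [← map_mulG, hP'inv]
      ext i k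
      rw [Matrix.map_apply, Matrix.one_apply]
      split_ifs
      · exact map_one σ
      · exact map_zero σ
    calc ⅟P' * g' = ⅟P' * g' * (P'.map σ * (⅟P').map σ) := by rw [h2, Matrix.mul_one]
      _ = ⅟P' * (g' * P'.map σ) * (⅟P').map σ := by simp only [Matrix.mul_assoc]
      _ = (⅟P').map σ := by rw [hP', hP'inv', Matrix.one_mul]
  refine ⟨P * B.map j * ⅟P', (hPu.mul hBu).mul (isUnit_of_invertible (⅟P')), ?_, b⁻¹ * b', mul_ne_zero (inv_ne_zero hb0) hb'0, ?_⟩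
  · rw [map_mulG, map_mulG, hBσ, ← Matrix.mul_assoc, ← Matrix.mul_assoc, hP, Matrix.mul_assoc,
      Matrix.mul_assoc, Matrix.mul_assoc, hP'σ]
  · intro v
    have h1 := hkey ((⅟P').mulVec v)
    have e1 : P'.mulVec ((⅟P').mulVec v) = v := by
      rw [Matrix.mulVec_mulVec, hP'inv, Matrix.one_mulVec]
    rw [hQ₂a, hQ₂'a, e1] at h1
    rw [← Matrix.mulVec_mulVec, ← Matrix.mulVec_mulVec]
    have h2 : Q (P.mulVec ((B.map j).mulVec ((⅟P').mulVec v))) = b⁻¹ * (b' * Q v) := by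
      rw [← h1, ← mul_assoc, inv_mul_cancel₀ hb0, one_mul]
    rw [h2, mul_assoc]

end Cfsg.Agent.Lib.H7AutPM
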