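import Cfsg.Agent.Lib.Helper7.AutPM.HilbertM
import Cfsg.Agent.Lib.Helper7.AutPM.DescType
import Mathlib

/-!
# Hilbert 90 for the conformal orthogonal group of plus type and a field automorphism of odd order
(helper7)
-/

set_option autoImplicit false
set_option linter.unusedSectionVars false
set_option linter.style.haveILetI false

namespace Cfsg.Agent.Lib.H7AutPM

open QuadraticMap Module Cfsg.Agent.H9.QuadFin Cfsg.Agent.Lib.Helper8.QType
  Cfsg.Agent.Lib.H7AutPSp Cfsg.Agent.Lib.H7AutPSL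

universe u v

/-- an anisotropic binary form over a finite field -/
theorem exists_aniso_pair (K : Type v) [Field K] [Finite K] :
    ∃ a b : K, ∀ z₁ z₂ : K, z₁ ^ 2 + a * z₁ * z₂ + b * z₂ ^ 2 = 0 → z₁ = 0 ∧ z₂ = 0 := by
  have hni : ¬ Function.Injective (fun t : K => t ^ 2 + t) := by
    intro h
    have h1 : (fun t : K => t ^ 2 + t) 0 = (fun t : K => t ^ 2 + t) (-1) := by
      simp only
      ring
    have := h h1
    have h2 : (1 : K) = 0 := by linear_combination this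
    exact one_ne_zero h2
  have hns : ¬ Function.Surjective (fun t : K => t ^ 2 + t) :=
    fun h => hni (Finite.injective_iff_surjective.2 h)
  rw [Function.Surjective] at hns
  push Not at hns
  obtain ⟨c, hc⟩ := hns
  refine ⟨1, -c, fun z₁ z₂ h => ?_⟩
  by_cases hz : z₂ = 0
  · subst hz
    have : z₁ ^ 2 = 0 := by linear_combination h
    exact ⟨pow_eq_zero_iff (two_ne_zero) |>.1 this, rfl⟩
  · exfalso
    apply hc (z₁ / z₂)
    show (z₁ / z₂) ^ 2 + z₁ / z₂ = c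
    field_simp
    linear_combination h

variable {F : Type u} [Field F]

/-- a binary form with coefficients fixed by an automorphism of odd order which is anisotropic
over the fixed field is anisotropic -/
theorem aniso_of_odd_sigma (σ : RingAut F) (r : ℕ) (hro : Odd r) (hσ : σ ^ r = 1) (a b : F)
    (ha : σ a = a) (hb : σ b = b)
    (hab₀ : ∀ z₁ z₂ : F, σ z₁ = z₁ → σ z₂ = z₂ → z₁ ^ 2 + a * z₁ * z₂ + b * z₂ ^ 2 = 0 →
      z₁ = 0 ∧ z₂ = 0) :
    ∀ z₁ z₂ : F, z₁ ^ 2 + a * z₁ * z₂ + b * z₂ ^ 2 = 0 → z₁ = 0 ∧ z₂ = 0 := by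
  intro z₁ z₂ h
  by_cases hz : z₂ = 0
  · subst hz
    have : z₁ ^ 2 = 0 := by linear_combination h
    exact ⟨pow_eq_zero_iff (two_ne_zero) |>.1 this, rfl⟩
  · exfalso
    obtain ⟨t, ht⟩ : ∃ t, t = z₁ / z₂ := ⟨_, rfl⟩
    have hroot : t ^ 2 + a * t + b = 0 := by
      rw [ht]
      field_simp
      linear_combination h
    have hσroot : σ t ^ 2 + a * σ t + b = 0 := by
      have := congrArg σ hroot
      rw [map_add, map_add, map_mul, map_pow, ha, hb, map_zero] at this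
      exact this
    have hfix : σ t = t := by
      have h3 : (σ t - t) * (σ t + t + a) = 0 := by linear_combination hσroot - hroot
      rcases mul_eq_zero.1 h3 with h4 | h4
      · linear_combination h4
      · have hσt : σ t = -a - t := by linear_combination h4
        have hσ2 : σ (σ t) = t := by
          rw [hσt, map_sub, map_neg, ha, hσt]
          ring
        have hpow : ∀ k : ℕ, (σ ^ (2 * k)) t = t := by
          intro k
          induction k with
          | zero => simp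
          | succ k ih =>
            rw [show 2 * (k + 1) = 2 * k + 2 by ring, pow_add, RingAut.mul_apply, pow_two,
              RingAut.mul_apply, hσ2, ih]
        obtain ⟨k, hk⟩ := hro
        have h5 : (σ ^ r) t = t := by rw [hσ]; rfl
        rw [hk, pow_succ, RingAut.mul_apply] at h5
        have h6 : (σ ^ (2 * k)) (σ t) = σ ((σ ^ (2 * k)) t) := by
          rw [← RingAut.mul_apply, ← RingAut.mul_apply, ← pow_succ, ← pow_succ']
        rw [h6, hpow] at h5
        exact h5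
    have := hab₀ t 1 hfix (map_one σ) (by linear_combination hroot)
    exact one_ne_zero this.2

variable [Fintype F]

/-- **Hilbert 90 for the conformal orthogonal group of plus type**, `σ` of odd order, all
characteristics -/
theorem hilbert90_plus_odd (σ : RingAut F) (r : ℕ) (hro : Odd r) (hr : 0 < r) (hσ : σ ^ r = 1)
    (hinj : ∀ i k, i < r → k < r → σ ^ i = σ ^ k → i = k)
    (l : ℕ) (g : Matrix (Fin (l + 1) ⊕ Fin (l + 1)) (Fin (l + 1) ⊕ Fin (l + 1)) F) (c : F)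
    (hc : c ≠ 0)
    (hg : ∀ v, Cfsg.quadFormPlus (l + 1) F (g.mulVec v) = c * Cfsg.quadFormPlus (l + 1) F v)
    (hN : pnormG σ g r = 1) :
    ∃ P : Matrix (Fin (l + 1) ⊕ Fin (l + 1)) (Fin (l + 1) ⊕ Fin (l + 1)) F,
      IsUnit P ∧ g * P.map σ = P ∧ ∃ ν : F, ν ≠ 0 ∧
      ∀ v, Cfsg.quadFormPlus (l + 1) F (P.mulVec v) = ν * Cfsg.quadFormPlus (l + 1) F v := by
  classical
  haveI : Fintype (FixedPoints.subfield (Subgroup.zpowers σ) F) := Fintype.ofFinite _
  obtain ⟨j, hj⟩ : ∃ j : FixedPoints.subfield (Subgroup.zpowers σ) F →+* F,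
      j = (FixedPoints.subfield (Subgroup.zpowers σ) F).subtype := ⟨_, rfl⟩
  have hjfix : ∀ t : FixedPoints.subfield (Subgroup.zpowers σ) F, σ (j t) = j t := by
    intro t
    rw [hj]
    exact (mem_fixed_iff σ _).1 t.2
  obtain ⟨a₀, b₀, hab₀⟩ := exists_aniso_pair (FixedPoints.subfield (Subgroup.zpowers σ) F)
  have hab : ∀ z₁ z₂ : F, z₁ ^ 2 + j a₀ * z₁ * z₂ + j b₀ * z₂ ^ 2 = 0 → z₁ = 0 ∧ z₂ = 0 := by
    apply aniso_of_odd_sigma σ r hro hσ (j a₀) (j b₀) (hjfix a₀) (hjfix b₀)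
    intro z₁ z₂ h1 h2 h
    obtain ⟨y₁, rfl⟩ : ∃ y₁, j y₁ = z₁ := ⟨⟨z₁, (mem_fixed_iff σ z₁).2 h1⟩, by rw [hj]; rfl⟩
    obtain ⟨y₂, rfl⟩ : ∃ y₂, j y₂ = z₂ := ⟨⟨z₂, (mem_fixed_iff σ z₂).2 h2⟩, by rw [hj]; rfl⟩
    have h' : j (y₁ ^ 2 + a₀ * y₁ * y₂ + b₀ * y₂ ^ 2) = 0 := by
      simp only [map_add, map_mul, map_pow]
      exact h
    have := hab₀ y₁ y₂ ((map_eq_zero j).1 h')
    rw [this.1, this.2, map_zero]
    exact ⟨rfl, rfl⟩
  have hQσ : ∀ v : Fin (l + 1) ⊕ Fin (l + 1) → F,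
      Cfsg.Agent.S0287.QP (l + 1) (fun i => σ (v i)) = σ (Cfsg.Agent.S0287.QP (l + 1) v) := by
    intro v
    rw [Cfsg.Agent.S0287.QP_apply, Cfsg.Agent.S0287.QP_apply]
    exact quadFormPlus_vpush (σ : F →+* F) (l + 1) v
  have hQ₀ : ∀ v₀, (FixedPoints.subfield (Subgroup.zpowers σ) F).subtype
      (Cfsg.Agent.S0287.QP (l + 1) v₀) = Cfsg.Agent.S0287.QP (l + 1)
        (vpush (FixedPoints.subfield (Subgroup.zpowers σ) F).subtype v₀) := by
    intro w₀
    rw [Cfsg.Agent.S0287.QP_apply, Cfsg.Agent.S0287.QP_apply, ← quadFormPlus_vpush]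
  have hR₀ : ∀ v₀, (FixedPoints.subfield (Subgroup.zpowers σ) F).subtype
      (Cfsg.Agent.S0288.QM l a₀ b₀ v₀) = Cfsg.Agent.S0288.QM l (j a₀) (j b₀)
        (vpush (FixedPoints.subfield (Subgroup.zpowers σ) F).subtype v₀) := by
    intro v₀
    rw [← hj, Cfsg.Agent.S0288.QM_apply, Cfsg.Agent.S0288.QM_apply, ← quadFormMinus_vpush]
  have hg' : ∀ v, Cfsg.Agent.S0287.QP (l + 1) (g.mulVec v) =
      c * Cfsg.Agent.S0287.QP (l + 1) v := by
    intro v
    rw [Cfsg.Agent.S0287.QP_apply, Cfsg.Agent.S0287.QP_apply]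
    exact hg v
  obtain ⟨P, hPu, hP, ν, hν0, hν⟩ := hilbert90_quad σ r hr hσ hinj l 1 1
    (Cfsg.Agent.S0287.QP (l + 1)) hQσ (hasType_QP l)
    (Cfsg.Agent.S0287.QP (l + 1)) hQ₀ (hasType_QP l)
    (Cfsg.Agent.S0288.QM l (j a₀) (j b₀)) (Cfsg.Agent.S0288.QM l a₀ b₀) hR₀
    (hasType_QM l a₀ b₀ hab₀) (hasType_QM l (j a₀) (j b₀) hab) g c hc hg' hN
  refine ⟨P, hPu, hP, ν, hν0, fun v => ?_⟩
  have := hν v
  rw [Cfsg.Agent.S0287.QP_apply, Cfsg.Agent.S0287.QP_apply] at this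
  exact this

end Cfsg.Agent.Lib.H7AutPM
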