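import Cfsg.Agent.Lib.Helper7.AutPM.InndiagP
import Cfsg.Agent.Lib.Helper7.AutPM.HilbertP
import Mathlib

/-!
# Elements of prime order in the coset of a standard field or graph-field automorphism of `PΩ⁺`
(helper7)
-/

set_option autoImplicit false
set_option linter.unusedSectionVars false
set_option linter.style.haveILetI false

namespace Cfsg.Agent.Lib.H7AutPM

open Matrix Cfsg Cfsg.Agent.Lib.H7AutPSp Cfsg.Agent.Lib.H7AutPO Cfsg.Agent.Lib.H7AutPSL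
  Cfsg.Agent.Lib.Helper5.OrthAut Cfsg.Agent.H9.Orth Cfsg.Agent.Lib.Helper5.OrthSN
  Cfsg.Agent.Lib.Helper5.OrthPar Cfsg.Agent.Lib.Helper5.OrthCls Cfsg.Agent.Lib.Helper5.OrthPM
  Cfsg.Agent.Lib.Helper8.QType

universe u

variable {F : Type u} [Field F] [Fintype F]

/-- a similarity from an invertible matrix -/
theorem exists_sim_of_matrix {ι : Type} [Fintype ι] [DecidableEq ι] {Q : (ι → F) → F}
    (P : Matrix ι ι F) (hPu : IsUnit P) (ν : F) (hν0 : ν ≠ 0)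
    (hPG : ∀ v, Q (P *ᵥ v) = ν * Q v) :
    ∃ h : ↥(Cfsg.Geo.quadSimilarityGroup (F := F) Q), h.1.val = P :=
  ⟨⟨hPu.unit, (mem_sim_iff _ _).2 ⟨Units.mk0 ν hν0, by
    intro v
    rw [IsUnit.unit_spec, Units.val_mk0]
    exact hPG v⟩⟩, IsUnit.unit_spec hPu⟩

section dich

variable {l : ℕ} (hl : 3 ≤ l) (σ : RingAut F) (r : ℕ) (hr : r.Prime) (hσ : orderOf σ = r)

include hl hr hσ in
set_option maxHeartbeats 1600000 in
/-- **the dichotomy**: two elements of order `r` of the coset of the standard field automorphism;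
one of them is conjugate to the field automorphism, or they are conjugate to each other (under
the image of the conformal group) -/
theorem coset_dichotomy_P
    (g₁ g₂ : ↥(Cfsg.Geo.quadSimilarityGroup (F := F) (Cfsg.quadFormPlus (l + 1) F)))
    (hy₁ : (DhO _ g₁ * PhiQ σ (hσP σ)) ^ r = 1) (hy₂ : (DhO _ g₂ * PhiQ σ (hσP σ)) ^ r = 1) :
    (∃ h : ↥(Cfsg.Geo.quadSimilarityGroup (F := F) (Cfsg.quadFormPlus (l + 1) F)),
        DhO _ g₁ * PhiQ σ (hσP σ) = DhO _ h * PhiQ σ (hσP σ) * (DhO _ h)⁻¹) ∨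
    (∃ h : ↥(Cfsg.Geo.quadSimilarityGroup (F := F) (Cfsg.quadFormPlus (l + 1) F)),
        DhO _ g₂ * PhiQ σ (hσP σ) = DhO _ h * PhiQ σ (hσP σ) * (DhO _ h)⁻¹) ∨
    (∃ h : ↥(Cfsg.Geo.quadSimilarityGroup (F := F) (Cfsg.quadFormPlus (l + 1) F)),
        DhO _ g₂ * PhiQ σ (hσP σ) =
          DhO _ h * (DhO _ g₁ * PhiQ σ (hσP σ)) * (DhO _ h)⁻¹) := by
  classical
  haveI : Nonempty (Fin (l + 1) ⊕ Fin (l + 1)) := ⟨Sum.inl 0⟩
  haveI : Fintype (FixedPoints.subfield (Subgroup.zpowers σ) F) := Fintype.ofFinite _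
  have hQ := hQP (F := F) (m := l + 1)
  have hn : 7 ≤ Fintype.card (Fin (l + 1) ⊕ Fin (l + 1)) := hnP (by omega)
  have hσr : σ ^ r = 1 := by rw [← hσ]; exact pow_orderOf_eq_one σ
  have hinj : ∀ i j, i < r → j < r → σ ^ i = σ ^ j → i = j := by
    intro i j hi hj hij
    rw [← hσ] at hi hj
    exact pow_injOn_Iio_orderOf (Set.mem_Iio.2 hi) (Set.mem_Iio.2 hj) hij
  have hQσ : ∀ v : Fin (l + 1) ⊕ Fin (l + 1) → F,
      Cfsg.Agent.S0287.QP (l + 1) (fun i => σ (v i)) = σ (Cfsg.Agent.S0287.QP (l + 1) v) := by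
    intro v
    rw [Cfsg.Agent.S0287.QP_apply, Cfsg.Agent.S0287.QP_apply]
    exact hσP σ v
  have hQ₀ : ∀ v₀, (FixedPoints.subfield (Subgroup.zpowers σ) F).subtype
      (Cfsg.Agent.S0287.QP (l + 1) v₀) = Cfsg.Agent.S0287.QP (l + 1)
        (vpush (FixedPoints.subfield (Subgroup.zpowers σ) F).subtype v₀) := by
    intro w₀
    rw [Cfsg.Agent.S0287.QP_apply, Cfsg.Agent.S0287.QP_apply, ← quadFormPlus_vpush]
  -- the descent data of a coset element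
  have key : ∀ g : ↥(Cfsg.Geo.quadSimilarityGroup (F := F) (Cfsg.quadFormPlus (l + 1) F)),
      (DhO _ g * PhiQ σ (hσP σ)) ^ r = 1 → ∃ μ : F, μ ≠ 0 ∧ ∃ ε : ℤ, (ε = 1 ∨ ε = -1) ∧
        DescType σ (Cfsg.Agent.S0287.QP (l + 1)) (μ⁻¹ • g.1.val) l ε := by
    intro g hy
    obtain ⟨μ, hμ0, hN⟩ := coset_normalise hQ σ (hσP σ) hn r hr hσ g hy
    obtain ⟨cg, hcg⟩ := (mem_sim_iff _ g.1).1 g.2
    have hg' : ∀ v, Cfsg.Agent.S0287.QP (l + 1) ((μ⁻¹ • g.1.val) *ᵥ v) =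
        (μ⁻¹ * μ⁻¹ * (cg : F)) * Cfsg.Agent.S0287.QP (l + 1) v := by
      intro v
      rw [Cfsg.Agent.S0287.QP_apply, Cfsg.Agent.S0287.QP_apply, Matrix.smul_mulVec, Q_smul hQ,
        hcg]
      ring
    obtain ⟨ε, hε⟩ := exists_descType σ r hr.pos hσr hinj l 1 (Cfsg.Agent.S0287.QP (l + 1)) hQσ
      (hasType_QP l) (μ⁻¹ • g.1.val) (μ⁻¹ * μ⁻¹ * (cg : F))
      (mul_ne_zero (mul_ne_zero (inv_ne_zero hμ0) (inv_ne_zero hμ0)) cg.ne_zero) hg' hN
    have hε2 : ε = 1 ∨ ε = -1 := by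
      obtain ⟨P₀, b, Q₀', -, -, -, ht, -⟩ := hε
      exact ht.2.2.1
    exact ⟨μ, hμ0, ε, hε2, hε⟩
  -- conjugacy from two descents of the same type
  have conj : ∀ (g g' : ↥(Cfsg.Geo.quadSimilarityGroup (F := F)
      (Cfsg.quadFormPlus (l + 1) F))) (μ μ' : F) (hμ0 : μ ≠ 0) (hμ'0 : μ' ≠ 0) (ε : ℤ),
      DescType σ (Cfsg.Agent.S0287.QP (l + 1)) (μ⁻¹ • g.1.val) l ε →
      DescType σ (Cfsg.Agent.S0287.QP (l + 1)) (μ'⁻¹ • g'.1.val) l ε →
      ∃ h : ↥(Cfsg.Geo.quadSimilarityGroup (F := F) (Cfsg.quadFormPlus (l + 1) F)),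
        DhO _ g' * PhiQ σ (hσP σ) =
          DhO _ h * (DhO _ g * PhiQ σ (hσP σ)) * (DhO _ h)⁻¹ := by
    intro g g' μ μ' hμ0 hμ'0 ε hd hd'
    obtain ⟨H, hHu, hH, ν, hν0, hHQ⟩ := descType_conj σ _ _ _ l ε hd' hd
    obtain ⟨h, hh⟩ := exists_sim_of_matrix (Q := Cfsg.quadFormPlus (l + 1) F) H hHu ν hν0
      (fun v => by
        have := hHQ v
        rw [Cfsg.Agent.S0287.QP_apply, Cfsg.Agent.S0287.QP_apply] at this
        exact this)
    refine ⟨h, coset_conj_of_rel hQ σ (hσP σ) g g' h (μ' * μ⁻¹)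
      (mul_ne_zero hμ'0 (inv_ne_zero hμ0)) ?_⟩
    rw [hh]
    rw [Matrix.smul_mul, Matrix.mul_smul] at hH
    have h1 : μ' • (μ'⁻¹ • (g'.1.val * H.map σ)) = μ' • (μ⁻¹ • (H * g.1.val)) := by rw [hH]
    rw [smul_smul, mul_inv_cancel₀ hμ'0, one_smul, smul_smul] at h1
    exact h1
  obtain ⟨μ₁, hμ₁0, ε₁, hε₁, hd₁⟩ := key g₁ hy₁
  obtain ⟨μ₂, hμ₂0, ε₂, hε₂, hd₂⟩ := key g₂ hy₂
  -- the trivial coset element
  have hone : DescType σ (Cfsg.Agent.S0287.QP (l + 1))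
      ((1 : F)⁻¹ • (1 : ↥(Cfsg.Geo.quadSimilarityGroup (F := F)
        (Cfsg.quadFormPlus (l + 1) F))).1.val) l 1 := by
    have e : (1 : F)⁻¹ • (1 : ↥(Cfsg.Geo.quadSimilarityGroup (F := F)
        (Cfsg.quadFormPlus (l + 1) F))).1.val = 1 := by
      rw [inv_one, one_smul]
      rfl
    rw [e]
    exact descType_one σ l 1 _ _ hQ₀ (hasType_QP l)
  rcases hε₁ with h1 | h1
  · left
    rw [h1] at hd₁
    obtain ⟨h, hh⟩ := conj 1 g₁ 1 μ₁ one_ne_zero hμ₁0 1 hone hd₁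
    rw [map_one, one_mul] at hh
    exact ⟨h, hh⟩
  · rcases hε₂ with h2 | h2
    · right; left
      rw [h2] at hd₂
      obtain ⟨h, hh⟩ := conj 1 g₂ 1 μ₂ one_ne_zero hμ₂0 1 hone hd₂
      rw [map_one, one_mul] at hh
      exact ⟨h, hh⟩
    · right; right
      rw [h1] at hd₁
      rw [h2] at hd₂
      exact conj g₁ g₂ μ₁ μ₂ hμ₁0 hμ₂0 (-1) hd₁ hd₂

end dich

section abstractGrp

variable {A : Type*} [Group A]

theorem mem_iff_of_twisted_conj (D : Subgroup A) [hN : D.Normal] (a a' h φ : A) (hh : h ∈ D)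
    (hrel : a' * φ = h * (a * φ) * h⁻¹) : a' ∈ D ↔ a ∈ D := by
  have hd' : φ * h⁻¹ * φ⁻¹ ∈ D := hN.conj_mem _ (inv_mem hh) _
  have e : a' = h * a * (φ * h⁻¹ * φ⁻¹) := by
    have : a' = h * (a * φ) * h⁻¹ * φ⁻¹ := by rw [← hrel, mul_inv_cancel_right]
    rw [this]
    group
  constructor
  · intro h1
    have e2 : a = h⁻¹ * a' * (φ * h⁻¹ * φ⁻¹)⁻¹ := by
      rw [e]
      group
    rw [e2]
    exact mul_mem (mul_mem (inv_mem hh) h1) (inv_mem hd')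
  · intro h1
    rw [e]
    exact mul_mem (mul_mem hh h1) hd'

theorem twisted_conj_mul_invol (a a' h φ γ : A) (hγ : γ * γ = 1) (hc : γ * φ = φ * γ)
    (hrel : a' * φ = h * (a * φ) * h⁻¹) :
    a' * φ = (h * γ) * ((γ * a * γ) * φ) * (h * γ)⁻¹ := by
  have hγi : γ⁻¹ = γ := inv_eq_of_mul_eq_one_right hγ
  rw [hrel, _root_.mul_inv_rev, hγi]
  have e1 : h * γ * (γ * a * γ * φ) * (γ * h⁻¹) = h * (γ * γ) * a * (γ * φ) * γ * h⁻¹ := by
    simp only [mul_assoc]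
  rw [e1, hγ, hc]
  have e2 : h * 1 * a * (φ * γ) * γ * h⁻¹ = h * a * φ * (γ * γ) * h⁻¹ := by
    simp only [mul_assoc, mul_one, one_mul]
  rw [e2, hγ]
  simp only [mul_assoc, mul_one]

theorem conj_invol_mem_iff (D : Subgroup A) [hN : D.Normal] (a γ : A) (hγ : γ * γ = 1) :
    γ * a * γ ∈ D ↔ a ∈ D := by
  have hγi : γ⁻¹ = γ := inv_eq_of_mul_eq_one_right hγ
  constructor
  · intro h1
    have := hN.conj_mem _ h1 γ
    rw [hγi] at this
    have e : γ * (γ * a * γ) * γ = a := by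
      calc γ * (γ * a * γ) * γ = (γ * γ) * a * (γ * γ) := by simp only [mul_assoc]
        _ = a := by rw [hγ, one_mul, mul_one]
    rwa [e] at this
  · intro h1
    have := hN.conj_mem _ h1 γ
    rwa [hγi] at this

end abstractGrp

section main

variable {m : ℕ} (hm : 4 ≤ m)

/-- the reflection in a vector, as a similarity -/
noncomputable def rfS (x : Fin m ⊕ Fin m → F) :
    ↥(Cfsg.Geo.quadSimilarityGroup (F := F) (Cfsg.quadFormPlus m F)) :=
  ⟨rf hQP x, iso_le_sim _ (rf_mem hQP x)⟩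

theorem rfS_mul_self (x : Fin m ⊕ Fin m → F) : rfS (F := F) x * rfS x = 1 :=
  Subtype.ext (rf_mul_self hQP x)

theorem DhO_rfS_inv (x : Fin m ⊕ Fin m → F) :
    (DhO (Cfsg.quadFormPlus m F) (rfS x))⁻¹ = DhO _ (rfS x) := by
  rw [inv_eq_iff_mul_eq_one, ← map_mul, rfS_mul_self, map_one]

/-- a reflection in a vector fixed by `σ` commutes with the standard field automorphism -/
theorem DhO_rfS_comm (σ : RingAut F) (x : Fin m ⊕ Fin m → F)
    (hx : Cfsg.quadFormPlus m F x ≠ 0) (hfix : vmap σ x = x) :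
    DhO _ (rfS x) * PhiQ σ (hσP σ) = PhiQ σ (hσP σ) * DhO (Cfsg.quadFormPlus m F) (rfS x) := by
  have e3 := PhiQ_conj_DhO σ (hσP (m := m) σ) (rfS x)
  have e4 : conjSim (stdGQ σ (hσP (m := m) σ)) (rfS x) = rfS x := by
    apply sim_ext'
    rw [conjSim_stdGQ_val]
    have := gmapI_rf hQP (fieldCompat_plus m) σ x hx hfix
    exact congrArg Units.val this
  rw [e4] at e3
  have e5 : PhiQ σ (hσP σ) * DhO (Cfsg.quadFormPlus m F) (rfS x) =
      DhO _ (rfS x) * PhiQ σ (hσP σ) := by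
    rw [← e3, inv_mul_cancel_right, e3]
  exact e5.symm

theorem PhiQ_pow (σ : RingAut F) (k : ℕ) :
    PhiQ (Q := Cfsg.quadFormPlus m F) σ (hσP σ) ^ k = PhiQ (σ ^ k) (hσP (σ ^ k)) := by
  unfold PhiQ
  rw [← map_pow]
  congr 1
  apply Subtype.ext
  rw [SubmonoidClass.coe_pow]
  show (SemidirectProduct.inr σ : GamL (Fin m ⊕ Fin m) F) ^ k = SemidirectProduct.inr (σ ^ k)
  rw [map_pow]

theorem PhiQ_one : PhiQ (Q := Cfsg.quadFormPlus m F) (1 : RingAut F) (hσP 1) = 1 := by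
  unfold PhiQ
  have : stdGQ (Q := Cfsg.quadFormPlus m F) (1 : RingAut F) (hσP 1) = 1 := by
    apply Subtype.ext
    show (SemidirectProduct.inr (1 : RingAut F) : GamL (Fin m ⊕ Fin m) F) = 1
    rw [map_one]
  rw [this, map_one]

variable (hFac : FacG (Cfsg.quadFormPlus m F))
include hm hFac

/-- membership in `Inndiag` is constant along conjugacy in the coset of a field automorphism -/
theorem inndiag_iff_of_conj (σ : RingAut F)
    (g g' h : ↥(Cfsg.Geo.quadSimilarityGroup (F := F) (Cfsg.quadFormPlus m F)))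
    (hrel : DhO _ g' * PhiQ σ (hσP σ) = DhO _ h * (DhO _ g * PhiQ σ (hσP σ)) * (DhO _ h)⁻¹) :
    DhO _ g' ∈ Cfsg.inndiagPOmegaPlus m F ↔ DhO _ g ∈ Cfsg.inndiagPOmegaPlus m F := by
  haveI hN := inndiag_normal_P hm hFac
  by_cases hh : DhO _ h ∈ Cfsg.inndiagPOmegaPlus m F
  · exact mem_iff_of_twisted_conj _ _ _ _ _ hh hrel
  · have hm0 : 0 < m := by omega
    have hv0 : Cfsg.quadFormPlus m F (vP (F := F) hm0) ≠ 0 := by
      rw [Q_vP]; exact one_ne_zero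
    have hh₁ : DhO _ (h * rfS (vP hm0)) ∈ Cfsg.inndiagPOmegaPlus m F :=
      (inndiag_iff_not_mul_rf hm h _ hv0).2 hh
    have hcomm := DhO_rfS_comm σ (vP (F := F) hm0) hv0 (vmap_vP hm0 σ)
    have hγ : DhO (Cfsg.quadFormPlus m F) (rfS (vP hm0)) * DhO _ (rfS (vP hm0)) = 1 := by
      rw [← map_mul, rfS_mul_self, map_one]
    have hrel' := twisted_conj_mul_invol _ _ _ _ _ hγ hcomm hrel
    rw [← map_mul] at hrel'
    rw [mem_iff_of_twisted_conj _ _ _ _ _ hh₁ hrel']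
    exact conj_invol_mem_iff _ _ _ hγ

omit hFac in
/-- move a conjugating similarity into `Inndiag` with a reflection centralising the element -/
theorem exists_inndiag_conj (x y : MulAut (Cfsg.POmega F (Cfsg.quadFormPlus m F)))
    (h : ↥(Cfsg.Geo.quadSimilarityGroup (F := F) (Cfsg.quadFormPlus m F)))
    (v : Fin m ⊕ Fin m → F) (hv : Cfsg.quadFormPlus m F v ≠ 0)
    (hcomm : DhO _ (rfS v) * x = x * DhO _ (rfS v))
    (hrel : y = DhO _ h * x * (DhO _ h)⁻¹) :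
    ∃ d ∈ Cfsg.inndiagPOmegaPlus m F, y = d * x * d⁻¹ := by
  by_cases hh : DhO _ h ∈ Cfsg.inndiagPOmegaPlus m F
  · exact ⟨_, hh, hrel⟩
  · refine ⟨DhO _ (h * rfS v), (inndiag_iff_not_mul_rf hm h _ hv).2 hh, ?_⟩
    rw [hrel, map_mul, _root_.mul_inv_rev]
    have e : DhO _ (rfS v) * x * (DhO (Cfsg.quadFormPlus m F) (rfS v))⁻¹ = x := by
      rw [hcomm, mul_inv_cancel_right]
    calc DhO _ h * x * (DhO _ h)⁻¹
        = DhO _ h * (DhO _ (rfS v) * x * (DhO (Cfsg.quadFormPlus m F) (rfS v))⁻¹) *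
            (DhO _ h)⁻¹ := by rw [e]
      _ = _ := by simp only [mul_assoc]

set_option maxHeartbeats 1600000 in
/-- **elements of order `r` in the coset of a standard field automorphism of prime order `r`** -/
theorem field_coset_conj_P (σ : RingAut F) (r : ℕ) (hr : r.Prime) (hσ : orderOf σ = r)
    (g : ↥(Cfsg.Geo.quadSimilarityGroup (F := F) (Cfsg.quadFormPlus m F)))
    (hgD : DhO _ g ∈ Cfsg.inndiagPOmegaPlus m F)
    (hy : (DhO _ g * PhiQ σ (hσP σ)) ^ r = 1) :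
    ∃ d ∈ Cfsg.inndiagPOmegaPlus m F,
      DhO _ g * PhiQ σ (hσP σ) = d * PhiQ σ (hσP σ) * d⁻¹ := by
  obtain ⟨l, rfl⟩ : ∃ l, m = l + 1 := ⟨m - 1, by omega⟩
  haveI : Nonempty (Fin (l + 1) ⊕ Fin (l + 1)) := ⟨Sum.inl 0⟩
  have hQ := hQP (F := F) (m := l + 1)
  have hn : 7 ≤ Fintype.card (Fin (l + 1) ⊕ Fin (l + 1)) := hnP (by omega)
  have hm0 : 0 < l + 1 := by omega
  have hv0 : Cfsg.quadFormPlus (l + 1) F (vP (F := F) hm0) ≠ 0 := by
    rw [Q_vP]; exact one_ne_zero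
  have hcomm := DhO_rfS_comm σ (vP (F := F) hm0) hv0 (vmap_vP hm0 σ)
  have hσr : σ ^ r = 1 := by rw [← hσ]; exact pow_orderOf_eq_one σ
  have hinj : ∀ i j, i < r → j < r → σ ^ i = σ ^ j → i = j := by
    intro i j hi hj hij
    rw [← hσ] at hi hj
    exact pow_injOn_Iio_orderOf (Set.mem_Iio.2 hi) (Set.mem_Iio.2 hj) hij
  -- it suffices to conjugate by a similarity
  suffices hsuff : ∃ h : ↥(Cfsg.Geo.quadSimilarityGroup (F := F)
      (Cfsg.quadFormPlus (l + 1) F)),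
      DhO _ g * PhiQ σ (hσP σ) = DhO _ h * PhiQ σ (hσP σ) * (DhO _ h)⁻¹ by
    obtain ⟨h, hh⟩ := hsuff
    exact exists_inndiag_conj hm _ _ h _ hv0 hcomm hh
  rcases hr.eq_two_or_odd' with h2 | hro
  · -- `r = 2`
    subst h2
    have hy₂ : (DhO _ (rfS (vP (F := F) hm0)) * PhiQ σ (hσP σ)) ^ 2 = 1 := by
      rw [pow_two]
      have e0 : DhO (Cfsg.quadFormPlus (l + 1) F) (rfS (vP hm0)) * DhO _ (rfS (vP hm0)) = 1 := by
        rw [← map_mul, rfS_mul_self, map_one]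
      have e1 : PhiQ (Q := Cfsg.quadFormPlus (l + 1) F) σ (hσP σ) * PhiQ σ (hσP σ) = 1 := by
        rw [← pow_two, PhiQ_pow]
        have : PhiQ (Q := Cfsg.quadFormPlus (l + 1) F) (σ ^ 2) (hσP (σ ^ 2)) =
            PhiQ (1 : RingAut F) (hσP 1) := by
          congr 1
        rw [this, PhiQ_one]
      calc DhO (Cfsg.quadFormPlus (l + 1) F) (rfS (vP hm0)) * PhiQ σ (hσP σ) *
          (DhO _ (rfS (vP hm0)) * PhiQ σ (hσP σ))
          = DhO (Cfsg.quadFormPlus (l + 1) F) (rfS (vP hm0)) *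
            (PhiQ σ (hσP σ) * DhO _ (rfS (vP hm0))) * PhiQ σ (hσP σ) := by
            simp only [mul_assoc]
        _ = (DhO (Cfsg.quadFormPlus (l + 1) F) (rfS (vP hm0)) * DhO _ (rfS (vP hm0))) *
            (PhiQ σ (hσP σ) * PhiQ σ (hσP σ)) := by
            rw [← hcomm]
            simp only [mul_assoc]
        _ = 1 := by rw [e0, e1, one_mul]
    have hρD := DhO_rf_not_mem_inndiag hm (vP (F := F) hm0) hv0
    rcases coset_dichotomy_P (by omega) σ 2 hr hσ g (rfS (vP (F := F) hm0)) hy hy₂ with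
      h1 | h1 | h1
    · exact h1
    · exfalso
      obtain ⟨h, hh⟩ := h1
      have hrel : DhO _ (rfS (vP (F := F) hm0)) * PhiQ σ (hσP σ) =
          DhO _ h * (DhO _ (1 : ↥(Cfsg.Geo.quadSimilarityGroup (F := F)
            (Cfsg.quadFormPlus (l + 1) F))) * PhiQ σ (hσP σ)) * (DhO _ h)⁻¹ := by
        rw [map_one, one_mul]
        exact hh
      have := (inndiag_iff_of_conj hm hFac σ _ _ h hrel).2 (by rw [map_one]; exact one_mem _)
      exact hρD this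
    · exfalso
      obtain ⟨h, hh⟩ := h1
      exact hρD ((inndiag_iff_of_conj hm hFac σ _ _ h hh).2 hgD)
  · -- `r` odd
    obtain ⟨μ, hμ0, hN⟩ := coset_normalise hQ σ (hσP σ) hn r hr hσ g hy
    obtain ⟨cg, hcg⟩ := (mem_sim_iff _ g.1).1 g.2
    have hg' : ∀ v, Cfsg.quadFormPlus (l + 1) F ((μ⁻¹ • g.1.val) *ᵥ v) =
        (μ⁻¹ * μ⁻¹ * (cg : F)) * Cfsg.quadFormPlus (l + 1) F v := by
      intro v
      rw [Matrix.smul_mulVec, Q_smul hQ, hcg]
      ring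
    obtain ⟨P, hPu, hP, ν, hν0, hPG⟩ := hilbert90_plus_odd σ r hro hr.pos hσr hinj l
      (μ⁻¹ • g.1.val) (μ⁻¹ * μ⁻¹ * (cg : F))
      (mul_ne_zero (mul_ne_zero (inv_ne_zero hμ0) (inv_ne_zero hμ0)) cg.ne_zero) hg' hN
    obtain ⟨h, hh⟩ := exists_sim_of_matrix (Q := Cfsg.quadFormPlus (l + 1) F) P hPu ν hν0 hPG
    refine ⟨h, ?_⟩
    have := coset_conj_of_rel hQ σ (hσP σ) 1 g h μ hμ0 (by
      rw [hh, OneMemClass.coe_one, Units.val_one, Matrix.mul_one]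
      rw [Matrix.smul_mul] at hP
      conv_rhs => rw [← hP]
      rw [smul_smul, mul_inv_cancel₀ hμ0, one_smul])
    rw [map_one, one_mul] at this
    exact this

set_option maxHeartbeats 1600000 in
/-- **involutions in the coset of a standard graph-field automorphism** -/
theorem graphfield_coset_conj_P (σ : RingAut F) (hσ : orderOf σ = 2)
    (v : Fin m ⊕ Fin m → F) (hv : Cfsg.quadFormPlus m F v ≠ 0) (hfix : vmap σ v = v)
    (g : ↥(Cfsg.Geo.quadSimilarityGroup (F := F) (Cfsg.quadFormPlus m F)))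
    (hgD : DhO _ g ∈ Cfsg.inndiagPOmegaPlus m F)
    (hy : (DhO _ g * (DhO _ (rfS v) * PhiQ σ (hσP σ))) ^ 2 = 1) :
    ∃ d ∈ Cfsg.inndiagPOmegaPlus m F,
      DhO _ g * (DhO _ (rfS v) * PhiQ σ (hσP σ)) =
        d * (DhO _ (rfS v) * PhiQ σ (hσP σ)) * d⁻¹ := by
  obtain ⟨l, rfl⟩ : ∃ l, m = l + 1 := ⟨m - 1, by omega⟩
  have hcomm := DhO_rfS_comm σ v hv hfix
  have e0 : DhO (Cfsg.quadFormPlus (l + 1) F) (rfS v) * DhO _ (rfS v) = 1 := by
    rw [← map_mul, rfS_mul_self, map_one]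
  have hcomm2 : DhO (Cfsg.quadFormPlus (l + 1) F) (rfS v) * (DhO _ (rfS v) * PhiQ σ (hσP σ)) =
      (DhO _ (rfS v) * PhiQ σ (hσP σ)) * DhO _ (rfS v) := by
    rw [mul_assoc, hcomm]
  suffices hsuff : ∃ h : ↥(Cfsg.Geo.quadSimilarityGroup (F := F)
      (Cfsg.quadFormPlus (l + 1) F)),
      DhO _ g * (DhO _ (rfS v) * PhiQ σ (hσP σ)) =
        DhO _ h * (DhO _ (rfS v) * PhiQ σ (hσP σ)) * (DhO _ h)⁻¹ by
    obtain ⟨h, hh⟩ := hsuff
    exact exists_inndiag_conj hm _ _ h v hv hcomm2 hh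
  have hy₁ : (DhO _ (rfS v) * PhiQ σ (hσP σ)) ^ 2 = 1 := by
    rw [pow_two]
    have e1 : PhiQ (Q := Cfsg.quadFormPlus (l + 1) F) σ (hσP σ) * PhiQ σ (hσP σ) = 1 := by
      rw [← pow_two, PhiQ_pow]
      have hσ2 : σ ^ 2 = 1 := by rw [← hσ]; exact pow_orderOf_eq_one σ
      have : PhiQ (Q := Cfsg.quadFormPlus (l + 1) F) (σ ^ 2) (hσP (σ ^ 2)) =
          PhiQ (1 : RingAut F) (hσP 1) := by
        congr 1
      rw [this, PhiQ_one]
    calc DhO (Cfsg.quadFormPlus (l + 1) F) (rfS v) * PhiQ σ (hσP σ) *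
        (DhO _ (rfS v) * PhiQ σ (hσP σ))
        = DhO (Cfsg.quadFormPlus (l + 1) F) (rfS v) *
          (PhiQ σ (hσP σ) * DhO _ (rfS v)) * PhiQ σ (hσP σ) := by
          simp only [mul_assoc]
      _ = (DhO (Cfsg.quadFormPlus (l + 1) F) (rfS v) * DhO _ (rfS v)) *
          (PhiQ σ (hσP σ) * PhiQ σ (hσP σ)) := by
          rw [← hcomm]
          simp only [mul_assoc]
      _ = 1 := by rw [e0, e1, one_mul]
  have hy₂ : (DhO _ (g * rfS v) * PhiQ σ (hσP σ)) ^ 2 = 1 := by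
    rw [map_mul, mul_assoc]
    exact hy
  have hρD := DhO_rf_not_mem_inndiag hm v hv
  rcases coset_dichotomy_P (by omega) σ 2 Nat.prime_two hσ (rfS v) (g * rfS v) hy₁ hy₂ with
    h1 | h1 | h1
  · exfalso
    obtain ⟨h, hh⟩ := h1
    have hrel : DhO _ (rfS v) * PhiQ σ (hσP σ) =
        DhO _ h * (DhO _ (1 : ↥(Cfsg.Geo.quadSimilarityGroup (F := F)
          (Cfsg.quadFormPlus (l + 1) F))) * PhiQ σ (hσP σ)) * (DhO _ h)⁻¹ := by
      rw [map_one, one_mul]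
      exact hh
    have := (inndiag_iff_of_conj hm hFac σ _ _ h hrel).2 (by rw [map_one]; exact one_mem _)
    exact hρD this
  · exfalso
    obtain ⟨h, hh⟩ := h1
    have hrel : DhO _ (g * rfS v) * PhiQ σ (hσP σ) =
        DhO _ h * (DhO _ (1 : ↥(Cfsg.Geo.quadSimilarityGroup (F := F)
          (Cfsg.quadFormPlus (l + 1) F))) * PhiQ σ (hσP σ)) * (DhO _ h)⁻¹ := by
      rw [map_one, one_mul]
      exact hh
    have := (inndiag_iff_of_conj hm hFac σ _ _ h hrel).2 (by rw [map_one]; exact one_mem _)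
    exact (inndiag_iff_not_mul_rf hm g v hv).1 this hgD
  · obtain ⟨h, hh⟩ := h1
    refine ⟨h, ?_⟩
    rw [map_mul, mul_assoc] at hh
    exact hh

end main

end Cfsg.Agent.Lib.H7AutPM
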