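import Cfsg.Agent.Lib.Helper7.AutPM.StructM
import Cfsg.Agent.Lib.Helper5.Orth.ParityTwoMain
import Cfsg.Agent.Lib.Helper5.Orth.OmegaOrder
import Cfsg.Agent.S2728
import Cfsg.Agent.S2690
import Mathlib

/-!
# `|PGO-image|` in terms of `|PΩ|` and `|Aut(PΩ⁻)|` (helper7)
-/

set_option autoImplicit false
set_option linter.unusedSectionVars false
set_option linter.style.haveILetI false

namespace Cfsg.Agent.Lib.H7AutPM

open Matrix Cfsg Cfsg.Agent.Lib.H7AutPSp Cfsg.Agent.Lib.H7AutPO Cfsg.Agent.Lib.Helper5.OrthAut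
  Cfsg.Agent.H9.Orth Cfsg.Agent.Lib.Helper5.OrthSN Cfsg.Agent.Lib.Helper5.OrthPar
  Cfsg.Agent.Lib.Helper5.OrthCls Cfsg.Agent.Lib.Helper5.OrthPM

universe u

section chartwo

variable {ι : Type} [Fintype ι] [DecidableEq ι] {F : Type u} [Field F] [Fintype F]
variable {Q : (ι → F) → F}

/-- `DhO` restricted to the isometry group -/
noncomputable def isoHomG (Q : (ι → F) → F) :
    ↥(Cfsg.isometryGroup F Q) →* MulAut (Cfsg.POmega F Q) :=
  (DhO Q).comp (Subgroup.inclusion (iso_le_sim Q))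

theorem isoHomG_apply (g : ↥(Cfsg.isometryGroup F Q)) :
    isoHomG Q g = DhO Q ⟨g.1, iso_le_sim _ g.2⟩ := rfl

variable (hQ : Cfsg.Geo.IsNondegenerateQuadraticForm Q)
include hQ

theorem DhO_scalarG (l : F) (hl : l ≠ 0) :
    DhO Q ⟨scalarGL l hl, scalarGL_mem_GO hQ l hl⟩ = 1 := by
  rw [DhO_eq_conjHom, conjHom_apply]
  exact conjT_eq_one_of_scalar _ _ l (fun x => act_scalarGL l hl x)

/-- in characteristic two the conformal group is scalars times isometries -/
theorem isoHomG_range_two [Nonempty ι] (h2 : (2 : F) = 0) :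
    (isoHomG Q).range = (DhO Q).range := by
  apply le_antisymm
  · rintro _ ⟨g, rfl⟩
    exact ⟨_, rfl⟩
  · rintro _ ⟨g, rfl⟩
    have hchar : ringChar F = 2 :=
      CharP.ringChar_of_prime_eq_zero Nat.prime_two (by exact_mod_cast h2)
    obtain ⟨l, hl⟩ := FiniteField.isSquare_of_char_two hchar (mu g : F)
    obtain ⟨hl0, g', hg', e⟩ := exists_scalar_mul_iso hQ g l hl
    refine ⟨⟨g', hg'⟩, ?_⟩
    have e2 : g = (⟨scalarGL l hl0, scalarGL_mem_GO hQ l hl0⟩ :
        ↥(Cfsg.Geo.quadSimilarityGroup (F := F) Q)) * ⟨g', iso_le_sim _ hg'⟩ := Subtype.ext e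
    rw [e2, map_mul, DhO_scalarG hQ, one_mul]
    rfl

theorem isoHomG_injective_two (hn : 7 ≤ Fintype.card ι) (h2 : (2 : F) = 0) :
    Function.Injective (isoHomG Q) := by
  rw [injective_iff_map_eq_one]
  intro g hg
  rw [isoHomG_apply] at hg
  obtain ⟨l, hl⟩ := scalar_of_DhO_eq_one hQ hn _ hg
  obtain ⟨e, f, -, -, hqe, hqf, hef⟩ := exists_hyperbolic_perp1 hQ (by omega) (0 : ι → F)
  have hq : Q (e + f) = 1 := by rw [Q_add Q, hqe, hqf, hef]; ring
  have h1 := Q_act g.1 g.2 (e + f)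
  rw [hl, Q_smul hQ, hq, mul_one] at h1
  have h3 : (l - 1) ^ 2 = 0 := by linear_combination h1 + (1 - l) * h2
  have h4 : l = 1 := sub_eq_zero.1 (pow_eq_zero_iff two_ne_zero |>.1 h3)
  apply Subtype.ext
  apply gl_ext
  intro x
  show act g.1 x = act 1 x
  rw [hl, h4, one_smul, act_one]

/-- **characteristic two**: `|PGO-image| = 2 |PΩ|` -/
theorem card_DhO_range_two (hn : 7 ≤ Fintype.card ι) (h2 : (2 : F) = 0) :
    Nat.card (DhO Q).range = 2 * Nat.card (Cfsg.POmega F Q) := by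
  haveI : Nonempty ι := by
    rw [← Fintype.card_pos_iff]; omega
  rw [← isoHomG_range_two hQ h2,
    ← Nat.card_congr (MonoidHom.ofInjective (isoHomG_injective_two hQ hn h2)).toEquiv,
    card_POmega_of_not hQ hn (Or.inl h2),
    ← card_omega_mul_two hQ h2 (by omega) (Or.inr (by omega)), mul_comm]

end chartwo

section minus

variable {F : Type u} [Field F] [Fintype F] {m : ℕ} {a b : F}

/-- **odd characteristic**: `|PGO⁻-image| = 8 |PΩ⁻|` or `4 |PΩ⁻|` -/
theorem card_DhO_range_minus_odd (hodd : Odd (Fintype.card F)) (hm : 3 ≤ m)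
    (hab : ∀ z₁ z₂ : F, z₁ ^ 2 + a * z₁ * z₂ + b * z₂ ^ 2 = 0 → z₁ = 0 ∧ z₂ = 0) :
    Nat.card (DhO (Cfsg.quadFormMinus m F a b)).range =
      (if Even m ∧ Fintype.card F % 4 = 3 then 8 else 4) *
        Nat.card (Cfsg.POmega F (Cfsg.quadFormMinus m F a b)) := by
  have hQ := hQM (m := m) a b hab
  have hn := hnM (m := m) hm
  have hle : Cfsg.Inn (Cfsg.POmega F (Cfsg.quadFormMinus m F a b)) ≤
      Cfsg.pgoAut F (Cfsg.quadFormMinus m F a b) := by
    rw [Cfsg.Agent.Lib.H7AutPO.pgoAut_eq]; exact inn_le_DhO_range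
  have hinn : Nat.card ((Cfsg.Inn (Cfsg.POmega F (Cfsg.quadFormMinus m F a b))).subgroupOf
      (Cfsg.pgoAut F (Cfsg.quadFormMinus m F a b))) =
      Nat.card (Cfsg.POmega F (Cfsg.quadFormMinus m F a b)) := by
    rw [Nat.card_congr (Subgroup.subgroupOfEquivOfLe hle).toEquiv, card_inn_pomega hQ hn]
  have key : ∀ {G : Type} [Group G] (φ : ↥(Cfsg.pgoAut F (Cfsg.quadFormMinus m F a b)) →* G),
      Function.Surjective φ →
      φ.ker = (Cfsg.Inn (Cfsg.POmega F (Cfsg.quadFormMinus m F a b))).subgroupOf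
        (Cfsg.pgoAut F (Cfsg.quadFormMinus m F a b)) →
      Nat.card (DhO (Cfsg.quadFormMinus m F a b)).range =
        Nat.card G * Nat.card (Cfsg.POmega F (Cfsg.quadFormMinus m F a b)) := by
    intro G _ φ hφ hker
    have h1 := Subgroup.card_eq_card_quotient_mul_card_subgroup φ.ker
    rw [Nat.card_congr (QuotientGroup.quotientKerEquivOfSurjective φ hφ).toEquiv, hker, hinn,
      Cfsg.Agent.Lib.H7AutPO.pgoAut_eq] at h1
    exact h1
  obtain ⟨h1, h2⟩ := Cfsg.Agent.S2728.result hodd hm a b hab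
  by_cases hc : Even m ∧ Fintype.card F % 4 = 3
  · rw [if_pos hc]
    obtain ⟨φ, hφ, hker⟩ := h1 hc
    rw [key φ hφ hker, DihedralGroup.nat_card]
  · rw [if_neg hc]
    obtain ⟨φ, hφ, hker⟩ := h2 hc
    rw [key φ hφ hker]
    congr 1
    rw [Nat.card_eq_fintype_card]
    rfl

theorem even_mul_half_iff (m q : ℕ) (hm : 1 ≤ m) (hq : Odd q) :
    Even (m * (q - 1) / 2) ↔ ¬ (Even (m - 1) ∧ q % 4 = 3) := by
  obtain ⟨k, rfl⟩ := hq
  have h1 : m * (2 * k + 1 - 1) / 2 = m * k := by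
    rw [Nat.add_sub_cancel, ← mul_assoc, mul_comm m 2, mul_assoc, Nat.mul_div_cancel_left _ (by norm_num)]
  rw [h1, Nat.even_mul]
  have h2 : Even (m - 1) ↔ ¬ Even m := by
    rcases Nat.even_or_odd m with h | h
    · obtain ⟨j, rfl⟩ := h
      constructor
      · intro h3
        exfalso
        rw [Nat.even_iff] at h3
        omega
      · intro h3
        exact absurd ⟨j, rfl⟩ h3
    · obtain ⟨j, rfl⟩ := h
      constructor
      · intro _ h3
        rw [Nat.even_iff] at h3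
        omega
      · intro _
        exact ⟨j, by omega⟩
  have h3 : (2 * k + 1) % 4 = 3 ↔ ¬ Even k := by
    rw [Nat.even_iff]
    omega
  rw [h2, h3]
  tauto

/-- **`|Aut(PΩ⁻_{2m}(q))|`** (the form `quadFormMinus (m - 1)`), given the factorisation -/
theorem card_aut_minus_final (p f : ℕ) [Fact p.Prime] (hF : Fintype.card F = p ^ f)
    (m : ℕ) (hm : 4 ≤ m) (a b : F)
    (hab : ∀ z₁ z₂ : F, z₁ ^ 2 + a * z₁ * z₂ + b * z₂ ^ 2 = 0 → z₁ = 0 ∧ z₂ = 0)
    (hFac : FacG (Cfsg.quadFormMinus (m - 1) F a b)) :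
    Nat.card (MulAut (Cfsg.POmega F (Cfsg.quadFormMinus (m - 1) F a b))) =
      (if p = 2 then 2 else (if Even (m * (p ^ f - 1) / 2) then 4 else 8)) * f *
        Nat.card (Cfsg.POmega F (Cfsg.quadFormMinus (m - 1) F a b)) := by
  haveI := Cfsg.Agent.S2690.charP_of_card_pow p f hF
  have hm' : 3 ≤ m - 1 := by omega
  rw [card_aut_minus hm' hab hFac p hF]
  by_cases hp : p = 2
  · subst hp
    have h2 : (2 : F) = 0 := by
      have := CharP.cast_eq_zero F 2
      exact_mod_cast this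
    rw [if_pos rfl, card_DhO_range_two (hQM a b hab) (hnM hm') h2]
    ring
  · rw [if_neg hp]
    have hpodd : Odd p := (Fact.out : p.Prime).odd_of_ne_two hp
    have hodd : Odd (Fintype.card F) := by rw [hF]; exact hpodd.pow
    rw [card_DhO_range_minus_odd hodd hm' hab, hF]
    have h3 := even_mul_half_iff m (p ^ f) (by omega) hpodd.pow
    by_cases hc : Even (m - 1) ∧ p ^ f % 4 = 3
    · rw [if_pos hc, if_neg (fun h => (h3.1 h) hc)]
      ring
    · rw [if_neg hc, if_pos (h3.2 hc)]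
      ring

end minus

end Cfsg.Agent.Lib.H7AutPM
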