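import Cfsg.Agent.Lib.Helper7.AutPM.GFSplit
import Mathlib

/-!
# The centraliser of a standard field automorphism in `Inndiag(PΩ⁺_{2m}(F))` (helper7)

`C_{Inndiag}(PhiQ σ) ≃ Inndiag(PΩ⁺_{2m}(F₀))` for `F₀` the fixed field of `σ`; all
characteristics.
-/

set_option autoImplicit false
set_option linter.unusedSectionVars false
set_option linter.style.haveILetI false

namespace Cfsg.Agent.Lib.H7AutPM

open Matrix Cfsg Cfsg.Agent.Lib.H7AutPSp Cfsg.Agent.Lib.H7AutPO Cfsg.Agent.Lib.H7AutPSL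
  Cfsg.Agent.Lib.Helper5.OrthAut Cfsg.Agent.H9.Orth Cfsg.Agent.Lib.Helper5.OrthSN
  Cfsg.Agent.Lib.Helper5.OrthPar Cfsg.Agent.Lib.Helper5.OrthCls Cfsg.Agent.Lib.Helper5.OrthPM

universe u v

section pushplus

variable {F : Type u} [Field F] {K : Type v} [Field K] (f : F →+* K) (m : ℕ)

/-- base change of a similarity of the plus-type form, all characteristics -/
theorem sim_push_plus (g : Matrix (Fin m ⊕ Fin m) (Fin m ⊕ Fin m) F) (c : F)
    (hg : ∀ v, Cfsg.quadFormPlus m F (g *ᵥ v) = c * Cfsg.quadFormPlus m F v)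
    (w : Fin m ⊕ Fin m → K) :
    Cfsg.quadFormPlus m K ((g.map f) *ᵥ w) = f c * Cfsg.quadFormPlus m K w := by
  have key : (Cfsg.Agent.S0287.QP (F := K) m).comp (Matrix.toLin' (g.map f)) =
      f c • Cfsg.Agent.S0287.QP (F := K) m := by
    apply quad_ext_of_points f
    intro v₀
    rw [QuadraticMap.comp_apply, Matrix.toLin'_apply, ← vpush_mulVec]
    show Cfsg.Agent.S0287.QP (F := K) m _ = f c * Cfsg.Agent.S0287.QP (F := K) m _
    rw [Cfsg.Agent.S0287.QP_apply, Cfsg.Agent.S0287.QP_apply, quadFormPlus_vpush,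
      quadFormPlus_vpush, hg, map_mul]
  have := congrArg (fun q : QuadraticForm K (Fin m ⊕ Fin m → K) => q w) key
  simp only [QuadraticMap.comp_apply, Matrix.toLin'_apply] at this
  rw [Cfsg.Agent.S0287.QP_apply] at this
  rw [this]
  show f c * Cfsg.Agent.S0287.QP (F := K) m w = _
  rw [Cfsg.Agent.S0287.QP_apply]

theorem conjL_refl {I : Type} [Fintype I] [DecidableEq I] (g : GL I K) :
    conjL (LinearEquiv.refl K (I → K)) g = g := by
  apply gl_ext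
  intro u
  rw [act_conjL]
  rfl

end pushplus

section fp

variable {F : Type u} [Field F] [Fintype F] {F₀ : Type v} [Field F₀] [Fintype F₀]
  (ι : F₀ →+* F) (m : ℕ)

/-- base change of similarities of the plus-type form -/
noncomputable def fpHom :
    ↥(Cfsg.Geo.quadSimilarityGroup (F := F₀) (Cfsg.quadFormPlus m F₀)) →*
      ↥(Cfsg.Geo.quadSimilarityGroup (F := F) (Cfsg.quadFormPlus m F)) :=
  twHom (Q := Cfsg.quadFormPlus m F) (Q₀ := Cfsg.quadFormPlus m F₀)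
    (Q' := Cfsg.quadFormPlus m F) ι (LinearEquiv.refl F (Fin m ⊕ Fin m → F)) (fun _ => rfl)
    (fun g c hg w => sim_push_plus ι m g c hg w)

theorem fpHom_coe
    (k₀ : ↥(Cfsg.Geo.quadSimilarityGroup (F := F₀) (Cfsg.quadFormPlus m F₀))) :
    (fpHom ι m k₀).1 = Matrix.GeneralLinearGroup.map ι k₀.1 := by
  show conjL _ _ = _
  rw [conjL_refl]
  rfl

/-- base change of an isometry is an isometry -/
theorem map_mem_iso_plus (g' : GL (Fin m ⊕ Fin m) F₀)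
    (hg' : g' ∈ Cfsg.isometryGroup F₀ (Cfsg.quadFormPlus m F₀)) :
    Matrix.GeneralLinearGroup.map ι g' ∈ Cfsg.isometryGroup F (Cfsg.quadFormPlus m F) := by
  rw [mem_iso_iff] at hg' ⊢
  intro w
  have := sim_push_plus ι m g'.val 1 (fun v => by rw [hg' v, one_mul]) w
  rw [map_one, one_mul] at this
  exact this

variable {m}

theorem mu_fpHom (k₀ : ↥(Cfsg.Geo.quadSimilarityGroup (F := F₀) (Cfsg.quadFormPlus m F₀)))
    [Nonempty (Fin m ⊕ Fin m)] :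
    (mu (fpHom ι m k₀) : F) = ι (mu k₀ : F₀) := by
  apply mu_unique hQP (fpHom ι m k₀) (ι (mu k₀ : F₀))
  intro u
  rw [fpHom_coe]
  exact sim_push_plus ι m k₀.1.val (mu k₀ : F₀) (mu_spec k₀) u

theorem det_fpHom (k₀ : ↥(Cfsg.Geo.quadSimilarityGroup (F := F₀) (Cfsg.quadFormPlus m F₀))) :
    ((fpHom ι m k₀ : GL (Fin m ⊕ Fin m) F) : Matrix (Fin m ⊕ Fin m) (Fin m ⊕ Fin m) F).det =
      ι ((k₀ : GL (Fin m ⊕ Fin m) F₀) : Matrix (Fin m ⊕ Fin m) (Fin m ⊕ Fin m) F₀).det := by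
  rw [fpHom_coe, RingHom.map_det]
  rfl

set_option maxHeartbeats 1600000 in
/-- **`Inndiag` is compatible with base change** -/
theorem fpHom_mem_inndiag_iff (hm : 4 ≤ m)
    (k₀ : ↥(Cfsg.Geo.quadSimilarityGroup (F := F₀) (Cfsg.quadFormPlus m F₀))) :
    DhO _ (fpHom ι m k₀) ∈ Cfsg.inndiagPOmegaPlus m F ↔
      DhO _ k₀ ∈ Cfsg.inndiagPOmegaPlus m F₀ := by
  haveI : Nonempty (Fin m ⊕ Fin m) := ⟨Sum.inl ⟨0, by omega⟩⟩
  by_cases h2 : (2 : F) = 0
  · have h2₀ : (2 : F₀) = 0 := (two_eq_zero_base_iff ι).2 h2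
    rw [inndiag_eq_inn_two_P hm h2, inndiag_eq_inn_two_P hm h2₀]
    obtain ⟨c, hc0, g', hg', e⟩ := exists_scalar_iso_two_P hm h2₀ k₀
    have hg'' := map_mem_iso_plus ι m g' hg'
    have e' : (fpHom ι m k₀).1 =
        scalarGL (ι c) ((map_ne_zero ι).2 hc0) * Matrix.GeneralLinearGroup.map ι g' := by
      rw [fpHom_coe, e, map_mul, map_scalarGL]
    rw [DhO_mem_inn_iff_two_P hm h2 _ (ι c) _ _ hg'' e',
      DhO_mem_inn_iff_two_P hm h2₀ k₀ c hc0 g' hg' e, par_map]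
  · have h2₀ : (2 : F₀) ≠ 0 := fun h => h2 ((two_eq_zero_base_iff ι).1 h)
    have hodd := odd_card_of_two_ne_zero_P hm h2
    have hodd₀ := odd_card_of_two_ne_zero_P hm h2₀
    have hP := mem_inndiag_iff_odd_P hm hodd (fpHom ι m k₀)
    have hM := mem_inndiag_iff_odd_P hm hodd₀ k₀
    rw [chiDet_eq_one_iff] at hP hM
    rw [hP, hM, mu_fpHom, det_fpHom, ← map_pow]
    exact ι.injective.eq_iff

/-- the similarities over `F₀` inducing inner-diagonal automorphisms -/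
noncomputable def simInndiagP (m : ℕ) (F₀ : Type v) [Field F₀] [Fintype F₀] :
    Subgroup ↥(Cfsg.Geo.quadSimilarityGroup (F := F₀) (Cfsg.quadFormPlus m F₀)) :=
  (Cfsg.inndiagPOmegaPlus m F₀).comap (DhO (Cfsg.quadFormPlus m F₀))

/-- the homomorphism onto `Inndiag(PΩ⁺(F₀))` -/
noncomputable def baseHomP (m : ℕ) (F₀ : Type v) [Field F₀] [Fintype F₀] :
    ↥(simInndiagP m F₀) →* ↥(Cfsg.inndiagPOmegaPlus m F₀) :=
  ((DhO (Cfsg.quadFormPlus m F₀)).comp (simInndiagP m F₀).subtype).codRestrict _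
    (fun g => g.2)

theorem baseHomP_val (g : ↥(simInndiagP m F₀)) :
    (baseHomP m F₀ g : MulAut (Cfsg.POmega F₀ (Cfsg.quadFormPlus m F₀))) = DhO _ g.1 := rfl

theorem baseHomP_surjective (hm : 4 ≤ m) : Function.Surjective (baseHomP m F₀) := by
  rintro ⟨δ, hδ⟩
  obtain ⟨g, rfl⟩ := inndiag_le_range_P hm hδ
  exact ⟨⟨g, hδ⟩, rfl⟩

variable (σ : RingAut F)

/-- the image of the base change centralises the field automorphism -/
theorem fpHom_comm (hm : 4 ≤ m) (hι : ∀ s, σ (ι s) = ι s)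
    (k₀ : ↥(Cfsg.Geo.quadSimilarityGroup (F := F₀) (Cfsg.quadFormPlus m F₀))) :
    DhO _ (fpHom ι m k₀) * PhiQ σ (hσP σ) = PhiQ σ (hσP σ) * DhO _ (fpHom ι m k₀) := by
  haveI : Nonempty (Fin m ⊕ Fin m) := ⟨Sum.inl ⟨0, by omega⟩⟩
  have := twHom_comm (Q := Cfsg.quadFormPlus m F) (Q₀ := Cfsg.quadFormPlus m F₀)
    (Q' := Cfsg.quadFormPlus m F) ι (LinearEquiv.refl F (Fin m ⊕ Fin m → F)) (fun _ => rfl)
    (fun g c hg w => sim_push_plus ι m g c hg w) hQP σ (hσP σ) 1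
    (fun w => by rw [Subgroup.coe_one, act_one]; rfl) hι k₀
  rw [map_one, one_mul] at this
  exact this

/-- the homomorphism onto the centraliser of the field automorphism -/
noncomputable def fpCentHom (hm : 4 ≤ m) (hι : ∀ s, σ (ι s) = ι s) :
    ↥(simInndiagP m F₀) →*
      ↥(Cfsg.inndiagPOmegaPlus m F ⊓ Subgroup.centralizer {PhiQ σ (hσP (m := m) σ)}) :=
  ((DhO (Cfsg.quadFormPlus m F)).comp
    ((fpHom ι m).comp (simInndiagP m F₀).subtype)).codRestrict _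
    (fun g => by
      refine Subgroup.mem_inf.2 ⟨(fpHom_mem_inndiag_iff ι hm g.1).2 g.2, ?_⟩
      rw [mem_centralizer_singleton]
      exact fpHom_comm ι σ hm hι g.1)

theorem fpCentHom_val (hm : 4 ≤ m) (hι : ∀ s, σ (ι s) = ι s) (g : ↥(simInndiagP m F₀)) :
    (fpCentHom ι σ hm hι g : MulAut (Cfsg.POmega F (Cfsg.quadFormPlus m F))) =
      DhO _ (fpHom ι m g.1) := rfl

theorem fpCentHom_ker (hm : 4 ≤ m) (hι : ∀ s, σ (ι s) = ι s) :
    (fpCentHom ι σ hm hι).ker = (baseHomP m F₀).ker := by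
  haveI : Nonempty (Fin m ⊕ Fin m) := ⟨Sum.inl ⟨0, by omega⟩⟩
  ext g
  have h1 : g ∈ (fpCentHom ι σ hm hι).ker ↔ DhO _ (fpHom ι m g.1) = 1 := by
    rw [MonoidHom.mem_ker, Subtype.ext_iff, fpCentHom_val]
    rfl
  have h2 : g ∈ (baseHomP m F₀).ker ↔ DhO _ g.1 = 1 := by
    rw [MonoidHom.mem_ker, Subtype.ext_iff, baseHomP_val]
    rfl
  rw [h1, h2]
  exact DhO_twHom_eq_one_iff (Q := Cfsg.quadFormPlus m F) (Q₀ := Cfsg.quadFormPlus m F₀)
    (Q' := Cfsg.quadFormPlus m F) ι (LinearEquiv.refl F (Fin m ⊕ Fin m → F)) (fun _ => rfl)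
    (fun g c hg w => sim_push_plus ι m g c hg w) hQP (hnP hm) hQP (hnP hm) g.1

set_option maxHeartbeats 1600000 in
theorem fpCentHom_surjective (hm : 4 ≤ m) (r : ℕ) (hr : 0 < r) (hσ : σ ^ r = 1)
    (hinj : ∀ i j, i < r → j < r → σ ^ i = σ ^ j → i = j)
    (hι : ∀ t : F, σ t = t ↔ ∃ s, ι s = t) :
    Function.Surjective (fpCentHom ι σ hm (fun s => (hι (ι s)).2 ⟨s, rfl⟩)) := by
  haveI : Nonempty (Fin m ⊕ Fin m) := ⟨Sum.inl ⟨0, by omega⟩⟩
  rintro ⟨c, hc⟩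
  obtain ⟨hcD, hcent⟩ := Subgroup.mem_inf.1 hc
  obtain ⟨k, rfl⟩ := inndiag_le_range_P hm hcD
  rw [mem_centralizer_singleton] at hcent
  have hcent' : DhO (Cfsg.quadFormPlus m F) k *
      (DhO _ (1 : ↥(Cfsg.Geo.quadSimilarityGroup (F := F) (Cfsg.quadFormPlus m F))) *
        PhiQ σ (hσP σ)) =
      (DhO _ (1 : ↥(Cfsg.Geo.quadSimilarityGroup (F := F) (Cfsg.quadFormPlus m F))) *
        PhiQ σ (hσP σ)) * DhO _ k := by
    rw [map_one, one_mul]
    exact hcent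
  obtain ⟨k₀, hk₀⟩ := twHom_surj_cent (Q := Cfsg.quadFormPlus m F)
    (Q₀ := Cfsg.quadFormPlus m F₀) (Q' := Cfsg.quadFormPlus m F) ι
    (LinearEquiv.refl F (Fin m ⊕ Fin m → F)) (fun _ => rfl)
    (fun g c hg w => sim_push_plus ι m g c hg w) hQP σ (hσP σ) 1
    (fun w => by rw [Subgroup.coe_one, act_one]; rfl) (hnP hm)
    (fun w₀ => quadFormPlus_vpush ι m w₀)
    ⟨vP (by omega), by rw [Q_vP]; exact one_ne_zero⟩
    r hr hσ hinj hι k hcent'
  have hmem : k₀ ∈ simInndiagP m F₀ := by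
    show DhO _ k₀ ∈ Cfsg.inndiagPOmegaPlus m F₀
    rw [← fpHom_mem_inndiag_iff ι hm]
    show DhO _ (twHom ι _ _ _ k₀) ∈ _
    rw [hk₀]
    exact hcD
  refine ⟨⟨k₀, hmem⟩, ?_⟩
  apply Subtype.ext
  rw [fpCentHom_val]
  exact hk₀

/-- **`C_{Inndiag}(φ_σ) ≅ Inndiag(PΩ⁺_{2m}(F₀))` for the standard field automorphism** -/
theorem nonempty_cent_field_equiv_P (hm : 4 ≤ m) (r : ℕ) (hr : 0 < r) (hσ : σ ^ r = 1)
    (hinj : ∀ i j, i < r → j < r → σ ^ i = σ ^ j → i = j)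
    (hι : ∀ t : F, σ t = t ↔ ∃ s, ι s = t) :
    Nonempty (↥(Cfsg.inndiagPOmegaPlus m F ⊓
      Subgroup.centralizer {PhiQ σ (hσP (m := m) σ)}) ≃* ↥(Cfsg.inndiagPOmegaPlus m F₀)) :=
  ⟨equivOfSurjKer _ _ (fpCentHom_surjective ι σ hm r hr hσ hinj hι)
    (baseHomP_surjective hm) (fpCentHom_ker ι σ hm _)⟩

end fp

end Cfsg.Agent.Lib.H7AutPM
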