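import Cfsg.Agent.Lib.Helper7.AutPM.BaseM
import Cfsg.Agent.Lib.Helper7.AutPO.SplitO
import Cfsg.Agent.S2729
import Mathlib

/-!
# The class of a standard field automorphism of `PΩ⁻` does not split (helper7)
-/

set_option autoImplicit false
set_option linter.unusedSectionVars false
set_option linter.style.haveILetI false

namespace Cfsg.Agent.Lib.H7AutPM

open Matrix Cfsg Cfsg.Agent.Lib.H7AutPSp Cfsg.Agent.Lib.H7AutPO Cfsg.Agent.Lib.H7AutPSL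
  Cfsg.Agent.Lib.Helper5.OrthAut Cfsg.Agent.H9.Orth Cfsg.Agent.Lib.Helper5.OrthSN
  Cfsg.Agent.Lib.Helper5.OrthPar Cfsg.Agent.Lib.Helper5.OrthCls Cfsg.Agent.Lib.Helper5.OrthPM

universe u v

section abstract

variable {A : Type*} [Group A]

theorem splitClassCount_eq_one_of_splitSub (D K : Subgroup A) (hKD : K ≤ D) [hK : K.Normal]
    (x : A) (h : splitSub D K x = D) : Cfsg.splitClassCount D K x = 1 := by
  rw [splitClassCount_eq D K hKD x, h, Subgroup.relIndex_self]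

/-- if `D/K` is generated by each of its non-squares and the centraliser of `x` in `D` contains
a non-square modulo `K`, then `K C_D(x) = D` -/
theorem splitSub_eq_of_gen {Z : Type*} [Group Z]
    (hgen : ∀ u : Z, (∀ w, u ≠ w * w) → ∀ y : Z, ∃ k : ℕ, y = u ^ k)
    (D K : Subgroup A) (hKD : K ≤ D) (φ : ↥D →* Z) (hφ : Function.Surjective φ)
    (hker : φ.ker = K.subgroupOf D) (x : A) (c : A) (hc : c ∈ D ⊓ Subgroup.centralizer {x})
    (hns : ∀ d ∈ D, c * (d * d)⁻¹ ∉ K) : splitSub D K x = D := by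
  apply le_antisymm (sup_le hKD inf_le_left)
  intro d hd
  have hcD : c ∈ D := (Subgroup.mem_inf.1 hc).1
  have hu : ∀ w, φ ⟨c, hcD⟩ ≠ w * w := by
    intro w h
    obtain ⟨d', rfl⟩ := hφ w
    have h1 : (⟨c, hcD⟩ : ↥D) * (d' * d')⁻¹ ∈ φ.ker := by
      rw [MonoidHom.mem_ker, map_mul, map_inv, map_mul, ← h, mul_inv_cancel]
    rw [hker, Subgroup.mem_subgroupOf] at h1
    exact hns d'.1 d'.2 h1
  obtain ⟨k, hk⟩ := hgen _ hu (φ ⟨d, hd⟩)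
  have h1 : (⟨d, hd⟩ : ↥D) * ((⟨c, hcD⟩ : ↥D) ^ k)⁻¹ ∈ φ.ker := by
    rw [MonoidHom.mem_ker, map_mul, map_inv, map_pow, ← hk, mul_inv_cancel]
  rw [hker, Subgroup.mem_subgroupOf] at h1
  have h2 : d = (d * (c ^ k)⁻¹) * c ^ k := by group
  rw [h2]
  exact mul_mem (Subgroup.mem_sup_left h1) (Subgroup.mem_sup_right (pow_mem hc k))

theorem gen_of_nonsquare_four : ∀ u : Multiplicative (ZMod 4), (∀ w, u ≠ w * w) →
    ∀ y : Multiplicative (ZMod 4), ∃ k : ℕ, y = u ^ k := by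
  have key : ∀ u : Multiplicative (ZMod 4), (∀ w, u ≠ w * w) →
      ∀ y : Multiplicative (ZMod 4), ∃ k : Fin 4, y = u ^ (k : ℕ) := by decide
  intro u hu y
  obtain ⟨k, hk⟩ := key u hu y
  exact ⟨k, hk⟩

theorem gen_of_nonsquare_two : ∀ u : Multiplicative (ZMod 2), (∀ w, u ≠ w * w) →
    ∀ y : Multiplicative (ZMod 2), ∃ k : ℕ, y = u ^ k := by
  have key : ∀ u : Multiplicative (ZMod 2), (∀ w, u ≠ w * w) →
      ∀ y : Multiplicative (ZMod 2), ∃ k : Fin 2, y = u ^ (k : ℕ) := by decide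
  intro u hu y
  obtain ⟨k, hk⟩ := key u hu y
  exact ⟨k, hk⟩

end abstract

section concrete

variable {F : Type u} [Field F] [Fintype F] {F₀ : Type v} [Field F₀] [Fintype F₀]
  (ι : F₀ →+* F) {m : ℕ} (a₀ b₀ : F₀)

/-- the multiplier is compatible with base change -/
theorem mu_mapSimM
    (hab : ∀ z₁ z₂ : F, z₁ ^ 2 + ι a₀ * z₁ * z₂ + ι b₀ * z₂ ^ 2 = 0 → z₁ = 0 ∧ z₂ = 0)
    (g₀ : ↥(Cfsg.Geo.quadSimilarityGroup (F := F₀) (Cfsg.quadFormMinus m F₀ a₀ b₀))) :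
    (mu (mapSimM ι m a₀ b₀ g₀) : F) = ι (mu g₀ : F₀) :=
  mu_unique (hQM (ι a₀) (ι b₀) hab) _ _
    (fun v => sim_push_minus ι m a₀ b₀ g₀.1.val _ (mu_spec g₀) v)

/-- odd characteristic: a similarity with nonsquare multiplier inducing an inner-diagonal
automorphism -/
theorem exists_inndiag_nonsquare (hm : 3 ≤ m)
    (hab₀ : ∀ z₁ z₂ : F₀, z₁ ^ 2 + a₀ * z₁ * z₂ + b₀ * z₂ ^ 2 = 0 → z₁ = 0 ∧ z₂ = 0)
    (h2₀ : (2 : F₀) ≠ 0) :
    ∃ g₀ : ↥(Cfsg.Geo.quadSimilarityGroup (F := F₀) (Cfsg.quadFormMinus m F₀ a₀ b₀)),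
      DhO _ g₀ ∈ Cfsg.inndiagPOmegaMinus m F₀ a₀ b₀ ∧ ¬ IsSquare (mu g₀ : F₀) := by
  have hQ₀ := hQM (m := m) a₀ b₀ hab₀
  obtain ⟨d, c, hcns, hd⟩ := exists_sim_minus_nonsquare (m := m) h2₀ a₀ b₀ hab₀
  have hc0 : c ≠ 0 := by
    rintro rfl
    exact hcns ⟨0, by ring⟩
  obtain ⟨g, hg⟩ : ∃ g : ↥(Cfsg.Geo.quadSimilarityGroup (F := F₀)
      (Cfsg.quadFormMinus m F₀ a₀ b₀)), g.1 = d := ⟨⟨d, ⟨Units.mk0 c hc0, hd⟩⟩, rfl⟩
  have hmu : (mu g : F₀) = c := mu_unique hQ₀ g c (by rw [hg]; exact hd)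
  rcases inndiag_or_refl hm hab₀ g with h | h
  · exact ⟨g, h, by rw [hmu]; exact hcns⟩
  · refine ⟨_, h, ?_⟩
    rw [mu_mul hQ₀, Units.val_mul, hmu,
      mu_of_iso hQ₀ ⟨reflM m a₀, reflM_mem_sim⟩ (reflM_mem m a₀ b₀), mul_one]
    exact hcns

/-- **the class of a standard field automorphism of odd order does not split** -/
theorem split_one_M (hm : 3 ≤ m)
    (hab : ∀ z₁ z₂ : F, z₁ ^ 2 + ι a₀ * z₁ * z₂ + ι b₀ * z₂ ^ 2 = 0 → z₁ = 0 ∧ z₂ = 0)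
    (σ : RingAut F) (r : ℕ) (hro : Odd r) (hσ : σ ^ r = 1)
    (hι : ∀ t : F, σ t = t ↔ ∃ s, ι s = t) :
    Cfsg.splitClassCount (Cfsg.inndiagPOmegaMinus m F (ι a₀) (ι b₀))
      (Cfsg.Inn (Cfsg.POmega F (Cfsg.quadFormMinus m F (ι a₀) (ι b₀))))
      (PhiM (m := m) σ ((hι (ι a₀)).2 ⟨a₀, rfl⟩) ((hι (ι b₀)).2 ⟨b₀, rfl⟩)) = 1 := by
  haveI := innNormal (Cfsg.POmega F (Cfsg.quadFormMinus m F (ι a₀) (ι b₀)))
  have hQ := hQM (m := m) (ι a₀) (ι b₀) hab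
  have hn := hnM (m := m) hm
  by_cases h2 : (2 : F) = 0
  · rw [inndiag_eq_inn_two hm hab h2]
    apply splitClassCount_eq_one_of_splitSub _ _ le_rfl
    exact sup_eq_left.2 inf_le_left
  · have hab₀ := aniso_of_push ι a₀ b₀ hab
    have h2₀ : (2 : F₀) ≠ 0 := fun h => h2 ((two_eq_zero_base_iff ι).1 h)
    have hodd := odd_card_of_two_ne_zero hm hab h2
    obtain ⟨g₀, hg₀D, hns⟩ := exists_inndiag_nonsquare a₀ b₀ hm hab₀ h2₀
    obtain ⟨c, hc⟩ : ∃ c, c = centHomM ι a₀ b₀ hm hab σ (fun s => (hι (ι s)).2 ⟨s, rfl⟩)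
      ⟨g₀, hg₀D⟩ := ⟨_, rfl⟩
    have hcv : c.1 = DhO _ (mapSimM ι m a₀ b₀ g₀) := by rw [hc]; rfl
    have hns' : ∀ d ∈ Cfsg.inndiagPOmegaMinus m F (ι a₀) (ι b₀),
        c.1 * (d * d)⁻¹ ∉ Cfsg.Inn (Cfsg.POmega F (Cfsg.quadFormMinus m F (ι a₀) (ι b₀))) := by
      intro d hd hmem
      obtain ⟨h, rfl⟩ := inndiag_le_range hm hab hd
      rw [hcv, ← map_mul, ← map_inv, ← map_mul, DhO_eq_conjHom, conjHom_mem_inn_iff] at hmem
      have h3 := isSquare_mu_of_mem hQ hn h2 _ hmem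
      have h4 : mapSimM ι m a₀ b₀ g₀ = (mapSimM ι m a₀ b₀ g₀ * (h * h)⁻¹) * (h * h) := by
        rw [inv_mul_cancel_right]
      have h5 : IsSquare (mu (mapSimM ι m a₀ b₀ g₀) : F) := by
        rw [h4, mu_mul hQ, mu_mul hQ h h, Units.val_mul, Units.val_mul]
        exact h3.mul ⟨_, rfl⟩
      rw [mu_mapSimM ι a₀ b₀ hab] at h5
      exact not_isSquare_of_odd h2 σ r hro hσ ι hι _ hns h5
    apply splitClassCount_eq_one_of_splitSub _ _ (inn_le_inndiag hm hab)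
    by_cases hcase : Even m ∧ Fintype.card F % 4 = 3
    · obtain ⟨φ, hφ, hker⟩ := (Cfsg.Agent.S2729.result hodd hm _ _ hab).1 hcase
      exact splitSub_eq_of_gen gen_of_nonsquare_four _ _ (inn_le_inndiag hm hab) φ hφ hker _ c.1
        c.2 hns'
    · obtain ⟨φ, hφ, hker⟩ := (Cfsg.Agent.S2729.result hodd hm _ _ hab).2 hcase
      exact splitSub_eq_of_gen gen_of_nonsquare_two _ _ (inn_le_inndiag hm hab) φ hφ hker _ c.1
        c.2 hns'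

end concrete

end Cfsg.Agent.Lib.H7AutPM
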