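import Cfsg.Agent.Lib.Helper7.AutPM.FPSplit
import Cfsg.Agent.Lib.Helper7.AutPM.SplitM
import Mathlib

/-!
# A field automorphism of odd prime order of `PΩ⁺_{2m}(q)`, `q` odd: the class does not split
(helper7)
-/

set_option autoImplicit false
set_option linter.unusedSectionVars false
set_option linter.style.haveILetI false

namespace Cfsg.Agent.Lib.H7AutPM

open Matrix Cfsg Cfsg.Agent.Lib.H7AutPSp Cfsg.Agent.Lib.H7AutPO Cfsg.Agent.Lib.H7AutPSL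
  Cfsg.Agent.Lib.Helper5.OrthAut Cfsg.Agent.H9.Orth Cfsg.Agent.Lib.Helper5.OrthSN
  Cfsg.Agent.Lib.Helper5.OrthPar Cfsg.Agent.Lib.Helper5.OrthCls Cfsg.Agent.Lib.Helper5.OrthPM

universe u v

section odd

variable {F : Type u} [Field F] [Fintype F] {F₀ : Type v} [Field F₀] [Fintype F₀]
  (ι : F₀ →+* F) {m : ℕ} (h2 : (2 : F) ≠ 0) (hm : 4 ≤ m)

include h2 hm in
set_option maxHeartbeats 1600000 in
/-- a rotation over `F₀` whose base change has non-trivial spinor norm -/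
theorem exists_rotation_nonspin (ν₀ : F₀) (hν : ¬ IsSquare (ι ν₀)) :
    ∃ k₀ : ↥(Cfsg.Geo.quadSimilarityGroup (F := F₀) (Cfsg.quadFormPlus m F₀)),
      DhO _ k₀ ∈ Cfsg.inndiagPOmegaPlus m F₀ ∧
      ∃ t : GL (Fin m ⊕ Fin m) F, t ∈ Cfsg.isometryGroup F (Cfsg.quadFormPlus m F) ∧
        (fpHom ι m k₀).1 = t ∧ par t ∧ ¬ spin (Cfsg.quadFormPlus m F) t := by
  haveI : Nonempty (Fin m ⊕ Fin m) := ⟨Sum.inl ⟨0, by omega⟩⟩
  have h2₀ : (2 : F₀) ≠ 0 := fun h => h2 ((two_eq_zero_base_iff ι).1 h)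
  have hoddF := odd_card_of_two_ne_zero_P hm h2
  have hgen : Cfsg.isometryGroup F (Cfsg.quadFormPlus m F) ≤ RR hQP :=
    iso_le_RR hQP (Or.inl (card_ne_two_of_odd_card hoddF))
  have hιν0 : ι ν₀ ≠ 0 := by
    intro h
    apply hν
    rw [h]
    exact ⟨0, by ring⟩
  have hν0 : ν₀ ≠ 0 := by
    rintro rfl
    exact hιν0 (map_zero ι)
  have hm0 : 0 < m := by omega
  obtain ⟨u₀, hu₀⟩ : ∃ u₀ : Fin m ⊕ Fin m → F₀, Cfsg.quadFormPlus m F₀ u₀ = 1 :=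
    ⟨vP hm0, Q_vP hm0⟩
  obtain ⟨v₀, hv₀⟩ := Cfsg.Agent.Lib.Helper5.OrthUniv.exists_norm_eq
    (hQP (F := F₀) (m := m)) h2₀ (by rw [card_IP]; omega) ν₀
  have hu₀' : Cfsg.quadFormPlus m F₀ u₀ ≠ 0 := by rw [hu₀]; exact one_ne_zero
  have hv₀' : Cfsg.quadFormPlus m F₀ v₀ ≠ 0 := by rw [hv₀]; exact hν0
  have hu : Cfsg.quadFormPlus m F (ι ∘ u₀) = 1 := by rw [quadFormPlus_comp, hu₀, map_one]
  have hv : Cfsg.quadFormPlus m F (ι ∘ v₀) = ι ν₀ := by rw [quadFormPlus_comp, hv₀]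
  have hu' : Cfsg.quadFormPlus m F (ι ∘ u₀) ≠ 0 := by rw [hu]; exact one_ne_zero
  have hv' : Cfsg.quadFormPlus m F (ι ∘ v₀) ≠ 0 := by rw [hv]; exact hιν0
  refine ⟨rfS u₀ * rfS v₀, ?_, rf hQP (ι ∘ u₀) * rf hQP (ι ∘ v₀),
    mul_mem (rf_mem hQP _) (rf_mem hQP _), ?_, ?_, ?_⟩
  · exact (inndiag_iff_not_mul_rf hm (rfS u₀) v₀ hv₀').2 (DhO_rf_not_mem_inndiag hm u₀ hu₀')
  · rw [fpHom_coe]
    show Matrix.GeneralLinearGroup.map ι (rf hQP u₀ * rf hQP v₀) = _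
    rw [map_mul, map_rf_plus ι u₀ hu₀', map_rf_plus ι v₀ hv₀']
  · rw [par_mul_gen hQP hgen _ _ (rf_mem hQP _) (rf_mem hQP _)]
    exact iff_of_false (not_par_rf hQP _ hu') (not_par_rf hQP _ hv')
  · rw [spin_mul_iff hQP hgen _ _ (rf_mem hQP _) (rf_mem hQP _), spin_rf hQP _ hu',
      spin_rf hQP _ hv', hu, hv]
    have e : -(ι ν₀) = (-1) * ι ν₀ := by ring
    rw [e, isSquare_mul_iff (neg_ne_zero.2 one_ne_zero) hιν0]
    intro h
    by_cases h1 : IsSquare (-1 : F)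
    · exact hν ((h.1 h1).1 h1)
    · exact h1 (h.2 ⟨fun h3 => absurd h3 h1, fun h3 => absurd h3 hν⟩)

variable (σ : RingAut F) (r : ℕ) (hro : Odd r) (hσ : σ ^ r = 1)
  (hι : ∀ t : F, σ t = t ↔ ∃ s, ι s = t)

include h2 hm hro hσ hι in
set_option maxHeartbeats 1600000 in
/-- every inner-diagonal automorphism is inner modulo the base change from `F₀` -/
theorem exists_base_mul_mem_inn
    (g : ↥(Cfsg.Geo.quadSimilarityGroup (F := F) (Cfsg.quadFormPlus m F)))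
    (hg : DhO _ g ∈ Cfsg.inndiagPOmegaPlus m F) :
    ∃ k₀ : ↥(Cfsg.Geo.quadSimilarityGroup (F := F₀) (Cfsg.quadFormPlus m F₀)),
      DhO _ k₀ ∈ Cfsg.inndiagPOmegaPlus m F₀ ∧
      DhO _ (g * fpHom ι m k₀) ∈ Cfsg.Inn (Cfsg.POmega F (Cfsg.quadFormPlus m F)) := by
  haveI : Nonempty (Fin m ⊕ Fin m) := ⟨Sum.inl ⟨0, by omega⟩⟩
  have hQ := hQP (F := F) (m := m)
  have h2₀ : (2 : F₀) ≠ 0 := fun h => h2 ((two_eq_zero_base_iff ι).1 h)
  have hoddF := odd_card_of_two_ne_zero_P hm h2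
  have hgen : Cfsg.isometryGroup F (Cfsg.quadFormPlus m F) ≤ RR hQP :=
    iso_le_RR hQP (Or.inl (card_ne_two_of_odd_card hoddF))
  have hchar₀ : ringChar F₀ ≠ 2 := ringChar_ne_two_of_two_ne_zero h2₀
  obtain ⟨ν₀, hν₀⟩ := FiniteField.exists_nonsquare hchar₀
  have hν0 : ν₀ ≠ 0 := by
    rintro rfl
    exact hν₀ ⟨0, by ring⟩
  have hν : ¬ IsSquare (ι ν₀) := not_isSquare_of_odd h2 σ r hro hσ ι hι ν₀ hν₀
  have hιν0 : ι ν₀ ≠ 0 := (map_ne_zero ι).2 hν0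
  -- step A: make the multiplier a square
  obtain ⟨k₁, hk₁, hsq⟩ : ∃ k₁ : ↥(Cfsg.Geo.quadSimilarityGroup (F := F₀)
      (Cfsg.quadFormPlus m F₀)), DhO _ k₁ ∈ Cfsg.inndiagPOmegaPlus m F₀ ∧
      IsSquare (mu (g * fpHom ι m k₁) : F) := by
    by_cases hsq : IsSquare (mu g : F)
    · refine ⟨1, ?_, ?_⟩
      · rw [map_one]
        exact one_mem _
      · rw [map_one, mul_one]
        exact hsq
    · refine ⟨dSim m ν₀ hν0, dSim_mem_inndiag hm h2₀ ν₀ hν0, ?_⟩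
      rw [mu_mul hQ, Units.val_mul, mu_fpHom, mu_dSim,
        isSquare_mul_iff (mu g).ne_zero hιν0]
      exact ⟨fun h3 => absurd h3 hsq, fun h3 => absurd h3 hν⟩
  have hg₁ : DhO _ (g * fpHom ι m k₁) ∈ Cfsg.inndiagPOmegaPlus m F := by
    rw [map_mul]
    exact mul_mem hg ((fpHom_mem_inndiag_iff ι hm k₁).2 hk₁)
  -- step B: correct the spinor norm
  obtain ⟨c, hc0, s, hs, e, hpar⟩ := exists_scalar_rotation hm h2 _ hg₁ hsq
  by_cases hsp : spin (Cfsg.quadFormPlus m F) s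
  · exact ⟨k₁, hk₁, DhO_mem_inn_of_par_spin hm h2 _ c hc0 s hs e hpar hsp⟩
  · obtain ⟨k₂, hk₂, t, ht, het, hpt, hnt⟩ := exists_rotation_nonspin ι h2 hm ν₀ hν
    refine ⟨k₁ * k₂, ?_, ?_⟩
    · rw [map_mul]
      exact mul_mem hk₁ hk₂
    · have e' : (g * fpHom ι m (k₁ * k₂)).1 = scalarGL c hc0 * (s * t) := by
        rw [map_mul, ← mul_assoc, Subgroup.coe_mul, e, het, mul_assoc]
      apply DhO_mem_inn_of_par_spin hm h2 _ c hc0 (s * t) (mul_mem hs ht) e'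
      · rw [par_mul_gen hQP hgen _ _ hs ht]
        exact iff_of_true hpar hpt
      · rw [spin_mul_iff hQP hgen _ _ hs ht]
        exact iff_of_false hsp hnt

include h2 hm hro hσ hι in
/-- **the class of a standard field automorphism of odd order does not split** -/
theorem split_fp_odd :
    Cfsg.splitClassCount (Cfsg.inndiagPOmegaPlus m F)
      (Cfsg.Inn (Cfsg.POmega F (Cfsg.quadFormPlus m F))) (PhiQ σ (hσP (m := m) σ)) = 1 := by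
  haveI := innNormal (Cfsg.POmega F (Cfsg.quadFormPlus m F))
  have hιfix : ∀ s, σ (ι s) = ι s := fun s => (hι (ι s)).2 ⟨s, rfl⟩
  apply splitClassCount_eq_one_of_splitSub _ _ (inn_le_inndiag_P hm)
  apply le_antisymm (sup_le (inn_le_inndiag_P hm) inf_le_left)
  intro d hd
  obtain ⟨g, rfl⟩ := inndiag_le_range_P hm hd
  obtain ⟨k₀, hk₀, hmem⟩ := exists_base_mul_mem_inn ι h2 hm σ r hro hσ hι g hd
  refine (mem_splitSub_iff (Cfsg.inndiagPOmegaPlus m F)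
    (Cfsg.Inn (Cfsg.POmega F (Cfsg.quadFormPlus m F))) (PhiQ σ (hσP (m := m) σ)) _).2 ?_
  refine ⟨_, hmem, (DhO _ (fpHom ι m k₀))⁻¹, ?_, ?_⟩
  · exact inv_mem (fpCentHom ι σ hm hιfix ⟨k₀, hk₀⟩).2
  · rw [map_mul, mul_inv_cancel_right]

end odd

end Cfsg.Agent.Lib.H7AutPM
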