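import Cfsg.Agent.Lib.Helper7.AutPM.FPBase
import Mathlib

/-!
# Class splitting of a field automorphism of prime order of `PΩ⁺_{2m}(q)`, `q` odd (helper7)
-/

set_option autoImplicit false
set_option linter.unusedSectionVars false
set_option linter.style.haveILetI false

namespace Cfsg.Agent.Lib.H7AutPM

open Matrix Cfsg Cfsg.Agent.Lib.H7AutPSp Cfsg.Agent.Lib.H7AutPO Cfsg.Agent.Lib.H7AutPSL
  Cfsg.Agent.Lib.Helper5.OrthAut Cfsg.Agent.H9.Orth Cfsg.Agent.Lib.Helper5.OrthSN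
  Cfsg.Agent.Lib.Helper5.OrthPar Cfsg.Agent.Lib.Helper5.OrthCls Cfsg.Agent.Lib.Helper5.OrthPM

universe u v

section generic

variable {F : Type u} [Field F] [Fintype F] {m : ℕ}

/-- a scalar multiple of an element of `Ω` induces an inner automorphism -/
theorem DhO_mem_inn_of_par_spin (hm : 4 ≤ m) (h2 : (2 : F) ≠ 0)
    (g : ↥(Cfsg.Geo.quadSimilarityGroup (F := F) (Cfsg.quadFormPlus m F)))
    (c : F) (hc0 : c ≠ 0) (s : GL (Fin m ⊕ Fin m) F)
    (hs : s ∈ Cfsg.isometryGroup F (Cfsg.quadFormPlus m F)) (e : g.1 = scalarGL c hc0 * s)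
    (hpar : par s) (hspin : spin (Cfsg.quadFormPlus m F) s) :
    DhO _ g ∈ Cfsg.Inn (Cfsg.POmega F (Cfsg.quadFormPlus m F)) := by
  haveI : Nonempty (Fin m ⊕ Fin m) := ⟨Sum.inl ⟨0, by omega⟩⟩
  have hoddF := odd_card_of_two_ne_zero_P hm h2
  have hgen : Cfsg.isometryGroup F (Cfsg.quadFormPlus m F) ≤ RR hQP :=
    iso_le_RR hQP (Or.inl (card_ne_two_of_odd_card hoddF))
  have hω : (⟨s, hs⟩ : ↥(Cfsg.isometryGroup F (Cfsg.quadFormPlus m F))) ∈
      Cfsg.Omega F (Cfsg.quadFormPlus m F) :=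
    (mem_omega_iff hQP h2 hgen _).2 ⟨hpar, hspin⟩
  have e' : g = (⟨scalarGL c hc0, scalarGL_mem_GO hQP c hc0⟩ :
        ↥(Cfsg.Geo.quadSimilarityGroup (F := F) (Cfsg.quadFormPlus m F))) *
      ⟨s, iso_le_sim _ hs⟩ := Subtype.ext e
  rw [e', map_mul, DhO_scalarG hQP, one_mul]
  exact DhO_mem_inn_of_omega _ hs hω

/-- an inner-diagonal similarity with square multiplier is a scalar times a rotation -/
theorem exists_scalar_rotation (hm : 4 ≤ m) (h2 : (2 : F) ≠ 0)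
    (g : ↥(Cfsg.Geo.quadSimilarityGroup (F := F) (Cfsg.quadFormPlus m F)))
    (hg : DhO _ g ∈ Cfsg.inndiagPOmegaPlus m F) (hsq : IsSquare (mu g : F)) :
    ∃ (c : F) (hc0 : c ≠ 0) (s : GL (Fin m ⊕ Fin m) F),
      s ∈ Cfsg.isometryGroup F (Cfsg.quadFormPlus m F) ∧ g.1 = scalarGL c hc0 * s ∧ par s := by
  haveI : Nonempty (Fin m ⊕ Fin m) := ⟨Sum.inl ⟨0, by omega⟩⟩
  have hoddF := odd_card_of_two_ne_zero_P hm h2
  have hgen : Cfsg.isometryGroup F (Cfsg.quadFormPlus m F) ≤ RR hQP :=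
    iso_le_RR hQP (Or.inl (card_ne_two_of_odd_card hoddF))
  obtain ⟨c, hc⟩ := hsq
  obtain ⟨hc0, s, hs, e⟩ := exists_scalar_mul_iso hQP g c hc
  have hchi := (mem_inndiag_iff_odd_P hm hoddF g).1 hg
  rw [chiDet_eq_one_iff] at hchi
  have hdet : (s : Matrix (Fin m ⊕ Fin m) (Fin m ⊕ Fin m) F).det = 1 := by
    have h3 : ((g : GL (Fin m ⊕ Fin m) F) : Matrix (Fin m ⊕ Fin m) (Fin m ⊕ Fin m) F).det =
        c ^ Fintype.card (Fin m ⊕ Fin m) *
          (s : Matrix (Fin m ⊕ Fin m) (Fin m ⊕ Fin m) F).det := by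
      rw [e, Units.val_mul, Matrix.det_mul, det_scalarGL]
    rw [h3, hc, card_IP] at hchi
    have h4 : c ^ (2 * m) ≠ 0 := pow_ne_zero _ hc0
    have h5 : c ^ (2 * m) * (s : Matrix (Fin m ⊕ Fin m) (Fin m ⊕ Fin m) F).det =
        c ^ (2 * m) * 1 := by
      rw [hchi, mul_one, ← pow_two, ← pow_mul]
    exact mul_left_cancel₀ h4 h5
  exact ⟨c, hc0, s, hs, e, (par_iff_det hQP h2 hgen s hs).2 hdet⟩

end generic

section two

variable {F : Type u} [Field F] [Fintype F] {F₀ : Type v} [Field F₀] [Fintype F₀]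
  (ι : F₀ →+* F) {m : ℕ}

/-- base change of a reflection of the plus-type form -/
theorem map_rf_plus (x : Fin m ⊕ Fin m → F₀) (hx : Cfsg.quadFormPlus m F₀ x ≠ 0) :
    Matrix.GeneralLinearGroup.map ι (rf hQP x) = rf (hQP (F := F) (m := m)) (ι ∘ x) :=
  map_rf_gen ι hQP hQP (fun v => quadFormPlus_vpush ι m v) x hx

theorem quadFormPlus_comp (x : Fin m ⊕ Fin m → F₀) :
    Cfsg.quadFormPlus m F (ι ∘ x) = ι (Cfsg.quadFormPlus m F₀ x) :=
  quadFormPlus_vpush ι m x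

theorem map_dPlus (c : F₀) (hc : c ≠ 0) :
    Matrix.GeneralLinearGroup.map ι (dPlus m c hc) = dPlus m (ι c) ((map_ne_zero ι).2 hc) := by
  unfold dPlus
  rw [map_blockGL, map_scalarGL, map_one]

/-- the similarity `diag(ν, 1)` over `F₀` -/
noncomputable def dSim (m : ℕ) (ν : F₀) (hν0 : ν ≠ 0) :
    ↥(Cfsg.Geo.quadSimilarityGroup (F := F₀) (Cfsg.quadFormPlus m F₀)) :=
  ⟨dPlus m ν hν0, (mem_sim_iff _ _).2 ⟨Units.mk0 ν hν0, dPlus_sim m ν hν0⟩⟩

theorem mu_dSim [Nonempty (Fin m ⊕ Fin m)] (ν : F₀) (hν0 : ν ≠ 0) :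
    (mu (dSim m ν hν0) : F₀) = ν :=
  mu_unique hQP (dSim m ν hν0) ν (dPlus_sim m ν hν0)

theorem dSim_mem_inndiag (hm : 4 ≤ m) (h2₀ : (2 : F₀) ≠ 0) (ν : F₀) (hν0 : ν ≠ 0) :
    DhO _ (dSim m ν hν0) ∈ Cfsg.inndiagPOmegaPlus m F₀ := by
  haveI : Nonempty (Fin m ⊕ Fin m) := ⟨Sum.inl ⟨0, by omega⟩⟩
  have hodd₀ := odd_card_of_two_ne_zero_P hm h2₀
  rw [mem_inndiag_iff_odd_P hm hodd₀, chiDet_eq_one_iff, mu_dSim]
  exact det_dPlus m ν hν0

variable (h2 : (2 : F) ≠ 0) (hcard : Fintype.card F = Fintype.card F₀ ^ 2)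

include h2 hcard in
/-- the image of a product of `F₀`-reflections has trivial spinor norm -/
theorem spin_fp_list (xs : List (Fin m ⊕ Fin m → F₀))
    (hxs : ∀ x ∈ xs, Cfsg.quadFormPlus m F₀ x ≠ 0) :
    spin (Cfsg.quadFormPlus m F)
      (Matrix.GeneralLinearGroup.map ι (xs.map (rf hQP)).prod) := by
  have hoddF : Odd (Fintype.card F) := by
    by_contra hev
    rw [Nat.not_odd_iff_even] at hev
    exact h2 (two_eq_zero_of_even_card hev)
  have hgen : Cfsg.isometryGroup F (Cfsg.quadFormPlus m F) ≤ RR hQP :=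
    iso_le_RR hQP (Or.inl (card_ne_two_of_odd_card hoddF))
  induction xs with
  | nil =>
    rw [List.map_nil, List.prod_nil, map_one]
    exact spin_one
  | cons x xs ih =>
    have hx : Cfsg.quadFormPlus m F₀ x ≠ 0 := hxs x List.mem_cons_self
    have hxs' : ∀ y ∈ xs, Cfsg.quadFormPlus m F₀ y ≠ 0 :=
      fun y hy => hxs y (List.mem_cons_of_mem x hy)
    have hmem1 : Matrix.GeneralLinearGroup.map ι (rf hQP x) ∈
        Cfsg.isometryGroup F (Cfsg.quadFormPlus m F) :=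
      map_mem_iso_plus ι m _ (rf_mem hQP x)
    have hmem2 : Matrix.GeneralLinearGroup.map ι (xs.map (rf hQP)).prod ∈
        Cfsg.isometryGroup F (Cfsg.quadFormPlus m F) :=
      map_mem_iso_plus ι m _ (prod_rf_mem hQP xs)
    rw [List.map_cons, List.prod_cons, map_mul, spin_mul_iff hQP hgen _ _ hmem1 hmem2]
    have h1 : spin (Cfsg.quadFormPlus m F) (Matrix.GeneralLinearGroup.map ι (rf hQP x)) := by
      have hx' : Cfsg.quadFormPlus m F (ι ∘ x) ≠ 0 := by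
        rw [quadFormPlus_comp]
        exact (map_ne_zero ι).2 hx
      rw [map_rf_plus ι x hx, spin_rf hQP _ hx', quadFormPlus_comp, ← map_neg]
      exact isSquare_of_card_sq h2 ι hcard _
    exact iff_of_true h1 (ih hxs')

include h2 hcard in
/-- **Claim A**: similarities over `F₀` with square multiplier inducing inner-diagonal
automorphisms go to inner automorphisms -/
theorem fpHom_mem_inn_of_sq (hm : 4 ≤ m)
    (k₀ : ↥(Cfsg.Geo.quadSimilarityGroup (F := F₀) (Cfsg.quadFormPlus m F₀)))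
    (hk₀ : DhO _ k₀ ∈ Cfsg.inndiagPOmegaPlus m F₀) (hsq : IsSquare (mu k₀ : F₀)) :
    DhO _ (fpHom ι m k₀) ∈ Cfsg.Inn (Cfsg.POmega F (Cfsg.quadFormPlus m F)) := by
  haveI : Nonempty (Fin m ⊕ Fin m) := ⟨Sum.inl ⟨0, by omega⟩⟩
  have h2₀ : (2 : F₀) ≠ 0 := fun h => h2 ((two_eq_zero_base_iff ι).1 h)
  have hodd₀ := odd_card_of_two_ne_zero_P hm h2₀
  have hgen₀ : Cfsg.isometryGroup F₀ (Cfsg.quadFormPlus m F₀) ≤ RR hQP :=
    iso_le_RR hQP (Or.inl (card_ne_two_of_odd_card hodd₀))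
  obtain ⟨c₀, hc0, g', hg', e, hpar⟩ := exists_scalar_rotation hm h2₀ k₀ hk₀ hsq
  obtain ⟨xs, hxs, hxsg⟩ := exists_list hQP hgen₀ g' hg'
  have hs_iso : Matrix.GeneralLinearGroup.map ι g' ∈
      Cfsg.isometryGroup F (Cfsg.quadFormPlus m F) := map_mem_iso_plus ι m g' hg'
  have hs_par : par (Matrix.GeneralLinearGroup.map ι g') := by
    rw [par_map]
    exact hpar
  have hs_spin : spin (Cfsg.quadFormPlus m F) (Matrix.GeneralLinearGroup.map ι g') := by
    rw [hxsg]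
    exact spin_fp_list ι h2 hcard xs hxs
  have e' : (fpHom ι m k₀).1 = scalarGL (ι c₀) ((map_ne_zero ι).2 hc0) *
      Matrix.GeneralLinearGroup.map ι g' := by
    rw [fpHom_coe, e, map_mul, map_scalarGL]
  exact DhO_mem_inn_of_par_spin hm h2 _ (ι c₀) _ _ hs_iso e' hs_par hs_spin

include h2 hcard in
set_option maxHeartbeats 1600000 in
/-- **Claim B**: the image of `diag(ν, 1)`, `ν` a non-square of `F₀`, is inner iff `m` is even
or `|F₀| ≡ 3 (mod 4)` -/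
theorem fpHom_dSim_mem_inn_iff (hm : 4 ≤ m) (ν : F₀) (hν0 : ν ≠ 0) (hν : ¬ IsSquare ν) :
    DhO _ (fpHom ι m (dSim m ν hν0)) ∈
      Cfsg.Inn (Cfsg.POmega F (Cfsg.quadFormPlus m F)) ↔
      (Even m ∨ Fintype.card F₀ % 4 = 3) := by
  haveI : Nonempty (Fin m ⊕ Fin m) := ⟨Sum.inl ⟨0, by omega⟩⟩
  have hoddF : Odd (Fintype.card F) := by
    by_contra hev
    rw [Nat.not_odd_iff_even] at hev
    exact h2 (two_eq_zero_of_even_card hev)
  have hodd₀ : Odd (Fintype.card F₀) := by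
    rw [hcard] at hoddF
    exact Nat.Odd.of_mul_right (by rw [← pow_two]; exact hoddF)
  have hF4 : Fintype.card F % 4 = 1 := by
    rw [hcard]
    exact card_sq_mod_four _ hodd₀
  have hneg := neg_one_mem_omega_plus (F := F) (m := m) hoddF hF4
  have hιν0 : ι ν ≠ 0 := (map_ne_zero ι).2 hν0
  obtain ⟨κ, hκ⟩ := isSquare_of_card_sq h2 ι hcard ν
  have hκ0 : κ ≠ 0 := by
    rintro rfl
    rw [mul_zero] at hκ
    exact hιν0 hκ
  have hκsq := isSquare_sqrt_iff h2 ι hcard ν hν κ hκ.symm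
  obtain ⟨E, hE⟩ : ∃ E, E = fpHom ι m (dSim m ν hν0) := ⟨_, rfl⟩
  have hE1 : E.1 = dPlus m (ι ν) hιν0 := by
    rw [hE, fpHom_coe]
    exact map_dPlus ι ν hν0
  have hs : scalarGL κ⁻¹ (inv_ne_zero hκ0) * E.1 =
      ((plusHom F m (diagGLn (fun _ => κ) (fun _ => hκ0)) :
        ↥(Cfsg.isometryGroup F (Cfsg.quadFormPlus m F))) : GL (Fin m ⊕ Fin m) F) := by
    apply gl_ext
    intro u
    rw [act_mul, act_scalarGL, hE1, act_dPlus, act_plusHom_diag]
    funext j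
    rcases j with j | j
    · simp only [Pi.smul_apply, Sum.elim_inl, smul_eq_mul, Function.comp_apply]
      rw [hκ]
      field_simp
    · simp only [Pi.smul_apply, Sum.elim_inr, smul_eq_mul, Function.comp_apply]
  have hs_iso : scalarGL κ⁻¹ (inv_ne_zero hκ0) * E.1 ∈
      Cfsg.isometryGroup F (Cfsg.quadFormPlus m F) := by
    rw [hs]
    exact (plusHom F m (diagGLn (fun _ => κ) (fun _ => hκ0))).2
  have hEe : E = (⟨scalarGL κ hκ0, scalarGL_mem_GO hQP κ hκ0⟩ :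
        ↥(Cfsg.Geo.quadSimilarityGroup (F := F) (Cfsg.quadFormPlus m F))) *
      ⟨scalarGL κ⁻¹ (inv_ne_zero hκ0) * E.1, iso_le_sim _ hs_iso⟩ := by
    apply Subtype.ext
    rw [Subgroup.coe_mul]
    show E.1 = scalarGL κ hκ0 * (scalarGL κ⁻¹ (inv_ne_zero hκ0) * E.1)
    apply gl_ext
    intro u
    rw [act_mul, act_mul, act_scalarGL, act_scalarGL, smul_smul, mul_inv_cancel₀ hκ0, one_smul]
  rw [← hE, hEe, map_mul, DhO_scalarG hQP, one_mul,
    DhO_iso_mem_inn_iff hQP (hnP hm) h2 hneg _ hs_iso, hs,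
    plusHom_diag_mem_omega_iff (by omega) _ _]
  have hprod : ∏ _k : Fin m, κ = κ ^ m := by
    rw [Finset.prod_const, Finset.card_univ, Fintype.card_fin]
  rw [hprod, isSquare_pow_iff κ hκ0, hκsq]

include h2 hcard in
set_option maxHeartbeats 1600000 in
/-- **the class of the standard involutory field automorphism splits into `4` or `2`** -/
theorem split_fp_two (hm : 4 ≤ m) (σ : RingAut F) (hσ2 : σ * σ = 1) (hσ1 : σ ≠ 1)
    (hι : ∀ t : F, σ t = t ↔ ∃ s, ι s = t) :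
    ((Even m ∨ Fintype.card F₀ % 4 = 3) →
      Cfsg.splitClassCount (Cfsg.inndiagPOmegaPlus m F)
        (Cfsg.Inn (Cfsg.POmega F (Cfsg.quadFormPlus m F))) (PhiQ σ (hσP (m := m) σ)) = 4) ∧
    (¬ (Even m ∨ Fintype.card F₀ % 4 = 3) →
      Cfsg.splitClassCount (Cfsg.inndiagPOmegaPlus m F)
        (Cfsg.Inn (Cfsg.POmega F (Cfsg.quadFormPlus m F))) (PhiQ σ (hσP (m := m) σ)) = 2) := by
  haveI : Nonempty (Fin m ⊕ Fin m) := ⟨Sum.inl ⟨0, by omega⟩⟩
  haveI := innNormal (Cfsg.POmega F (Cfsg.quadFormPlus m F))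
  have hQ₀ := hQP (F := F₀) (m := m)
  have h2₀ : (2 : F₀) ≠ 0 := fun h => h2 ((two_eq_zero_base_iff ι).1 h)
  have hoddF : Odd (Fintype.card F) := by
    by_contra hev
    rw [Nat.not_odd_iff_even] at hev
    exact h2 (two_eq_zero_of_even_card hev)
  have hodd₀ : Odd (Fintype.card F₀) := by
    rw [hcard] at hoddF
    exact Nat.Odd.of_mul_right (by rw [← pow_two]; exact hoddF)
  have hF4 : Fintype.card F % 4 = 1 := by
    rw [hcard]
    exact card_sq_mod_four _ hodd₀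
  have hidx := relIndex_inn_inndiag_plus (F := F) hm hoddF hF4
  have hchar₀ : ringChar F₀ ≠ 2 := ringChar_ne_two_of_two_ne_zero h2₀
  obtain ⟨ν, hν⟩ := FiniteField.exists_nonsquare hchar₀
  have hν0 : ν ≠ 0 := by
    rintro rfl
    exact hν ⟨0, by ring⟩
  have he₀ := dSim_mem_inndiag (m := m) hm h2₀ ν hν0
  have hσsq : σ ^ 2 = 1 := by rw [pow_two]; exact hσ2
  have hinj : ∀ i j, i < 2 → j < 2 → σ ^ i = σ ^ j → i = j := by
    intro i j hi hj hij
    interval_cases i <;> interval_cases j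
    · rfl
    · rw [pow_zero, pow_one] at hij
      exact absurd hij.symm hσ1
    · rw [pow_zero, pow_one] at hij
      exact absurd hij hσ1
    · rfl
  have hιfix : ∀ s, σ (ι s) = ι s := fun s => (hι (ι s)).2 ⟨s, rfl⟩
  obtain ⟨ec, hec⟩ : ∃ ec, ec = fpCentHom ι σ hm hιfix ⟨dSim m ν hν0, he₀⟩ := ⟨_, rfl⟩
  have hecv : ec.1 = DhO _ (fpHom ι m (dSim m ν hν0)) := by
    rw [hec]
    rfl
  have hmue : (mu (dSim m ν hν0) : F₀) ≠ 0 := (mu (dSim m ν hν0)).ne_zero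
  have hmuens : ¬ IsSquare (mu (dSim m ν hν0) : F₀) := by
    rw [mu_dSim]
    exact hν
  have hall : ∀ c ∈ Cfsg.inndiagPOmegaPlus m F ⊓
      Subgroup.centralizer {PhiQ σ (hσP (m := m) σ)},
      c ∈ Cfsg.Inn (Cfsg.POmega F (Cfsg.quadFormPlus m F)) ∨
      c * ec.1⁻¹ ∈ Cfsg.Inn (Cfsg.POmega F (Cfsg.quadFormPlus m F)) := by
    intro c hc
    obtain ⟨⟨k₀, hk₀⟩, hk⟩ := fpCentHom_surjective ι σ hm 2 (by norm_num) hσsq hinj hι ⟨c, hc⟩
    have hcv : c = DhO _ (fpHom ι m k₀) := by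
      have := congrArg Subtype.val hk
      rw [fpCentHom_val] at this
      exact this.symm
    by_cases hsq : IsSquare (mu k₀ : F₀)
    · left
      rw [hcv]
      exact fpHom_mem_inn_of_sq ι h2 hcard hm k₀ hk₀ hsq
    · right
      have e1 : c * ec.1⁻¹ = DhO _ (fpHom ι m (k₀ * (dSim m ν hν0)⁻¹)) := by
        rw [hcv, hecv, map_mul, map_mul, map_inv, map_inv]
      rw [e1]
      apply fpHom_mem_inn_of_sq ι h2 hcard hm
      · rw [map_mul, map_inv]
        exact mul_mem hk₀ (inv_mem he₀)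
      · have hmuinv : (mu ((dSim m ν hν0)⁻¹) : F₀) = (mu (dSim m ν hν0) : F₀)⁻¹ := by
          have h3 := mu_mul hQ₀ ((dSim m ν hν0)⁻¹) (dSim m ν hν0)
          rw [inv_mul_cancel, mu_one hQ₀] at h3
          have h4 := congrArg Units.val h3
          rw [Units.val_one, Units.val_mul] at h4
          exact eq_inv_of_mul_eq_one_left h4.symm
        rw [mu_mul hQ₀, Units.val_mul, hmuinv,
          isSquare_mul_iff (mu k₀).ne_zero (inv_ne_zero hmue), isSquare_inv]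
        exact ⟨fun h3 => absurd h3 hsq, fun h3 => absurd h3 hmuens⟩
  have key := splitClassCount_four_cases _ _ (inn_le_inndiag_P hm) hidx
    (PhiQ σ (hσP (m := m) σ)) ec.1 ec.2 hall
  have hB := fpHom_dSim_mem_inn_iff ι h2 hcard hm ν hν0 hν
  rw [← hecv] at hB
  constructor
  · intro h
    exact key.1 (hB.2 h)
  · intro h
    exact key.2 (fun h3 => h (hB.1 h3))

end two

end Cfsg.Agent.Lib.H7AutPM
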