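import Cfsg.Agent.Lib.Helper7.AutPM.FrobM
import Mathlib

/-!
# Existence of the Frobenius semisimilarity of the minus-type form (helper7)

Instantiating `FrobM` with `K = F[X]/(X² + aX + b)`.
-/

set_option autoImplicit false
set_option linter.unusedSectionVars false
set_option linter.style.haveILetI false

namespace Cfsg.Agent.Lib.H7AutPM

open Matrix Cfsg Polynomial

universe u

variable {F : Type u} [Field F] (a b : F)

/-- the polynomial `X² + aX + b` -/
noncomputable def minusPoly : F[X] := X ^ 2 + C a * X + C b

theorem minusPoly_natDegree : (minusPoly a b).natDegree = 2 := by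
  unfold minusPoly
  compute_degree!

theorem minusPoly_monic : (minusPoly a b).Monic := by
  unfold minusPoly
  monicity!

theorem minusPoly_ne_zero : minusPoly a b ≠ 0 := (minusPoly_monic a b).ne_zero

theorem minusPoly_irreducible
    (hab : ∀ z₁ z₂ : F, z₁ ^ 2 + a * z₁ * z₂ + b * z₂ ^ 2 = 0 → z₁ = 0 ∧ z₂ = 0) :
    Irreducible (minusPoly a b) := by
  apply Polynomial.irreducible_of_degree_le_three_of_not_isRoot
  · rw [minusPoly_natDegree]; simp
  · intro x hx
    have h1 : x ^ 2 + a * x + b = 0 := by
      have := hx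
      rw [Polynomial.IsRoot.def] at this
      unfold minusPoly at this
      simpa using this
    have := hab x 1 (by linear_combination h1)
    exact one_ne_zero this.2

variable [Fintype F]

/-- **the Frobenius semisimilarity of the minus-type form** -/
theorem exists_frob_minus (p : ℕ) [Fact p.Prime] [CharP F p] {f : ℕ}
    (hF : Fintype.card F = p ^ f) (m : ℕ)
    (hab : ∀ z₁ z₂ : F, z₁ ^ 2 + a * z₁ * z₂ + b * z₂ ^ 2 = 0 → z₁ = 0 ∧ z₂ = 0) :
    ∃ g₂ : GL (Fin 2) F,
      binX m g₂ (frobeniusEquiv F p) ∈ GammaO (Cfsg.quadFormMinus m F a b) ∧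
        binX m g₂ (frobeniusEquiv F p) ^ f = SemidirectProduct.inl (reflM m a) := by
  classical
  haveI : Fact (Irreducible (minusPoly a b)) := ⟨minusPoly_irreducible a b hab⟩
  set K := AdjoinRoot (minusPoly a b) with hK
  set ω : K := AdjoinRoot.root (minusPoly a b) with hωdef
  haveI : CharP K p := charP_of_injective_algebraMap (algebraMap F K).injective p
  have hfin : Module.finrank F K = 2 := by
    rw [(AdjoinRoot.powerBasis (minusPoly_ne_zero a b)).finrank, AdjoinRoot.powerBasis_dim,
      minusPoly_natDegree]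
  haveI : Module.Finite F K := Module.finite_of_finrank_pos (by rw [hfin]; norm_num)
  haveI : Finite K := Module.finite_of_finite F
  -- the root
  have hω : ω ^ 2 + algebraMap F K a * ω + algebraMap F K b = 0 := by
    have h := AdjoinRoot.eval₂_root (minusPoly a b)
    unfold minusPoly at h
    rw [Polynomial.eval₂_add, Polynomial.eval₂_add, Polynomial.eval₂_mul, Polynomial.eval₂_pow,
      Polynomial.eval₂_X, Polynomial.eval₂_C, Polynomial.eval₂_C] at h
    exact h
  -- the conjugate root
  have hq1 : (ω ^ Fintype.card F) ^ 2 + algebraMap F K a * ω ^ Fintype.card F +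
      algebraMap F K b = 0 := by
    have h := congrArg (fun k : K => k ^ p ^ f) hω
    beta_reduce at h
    rw [add_pow_char_pow, add_pow_char_pow, mul_pow, ← map_pow, ← map_pow, ← hF,
      FiniteField.pow_card, FiniteField.pow_card, zero_pow Fintype.card_ne_zero, ← pow_mul,
      mul_comm, pow_mul] at h
    exact h
  have hq2 : ω ^ Fintype.card F ≠ ω := by
    intro h
    have h1 : (FiniteField.frobeniusAlgEquivOfAlgebraic F K : K →ₐ[F] K) = AlgHom.id F K := by
      apply AdjoinRoot.algHom_ext
      show ω ^ Fintype.card F = ω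
      exact h
    have h2 : FiniteField.frobeniusAlgEquivOfAlgebraic F K = 1 := by
      apply AlgEquiv.ext
      intro k
      exact DFunLike.congr_fun h1 k
    have h3 := FiniteField.orderOf_frobeniusAlgEquivOfAlgebraic F K
    rw [h2, orderOf_one, hfin] at h3
    omega
  have hωq : ω ^ Fintype.card F = -algebraMap F K a - ω := by
    have h : (ω ^ Fintype.card F - ω) * (ω ^ Fintype.card F + algebraMap F K a + ω) = 0 := by
      linear_combination hq1 - hω
    rcases mul_eq_zero.1 h with h | h
    · exact absurd (sub_eq_zero.1 h) hq2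
    · linear_combination h
  -- coordinates of `ω ^ p`
  obtain ⟨α, β, hαβ⟩ : ∃ α β : F, ω ^ p = algebraMap F K α + algebraMap F K β * ω := by
    obtain ⟨g, hg⟩ := AdjoinRoot.mk_surjective (ω ^ p)
    have hmon := minusPoly_monic a b
    have h1 := Polynomial.modByMonic_add_div g (minusPoly a b)
    have hne1 : minusPoly a b ≠ 1 := by
      intro h
      have := minusPoly_natDegree a b
      rw [h, Polynomial.natDegree_one] at this
      omega
    have hdeg := Polynomial.natDegree_modByMonic_lt g hmon hne1
    rw [minusPoly_natDegree] at hdeg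
    obtain ⟨c₁, c₀, hr⟩ := Polynomial.exists_eq_X_add_C_of_natDegree_le_one
      (show (g %ₘ minusPoly a b).natDegree ≤ 1 by omega)
    refine ⟨c₀, c₁, ?_⟩
    rw [← hg, ← h1, map_add, map_mul, AdjoinRoot.mk_self, zero_mul, add_zero, hr, map_add,
      map_mul, AdjoinRoot.mk_C, AdjoinRoot.mk_C, AdjoinRoot.mk_X, add_comm]
    rfl
  have hβ : β ≠ 0 := beta_ne_zero p hF hab hω hωq hαβ
  refine ⟨Matrix.GeneralLinearGroup.mkOfDetNeZero (gAB α β) (by rw [gAB_det]; exact hβ), ?_, ?_⟩
  · apply binX_mem
    intro z
    have h := bin2_frob p hF hω hωq hαβ z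
    rw [frobeniusEquiv_apply, frobenius_def, ← h]
    rfl
  · exact binX_pow_card m p _ (fun z => psiK_frob p hαβ z) hF hab hω hωq

end Cfsg.Agent.Lib.H7AutPM
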