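import Mathlib

/-!
# The anisotropic binary form as the norm form of a quadratic extension (helper7)

`K` a field over the finite field `F` containing a root `ω` of `X² + aX + b`; coordinates
`psiK ω z = z₀ - z₁ ω`; the `p`-power map in coordinates (`gAB α β`, where `ω^p = α + βω`) is a
semisimilarity of the binary form, and the `q`-power map is `(z₀, z₁) ↦ (z₀ + a z₁, -z₁)`.
-/

set_option autoImplicit false
set_option linter.unusedSectionVars false

namespace Cfsg.Agent.Lib.H7AutPM

open Matrix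

universe u

variable {F : Type u} [Field F]

/-- the binary form `z₀² + a z₀ z₁ + b z₁²` -/
def bin2 (a b : F) (z : Fin 2 → F) : F := z 0 ^ 2 + a * z 0 * z 1 + b * z 1 ^ 2

/-- the matrix of `w ↦ w₀ - w₁ (α + β ω)` in the coordinates `psiK` -/
def gAB (α β : F) : Matrix (Fin 2) (Fin 2) F := !![1, -α; 0, β]

theorem gAB_mulVec (α β : F) (w : Fin 2 → F) :
    gAB α β *ᵥ w = ![w 0 - α * w 1, β * w 1] := by
  ext i
  fin_cases i
  · simp [gAB, Matrix.mulVec, dotProduct, Fin.sum_univ_two]; ring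
  · simp [gAB, Matrix.mulVec, dotProduct, Fin.sum_univ_two]

theorem gAB_det (α β : F) : (gAB α β).det = β := by
  simp [gAB, Matrix.det_fin_two]

section ext

variable {K : Type u} [Field K] [Algebra F K] (a b : F) (ω : K)

/-- coordinates on the quadratic extension: `z ↦ z₀ - z₁ ω` -/
def psiK (z : Fin 2 → F) : K := algebraMap F K (z 0) - algebraMap F K (z 1) * ω

variable {a b ω}

theorem omega_ne
    (hab : ∀ z₁ z₂ : F, z₁ ^ 2 + a * z₁ * z₂ + b * z₂ ^ 2 = 0 → z₁ = 0 ∧ z₂ = 0)
    (hω : ω ^ 2 + algebraMap F K a * ω + algebraMap F K b = 0) (r : F) :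
    ω ≠ algebraMap F K r := by
  rintro rfl
  have h1 : algebraMap F K (r ^ 2 + a * r * 1 + b * 1 ^ 2) = 0 := by
    rw [← hω]
    simp only [map_add, map_mul, map_pow, map_one]
    ring
  have h2 := (map_eq_zero (algebraMap F K)).1 h1
  exact one_ne_zero (hab r 1 h2).2

theorem psiK_injective
    (hab : ∀ z₁ z₂ : F, z₁ ^ 2 + a * z₁ * z₂ + b * z₂ ^ 2 = 0 → z₁ = 0 ∧ z₂ = 0)
    (hω : ω ^ 2 + algebraMap F K a * ω + algebraMap F K b = 0) :
    Function.Injective (psiK (F := F) ω) := by
  intro z z' h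
  unfold psiK at h
  have h1 : algebraMap F K (z 0 - z' 0) = algebraMap F K (z 1 - z' 1) * ω := by
    rw [map_sub, map_sub]
    linear_combination h
  by_cases hd : z 1 - z' 1 = 0
  · rw [hd, map_zero, zero_mul] at h1
    have h0 := (map_eq_zero (algebraMap F K)).1 h1
    ext i
    fin_cases i
    · exact sub_eq_zero.1 h0
    · exact sub_eq_zero.1 hd
  · exfalso
    apply omega_ne hab hω ((z 0 - z' 0) / (z 1 - z' 1))
    rw [map_div₀, h1]
    have : algebraMap F K (z 1 - z' 1) ≠ 0 := fun h => hd ((map_eq_zero (algebraMap F K)).1 h)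
    field_simp

theorem psiK_gAB (α β : F) (w : Fin 2 → F) :
    psiK ω (gAB α β *ᵥ w) =
      algebraMap F K (w 0) - algebraMap F K (w 1) * (algebraMap F K α + algebraMap F K β * ω) := by
  rw [gAB_mulVec]
  unfold psiK
  simp only [Matrix.cons_val_zero, Matrix.cons_val_one, map_sub, map_mul]
  ring

variable (p : ℕ) [Fact p.Prime] [CharP K p]

theorem psiK_pow (n : ℕ) (z : Fin 2 → F) :
    psiK ω z ^ p ^ n =
      algebraMap F K (z 0 ^ p ^ n) - algebraMap F K (z 1 ^ p ^ n) * ω ^ p ^ n := by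
  unfold psiK
  rw [sub_pow_char_pow, mul_pow, map_pow, map_pow]

/-- the `p`-power map in coordinates -/
theorem psiK_frob {α β : F} (hαβ : ω ^ p = algebraMap F K α + algebraMap F K β * ω)
    (z : Fin 2 → F) :
    psiK ω (gAB α β *ᵥ (fun i => z i ^ p)) = psiK ω z ^ p := by
  have h := psiK_pow (ω := ω) p 1 z
  rw [pow_one] at h
  rw [h, psiK_gAB, hαβ]

/-- the `q`-power map in coordinates -/
theorem psiK_pow_card [Fintype F] {f : ℕ} (hF : Fintype.card F = p ^ f)
    (hωq : ω ^ Fintype.card F = -algebraMap F K a - ω) (z : Fin 2 → F) :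
    psiK ω z ^ Fintype.card F = psiK ω ![z 0 + a * z 1, -z 1] := by
  have h := psiK_pow (ω := ω) p f z
  rw [← hF] at h
  rw [h, hωq, FiniteField.pow_card, FiniteField.pow_card]
  unfold psiK
  simp only [Matrix.cons_val_zero, Matrix.cons_val_one, map_add, map_mul, map_neg]
  ring

/-- the binary form is the norm form -/
theorem psiK_norm [Fintype F] {f : ℕ} (hF : Fintype.card F = p ^ f)
    (hω : ω ^ 2 + algebraMap F K a * ω + algebraMap F K b = 0)
    (hωq : ω ^ Fintype.card F = -algebraMap F K a - ω) (z : Fin 2 → F) :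
    psiK ω z ^ (Fintype.card F + 1) = algebraMap F K (bin2 a b z) := by
  rw [pow_succ, psiK_pow_card p hF hωq]
  unfold psiK bin2
  simp only [Matrix.cons_val_zero, Matrix.cons_val_one, map_add, map_mul, map_neg, map_pow]
  linear_combination -(algebraMap F K (z 1)) ^ 2 * hω

/-- **the `p`-power map is a semisimilarity of the binary form** -/
theorem bin2_frob [Fintype F] {f : ℕ} (hF : Fintype.card F = p ^ f)
    (hω : ω ^ 2 + algebraMap F K a * ω + algebraMap F K b = 0)
    (hωq : ω ^ Fintype.card F = -algebraMap F K a - ω)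
    {α β : F} (hαβ : ω ^ p = algebraMap F K α + algebraMap F K β * ω) (z : Fin 2 → F) :
    bin2 a b (gAB α β *ᵥ (fun i => z i ^ p)) = bin2 a b z ^ p := by
  apply (algebraMap F K).injective
  rw [← psiK_norm p hF hω hωq, psiK_frob p hαβ, map_pow, ← psiK_norm p hF hω hωq, ← pow_mul,
    ← pow_mul, mul_comm]

theorem beta_ne_zero [Fintype F] {f : ℕ} (hF : Fintype.card F = p ^ f) [CharP F p]
    (hab : ∀ z₁ z₂ : F, z₁ ^ 2 + a * z₁ * z₂ + b * z₂ ^ 2 = 0 → z₁ = 0 ∧ z₂ = 0)
    (hω : ω ^ 2 + algebraMap F K a * ω + algebraMap F K b = 0)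
    (hωq : ω ^ Fintype.card F = -algebraMap F K a - ω)
    {α β : F} (hαβ : ω ^ p = algebraMap F K α + algebraMap F K β * ω) : β ≠ 0 := by
  rintro rfl
  obtain ⟨s, hs⟩ := (frobeniusEquiv F p).surjective α
  rw [frobeniusEquiv_apply, frobenius_def] at hs
  have h := bin2_frob p hF hω hωq hαβ ![s, 1]
  have h0 : gAB α 0 *ᵥ (fun i => (![s, 1] : Fin 2 → F) i ^ p) = 0 := by
    rw [gAB_mulVec]
    ext i
    fin_cases i
    · simp [hs]
    · simp
  rw [h0] at h
  have h1 : bin2 a b (0 : Fin 2 → F) = 0 := by simp [bin2]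
  rw [h1] at h
  have h2 : bin2 a b ![s, 1] = 0 := by
    have := h.symm
    exact pow_eq_zero_iff (Fact.out : p.Prime).ne_zero |>.1 this
  unfold bin2 at h2
  simp only [Matrix.cons_val_zero, Matrix.cons_val_one] at h2
  exact one_ne_zero (hab s 1 h2).2

end ext

end Cfsg.Agent.Lib.H7AutPM
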