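import Cfsg.Agent.Lib.Helper7.AutPM.KerPs
import Cfsg.Agent.Lib.Helper7.AutPM.QuadExt
import Cfsg.Agent.Lib.Helper5.OrthAut.InndiagMinusZ4
import Cfsg.Agent.S0288
import Mathlib

/-!
# The Frobenius semisimilarity of the minus-type form (helper7)

For `Q = quadFormMinus m F a b` (anisotropic binary part) over `F` with `p ^ f` elements there is a
semisimilarity `x₀ = (g, Frob_p)` of `Q` whose `f`-th power is the reflection of the binary part
`(z₀, z₁) ↦ (z₀ + a z₁, -z₁)`.
-/

set_option autoImplicit false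
set_option linter.unusedSectionVars false

namespace Cfsg.Agent.Lib.H7AutPM

open Matrix Cfsg Cfsg.Agent.Lib.H7AutPSp Cfsg.Agent.Lib.H7AutPO Cfsg.Agent.Lib.Helper5.OrthAut
  Cfsg.Agent.H9.Orth Cfsg.Agent.Lib.Helper5.OrthSN Cfsg.Agent.Lib.Helper5.OrthPar
  Cfsg.Agent.Lib.Helper5.OrthCls

universe u

variable {F : Type u} [Field F] (m : ℕ) (a b : F)

/-- the index type of the minus-type form -/
abbrev IM (m : ℕ) : Type := (Fin m ⊕ Fin m) ⊕ Fin 2

/-- a matrix acting on the binary part -/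
def binGL (g₂ : GL (Fin 2) F) : GL (IM m) F := blockGL (1 : GL (Fin m ⊕ Fin m) F) g₂

theorem act_binGL (g₂ : GL (Fin 2) F) (v : IM m → F) :
    act (binGL m g₂) v = Sum.elim (v ∘ Sum.inl) (g₂.val *ᵥ (v ∘ Sum.inr)) := by
  unfold binGL
  rw [act_blockGL, act_one]

theorem binGL_mul (g h : GL (Fin 2) F) : binGL m (g * h) = binGL m g * binGL m h := by
  apply gl_ext
  intro v
  rw [act_mul, act_binGL, act_binGL, act_binGL, Units.val_mul, ← Matrix.mulVec_mulVec]
  rfl

theorem quadFormMinus_eq (v : IM m → F) :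
    Cfsg.quadFormMinus m F a b v =
      Cfsg.quadFormPlus m F (v ∘ Sum.inl) + bin2 a b (v ∘ Sum.inr) := rfl

theorem quadFormMinus_elim' (x : Fin m ⊕ Fin m → F) (y : Fin 2 → F) :
    Cfsg.quadFormMinus m F a b (Sum.elim x y) = Cfsg.quadFormPlus m F x + bin2 a b y := rfl

/-- the semilinear map `(binGL g₂, σ)` -/
def binX (g₂ : GL (Fin 2) F) (σ : RingAut F) : GamL (IM m) F := ⟨binGL m g₂, σ⟩

theorem sact_binX (g₂ : GL (Fin 2) F) (σ : RingAut F) (v : IM m → F) :
    sact (binX m g₂ σ) v =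
      Sum.elim (fun i => σ (v (Sum.inl i))) (g₂.val *ᵥ (fun j => σ (v (Sum.inr j)))) := by
  rw [sact_def]
  show act (binGL m g₂) _ = _
  rw [act_binGL]
  rfl

theorem binX_mem (g₂ : GL (Fin 2) F) (σ : RingAut F)
    (hsemi : ∀ z : Fin 2 → F, bin2 a b (g₂.val *ᵥ (fun i => σ (z i))) = σ (bin2 a b z)) :
    binX m g₂ σ ∈ GammaO (Cfsg.quadFormMinus m F a b) := by
  refine ⟨1, fun v => ?_⟩
  rw [sact_binX, quadFormMinus_elim', Units.val_one, one_mul, quadFormMinus_eq, map_add]
  congr 1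
  · exact fieldCompat_plus m σ (v ∘ Sum.inl)
  · exact hsemi (v ∘ Sum.inr)

/-! ### the reflection of the binary part -/

/-- the matrix `(z₀, z₁) ↦ (z₀ + a z₁, -z₁)` -/
def refl2 : GL (Fin 2) F :=
  ⟨!![1, a; 0, -1], !![1, a; 0, -1], by
    ext i j
    fin_cases i <;> fin_cases j <;> simp [Matrix.mul_apply, Fin.sum_univ_two],
    by
    ext i j
    fin_cases i <;> fin_cases j <;> simp [Matrix.mul_apply, Fin.sum_univ_two]⟩

theorem refl2_mulVec (w : Fin 2 → F) : (refl2 a).val *ᵥ w = ![w 0 + a * w 1, -w 1] := by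
  ext i
  fin_cases i
  · simp [refl2, Matrix.mulVec, dotProduct, Fin.sum_univ_two]
  · simp [refl2, Matrix.mulVec, dotProduct, Fin.sum_univ_two]

/-- the reflection of the binary part, in `GL` -/
def reflM : GL (IM m) F := binGL m (refl2 a)

theorem act_reflM (v : IM m → F) :
    act (reflM m a) v =
      Sum.elim (v ∘ Sum.inl) ![v (Sum.inr 0) + a * v (Sum.inr 1), -v (Sum.inr 1)] := by
  unfold reflM
  rw [act_binGL, refl2_mulVec]
  rfl

theorem reflM_mem : reflM m a ∈ Cfsg.isometryGroup F (Cfsg.quadFormMinus m F a b) := by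
  rw [mem_isometryGroup_iff]
  intro v
  rw [act_reflM, quadFormMinus_elim', quadFormMinus_eq]
  congr 1
  unfold bin2
  simp only [Matrix.cons_val_zero, Matrix.cons_val_one, Function.comp_apply]
  ring

theorem reflM_eq_rf (hQ : Cfsg.Geo.IsNondegenerateQuadraticForm (Cfsg.quadFormMinus m F a b))
    (hD : 4 * b - a ^ 2 ≠ 0) :
    reflM m a = rf hQ (Sum.elim 0 ![a, -2]) := by
  have hy : (![a, -2] : Fin 2 → F) 0 ^ 2 + a * (![a, -2] : Fin 2 → F) 0 * (![a, -2] : Fin 2 → F) 1
      + b * (![a, -2] : Fin 2 → F) 1 ^ 2 ≠ 0 := by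
    simp only [Matrix.cons_val_zero, Matrix.cons_val_one]
    intro h
    apply hD
    linear_combination h
  apply gl_ext
  intro v
  rw [act_reflM, act_rf_bin m a b hQ _ hy]
  congr 1
  funext j
  simp only [Matrix.cons_val_zero, Matrix.cons_val_one]
  have hD' : a ^ 2 + a * a * (-2) + b * (-2) ^ 2 ≠ 0 := by
    intro h
    apply hD
    linear_combination h
  have hB : ∀ v0 v1 : F, (a ^ 2 + a * a * (-2) + b * (-2) ^ 2)⁻¹ *
      (2 * v0 * a + a * (v0 * (-2) + a * v1) + 2 * b * v1 * (-2)) = -v1 := by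
    intro v0 v1
    have : 2 * v0 * a + a * (v0 * (-2) + a * v1) + 2 * b * v1 * (-2) =
        (a ^ 2 + a * a * (-2) + b * (-2) ^ 2) * (-v1) := by ring
    rw [this, ← mul_assoc, inv_mul_cancel₀ hD', one_mul]
  rw [hB]
  fin_cases j
  · simp only [Fin.zero_eta, Matrix.cons_val_zero]
    ring
  · simp only [Fin.mk_one, Matrix.cons_val_one, Matrix.cons_val_zero]
    ring

/-! ### powers of the Frobenius semisimilarity -/

section frob

variable {K : Type u} [Field K] [Algebra F K] {a b} {ω : K}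
variable (p : ℕ) [Fact p.Prime] [CharP F p] [CharP K p] [Fintype F]

theorem frob_pow_apply (n : ℕ) (c : F) :
    ((frobeniusEquiv F p : RingAut F) ^ n) c = c ^ p ^ n := by
  induction n generalizing c with
  | zero => simp
  | succ n ih =>
    rw [pow_succ, RingAut.mul_apply, ih, frobeniusEquiv_apply, frobenius_def, ← pow_mul, pow_succ,
      mul_comm]

theorem frob_pow_card {f : ℕ} (hF : Fintype.card F = p ^ f) :
    (frobeniusEquiv F p : RingAut F) ^ f = 1 := by
  apply RingEquiv.ext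
  intro c
  rw [frob_pow_apply, ← hF, FiniteField.pow_card]
  rfl

variable (g₂ : GL (Fin 2) F)
  (hg₂ : ∀ z : Fin 2 → F, psiK ω (g₂.val *ᵥ (fun i => z i ^ p)) = psiK ω z ^ p)
include hg₂

theorem sact_binX_pow (n : ℕ) (v : IM m → F) :
    (∀ i, sact (binX m g₂ (frobeniusEquiv F p) ^ n) v (Sum.inl i) = v (Sum.inl i) ^ p ^ n) ∧
      psiK ω ((sact (binX m g₂ (frobeniusEquiv F p) ^ n) v) ∘ Sum.inr) =
        psiK ω (v ∘ Sum.inr) ^ p ^ n := by
  induction n with
  | zero =>
    rw [pow_zero, sact_one, pow_zero, pow_one]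
    exact ⟨fun i => (pow_one _).symm, rfl⟩
  | succ n ih =>
    obtain ⟨ih1, ih2⟩ := ih
    rw [pow_succ', sact_mul, sact_binX]
    refine ⟨fun i => ?_, ?_⟩
    · rw [Sum.elim_inl, ih1, frobeniusEquiv_apply, frobenius_def, ← pow_mul, pow_succ]
    · have : (Sum.elim (fun i => (frobeniusEquiv F p)
            (sact (binX m g₂ (frobeniusEquiv F p) ^ n) v (Sum.inl i)))
          (g₂.val *ᵥ fun j => (frobeniusEquiv F p)
            (sact (binX m g₂ (frobeniusEquiv F p) ^ n) v (Sum.inr j)))) ∘ Sum.inr =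
          g₂.val *ᵥ (fun j => ((sact (binX m g₂ (frobeniusEquiv F p) ^ n) v) ∘ Sum.inr) j ^ p) := by
        funext j
        rfl
      rw [this, hg₂, ih2, ← pow_mul, pow_succ]

/-- **the `f`-th power of the Frobenius semisimilarity is the reflection of the binary part** -/
theorem binX_pow_card {f : ℕ} (hF : Fintype.card F = p ^ f)
    (hab : ∀ z₁ z₂ : F, z₁ ^ 2 + a * z₁ * z₂ + b * z₂ ^ 2 = 0 → z₁ = 0 ∧ z₂ = 0)
    (hω : ω ^ 2 + algebraMap F K a * ω + algebraMap F K b = 0)
    (hωq : ω ^ Fintype.card F = -algebraMap F K a - ω) :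
    binX m g₂ (frobeniusEquiv F p) ^ f = SemidirectProduct.inl (reflM m a) := by
  have hr : (binX m g₂ (frobeniusEquiv F p) ^ f).right = 1 := by
    rw [← SemidirectProduct.rightHom_eq_right, map_pow]
    exact frob_pow_card p hF
  apply SemidirectProduct.ext
  · rw [SemidirectProduct.left_inl]
    apply gl_ext
    intro v
    rw [← sact_eq_act _ hr, act_reflM]
    obtain ⟨h1, h2⟩ := sact_binX_pow m p g₂ hg₂ f v
    rw [← hF, psiK_pow_card p hF hωq] at h2
    have h3 := psiK_injective hab hω h2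
    funext k
    rcases k with k | k
    · rw [h1 k, ← hF, FiniteField.pow_card]
      rfl
    · exact congrFun h3 k
  · rw [hr, SemidirectProduct.right_inl]

end frob

end Cfsg.Agent.Lib.H7AutPM
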