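import Cfsg.Agent.Lib.Helper7.AutPM.GFModel
import Mathlib

/-!
# The centraliser of the standard involutory graph-field automorphism of `PΩ⁺_{2l+2}(F)` in
`Inndiag` is `Inndiag(PΩ⁻_{2l+2}(F₀))` (helper7)
-/

set_option autoImplicit false
set_option linter.unusedSectionVars false
set_option linter.style.haveILetI false

namespace Cfsg.Agent.Lib.H7AutPM

open Matrix Cfsg Cfsg.Agent.Lib.H7AutPSp Cfsg.Agent.Lib.H7AutPO Cfsg.Agent.Lib.H7AutPSL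
  Cfsg.Agent.Lib.Helper5.OrthAut Cfsg.Agent.H9.Orth Cfsg.Agent.Lib.Helper5.OrthSN
  Cfsg.Agent.Lib.Helper5.OrthPar Cfsg.Agent.Lib.Helper5.OrthCls Cfsg.Agent.Lib.Helper5.OrthPM

universe u v

section gf

variable {F : Type u} [Field F] [Fintype F] {F₀ : Type v} [Field F₀] [Fintype F₀]
  (ι : F₀ →+* F) {l : ℕ} (a₀ b₀ : F₀) (θ θ' : F) (hne : θ ≠ θ')
  (ha : θ + θ' = ι a₀) (hb : θ * θ' = ι b₀)

include ha hb in
theorem TM_form' (w : IM l → F) :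
    Cfsg.quadFormPlus (l + 1) F (TM θ θ' hne w) =
      Cfsg.quadFormMinus l F (ι a₀) (ι b₀) w := by
  rw [TM_form, ha, hb]

/-- the twisted base change from the minus-type similarities over `F₀` -/
noncomputable def gfHom :
    ↥(Cfsg.Geo.quadSimilarityGroup (F := F₀) (Cfsg.quadFormMinus l F₀ a₀ b₀)) →*
      ↥(Cfsg.Geo.quadSimilarityGroup (F := F) (Cfsg.quadFormPlus (l + 1) F)) :=
  twHom ι (TM θ θ' hne) (TM_form' ι a₀ b₀ θ θ' hne ha hb)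
    (fun g c hg w => sim_push_minus ι l a₀ b₀ g c hg w)

theorem gfHom_coe
    (k₀ : ↥(Cfsg.Geo.quadSimilarityGroup (F := F₀) (Cfsg.quadFormMinus l F₀ a₀ b₀))) :
    (gfHom ι a₀ b₀ θ θ' hne ha hb k₀).1 =
      conjL (TM θ θ' hne) (Matrix.GeneralLinearGroup.map ι k₀.1) := rfl

set_option maxHeartbeats 1600000 in
/-- **`Inndiag` is compatible with the twisted base change** -/
theorem gfHom_mem_inndiag_iff (hl : 3 ≤ l)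
    (hab₀ : ∀ z₁ z₂ : F₀, z₁ ^ 2 + a₀ * z₁ * z₂ + b₀ * z₂ ^ 2 = 0 → z₁ = 0 ∧ z₂ = 0)
    (k₀ : ↥(Cfsg.Geo.quadSimilarityGroup (F := F₀) (Cfsg.quadFormMinus l F₀ a₀ b₀))) :
    DhO _ (gfHom ι a₀ b₀ θ θ' hne ha hb k₀) ∈ Cfsg.inndiagPOmegaPlus (l + 1) F ↔
      DhO _ k₀ ∈ Cfsg.inndiagPOmegaMinus l F₀ a₀ b₀ := by
  haveI : Nonempty (Fin (l + 1) ⊕ Fin (l + 1)) := ⟨Sum.inl 0⟩
  have hm : 4 ≤ l + 1 := by omega
  have hTQ := TM_form' (l := l) ι a₀ b₀ θ θ' hne ha hb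
  by_cases h2 : (2 : F) = 0
  · have h2₀ : (2 : F₀) = 0 := (two_eq_zero_base_iff ι).2 h2
    rw [inndiag_eq_inn_two_P hm h2, inndiag_eq_inn_two hl hab₀ h2₀]
    obtain ⟨c, hc0, g', hg', e⟩ := exists_scalar_iso_two hl hab₀ h2₀ k₀
    have hg'' : conjL (TM θ θ' hne) (Matrix.GeneralLinearGroup.map ι g') ∈
        Cfsg.isometryGroup F (Cfsg.quadFormPlus (l + 1) F) :=
      conjL_mem_iso _ hTQ _ (map_mem_iso ι a₀ b₀ g' hg')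
    have e' : (gfHom ι a₀ b₀ θ θ' hne ha hb k₀).1 =
        scalarGL (ι c) ((map_ne_zero ι).2 hc0) *
          conjL (TM θ θ' hne) (Matrix.GeneralLinearGroup.map ι g') := by
      rw [gfHom_coe, e, map_mul, map_scalarGL, map_mul, conjL_scalarGL]
    rw [DhO_mem_inn_iff_two_P hm h2 _ (ι c) _ _ hg'' e',
      DhO_mem_inn_iff_two hl hab₀ h2₀ k₀ c hc0 g' hg' e, par_conjL, par_map]
  · have h2₀ : (2 : F₀) ≠ 0 := fun h => h2 ((two_eq_zero_base_iff ι).1 h)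
    have hodd := odd_card_of_two_ne_zero_P hm h2
    have hodd₀ := odd_card_of_two_ne_zero hl hab₀ h2₀
    have hP := mem_inndiag_iff_odd_P hm hodd (gfHom ι a₀ b₀ θ θ' hne ha hb k₀)
    have hM := mem_inndiag_iff_odd hl hab₀ hodd₀ k₀
    rw [chiDet_eq_one_iff] at hP hM
    rw [hP, hM]
    have hsimk : ∀ w, Cfsg.quadFormMinus l F (ι a₀) (ι b₀)
        (act (Matrix.GeneralLinearGroup.map ι k₀.1) w) =
        ι (mu k₀ : F₀) * Cfsg.quadFormMinus l F (ι a₀) (ι b₀) w :=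
      fun w => sim_push_minus ι l a₀ b₀ k₀.1.val (mu k₀ : F₀) (mu_spec k₀) w
    have hsim2 : ∀ u, Cfsg.quadFormPlus (l + 1) F
        (act (gfHom ι a₀ b₀ θ θ' hne ha hb k₀).1 u) =
        ι (mu k₀ : F₀) * Cfsg.quadFormPlus (l + 1) F u :=
      fun u => conjL_sim (TM θ θ' hne) hTQ (Matrix.GeneralLinearGroup.map ι k₀.1)
        (ι (mu k₀ : F₀)) hsimk u
    have hmu : (mu (gfHom ι a₀ b₀ θ θ' hne ha hb k₀) : F) = ι (mu k₀ : F₀) :=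
      mu_unique hQP (gfHom ι a₀ b₀ θ θ' hne ha hb k₀) (ι (mu k₀ : F₀)) hsim2
    have hdet : ((gfHom ι a₀ b₀ θ θ' hne ha hb k₀ : GL (Fin (l + 1) ⊕ Fin (l + 1)) F) :
        Matrix (Fin (l + 1) ⊕ Fin (l + 1)) (Fin (l + 1) ⊕ Fin (l + 1)) F).det =
        ι ((k₀ : GL (IM l) F₀) : Matrix (IM l) (IM l) F₀).det := by
      rw [gfHom_coe, det_conjL, RingHom.map_det]
      rfl
    rw [hmu, hdet, ← map_pow]
    exact ι.injective.eq_iff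

/-- the standard involutory graph-field automorphism -/
noncomputable def xGF (l : ℕ) (σ : RingAut F) :
    MulAut (Cfsg.POmega F (Cfsg.quadFormPlus (l + 1) F)) :=
  DhO _ (rfS (vGF (F := F) (l := l))) * PhiQ σ (hσP σ)

variable (σ : RingAut F)

/-- the homomorphism onto the centraliser of the graph-field automorphism -/
noncomputable def gfCentHom (hθ : σ θ = θ') (hθ' : σ θ' = θ) (hl : 3 ≤ l)
    (hab₀ : ∀ z₁ z₂ : F₀, z₁ ^ 2 + a₀ * z₁ * z₂ + b₀ * z₂ ^ 2 = 0 → z₁ = 0 ∧ z₂ = 0)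
    (hι : ∀ s, σ (ι s) = ι s) :
    ↥(simInndiag l a₀ b₀) →*
      ↥(Cfsg.inndiagPOmegaPlus (l + 1) F ⊓ Subgroup.centralizer {xGF l σ}) :=
  ((DhO (Cfsg.quadFormPlus (l + 1) F)).comp
    ((gfHom ι a₀ b₀ θ θ' hne ha hb).comp (simInndiag l a₀ b₀).subtype)).codRestrict _
    (fun g => by
      refine Subgroup.mem_inf.2
        ⟨(gfHom_mem_inndiag_iff ι a₀ b₀ θ θ' hne ha hb hl hab₀ g.1).2 g.2, ?_⟩
      rw [mem_centralizer_singleton]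
      haveI : Nonempty (Fin (l + 1) ⊕ Fin (l + 1)) := ⟨Sum.inl 0⟩
      haveI : Nonempty (IM l) := ⟨Sum.inr 0⟩
      exact twHom_comm ι (TM θ θ' hne) (TM_form' ι a₀ b₀ θ θ' hne ha hb)
        (fun g c hg w => sim_push_minus ι l a₀ b₀ g c hg w) hQP σ (hσP σ) (rfS vGF)
        (TM_twist θ θ' hne σ hθ hθ') hι g.1)

theorem gfCentHom_val (hθ : σ θ = θ') (hθ' : σ θ' = θ) (hl : 3 ≤ l)
    (hab₀ : ∀ z₁ z₂ : F₀, z₁ ^ 2 + a₀ * z₁ * z₂ + b₀ * z₂ ^ 2 = 0 → z₁ = 0 ∧ z₂ = 0)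
    (hι : ∀ s, σ (ι s) = ι s) (g : ↥(simInndiag l a₀ b₀)) :
    (gfCentHom ι a₀ b₀ θ θ' hne ha hb σ hθ hθ' hl hab₀ hι g :
      MulAut (Cfsg.POmega F (Cfsg.quadFormPlus (l + 1) F))) =
      DhO _ (gfHom ι a₀ b₀ θ θ' hne ha hb g.1) := rfl

theorem gfCentHom_ker (hθ : σ θ = θ') (hθ' : σ θ' = θ) (hl : 3 ≤ l)
    (hab₀ : ∀ z₁ z₂ : F₀, z₁ ^ 2 + a₀ * z₁ * z₂ + b₀ * z₂ ^ 2 = 0 → z₁ = 0 ∧ z₂ = 0)
    (hι : ∀ s, σ (ι s) = ι s) :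
    (gfCentHom ι a₀ b₀ θ θ' hne ha hb σ hθ hθ' hl hab₀ hι).ker =
      (baseHomM (m := l) a₀ b₀).ker := by
  haveI : Nonempty (Fin (l + 1) ⊕ Fin (l + 1)) := ⟨Sum.inl 0⟩
  haveI : Nonempty (IM l) := ⟨Sum.inr 0⟩
  ext g
  have h1 : g ∈ (gfCentHom ι a₀ b₀ θ θ' hne ha hb σ hθ hθ' hl hab₀ hι).ker ↔
      DhO _ (gfHom ι a₀ b₀ θ θ' hne ha hb g.1) = 1 := by
    rw [MonoidHom.mem_ker, Subtype.ext_iff, gfCentHom_val]
    rfl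
  have h2 : g ∈ (baseHomM (m := l) a₀ b₀).ker ↔ DhO _ g.1 = 1 := by
    rw [MonoidHom.mem_ker, Subtype.ext_iff, baseHomM_val]
    rfl
  rw [h1, h2]
  exact DhO_twHom_eq_one_iff ι (TM θ θ' hne) (TM_form' ι a₀ b₀ θ θ' hne ha hb)
    (fun g c hg w => sim_push_minus ι l a₀ b₀ g c hg w) hQP (hnP (by omega)) (hQM a₀ b₀ hab₀)
    (hnM hl) g.1

set_option maxHeartbeats 1600000 in
theorem gfCentHom_surjective (hθ : σ θ = θ') (hθ' : σ θ' = θ) (hl : 3 ≤ l)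
    (hab₀ : ∀ z₁ z₂ : F₀, z₁ ^ 2 + a₀ * z₁ * z₂ + b₀ * z₂ ^ 2 = 0 → z₁ = 0 ∧ z₂ = 0)
    (r : ℕ) (hr : 0 < r) (hσ : σ ^ r = 1)
    (hinj : ∀ i j, i < r → j < r → σ ^ i = σ ^ j → i = j)
    (hι : ∀ t : F, σ t = t ↔ ∃ s, ι s = t) :
    Function.Surjective (gfCentHom ι a₀ b₀ θ θ' hne ha hb σ hθ hθ' hl hab₀
      (fun s => (hι (ι s)).2 ⟨s, rfl⟩)) := by
  haveI : Nonempty (Fin (l + 1) ⊕ Fin (l + 1)) := ⟨Sum.inl 0⟩
  haveI : Nonempty (IM l) := ⟨Sum.inr 0⟩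
  rintro ⟨c, hc⟩
  obtain ⟨hcD, hcent⟩ := Subgroup.mem_inf.1 hc
  obtain ⟨k, rfl⟩ := inndiag_le_range_P (by omega) hcD
  rw [mem_centralizer_singleton] at hcent
  obtain ⟨k₀, hk₀⟩ := twHom_surj_cent ι (TM θ θ' hne) (TM_form' ι a₀ b₀ θ θ' hne ha hb)
    (fun g c hg w => sim_push_minus ι l a₀ b₀ g c hg w) hQP σ (hσP σ) (rfS vGF)
    (TM_twist θ θ' hne σ hθ hθ') (hnP (by omega))
    (fun w₀ => quadFormMinus_vpush ι l a₀ b₀ w₀)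
    ⟨Pi.single (Sum.inr 0) 1, by rw [quadFormMinus_single_inr]; exact one_ne_zero⟩
    r hr hσ hinj hι k hcent
  have hmem : k₀ ∈ simInndiag l a₀ b₀ := by
    show DhO _ k₀ ∈ Cfsg.inndiagPOmegaMinus l F₀ a₀ b₀
    rw [← gfHom_mem_inndiag_iff ι a₀ b₀ θ θ' hne ha hb hl hab₀]
    show DhO _ (twHom ι (TM θ θ' hne) _ _ k₀) ∈ _
    rw [hk₀]
    exact hcD
  refine ⟨⟨k₀, hmem⟩, ?_⟩
  apply Subtype.ext
  rw [gfCentHom_val]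
  exact hk₀

include hne ha hb in
/-- **`C_{Inndiag}(x₀) ≅ Inndiag(PΩ⁻_{2l+2}(F₀))` for the standard graph-field involution** -/
theorem nonempty_cent_gf_equiv (hθ : σ θ = θ') (hθ' : σ θ' = θ) (hl : 3 ≤ l)
    (hab₀ : ∀ z₁ z₂ : F₀, z₁ ^ 2 + a₀ * z₁ * z₂ + b₀ * z₂ ^ 2 = 0 → z₁ = 0 ∧ z₂ = 0)
    (r : ℕ) (hr : 0 < r) (hσ : σ ^ r = 1)
    (hinj : ∀ i j, i < r → j < r → σ ^ i = σ ^ j → i = j)
    (hι : ∀ t : F, σ t = t ↔ ∃ s, ι s = t) :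
    Nonempty (↥(Cfsg.inndiagPOmegaPlus (l + 1) F ⊓ Subgroup.centralizer {xGF l σ}) ≃*
      ↥(Cfsg.inndiagPOmegaMinus l F₀ a₀ b₀)) :=
  ⟨equivOfSurjKer _ _
    (gfCentHom_surjective ι a₀ b₀ θ θ' hne ha hb σ hθ hθ' hl hab₀ r hr hσ hinj hι)
    (baseHomM_surjective a₀ b₀ hl hab₀)
    (gfCentHom_ker ι a₀ b₀ θ θ' hne ha hb σ hθ hθ' hl hab₀ _)⟩

end gf

end Cfsg.Agent.Lib.H7AutPM
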