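import Cfsg.Agent.Lib.Helper7.AutPM.TwCent
import Mathlib

/-!
# The model of the twisted form: `PΩ⁻_{2l+2}(F₀)` inside `PΩ⁺_{2l+2}(F)` (helper7)

`TM θ θ'` maps `(x, y, z₁, z₂)` to the vector with hyperbolic pairs `(x_i, y_i)` and
`(z₁ + θ z₂, z₁ + θ' z₂)`; here `θ, θ'` are the roots of `t² - a t + b`.
-/

set_option autoImplicit false
set_option linter.unusedSectionVars false
set_option linter.style.haveILetI false

namespace Cfsg.Agent.Lib.H7AutPM

open Matrix Cfsg Cfsg.Agent.Lib.H7AutPSp Cfsg.Agent.Lib.H7AutPO Cfsg.Agent.Lib.H7AutPSL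
  Cfsg.Agent.Lib.Helper5.OrthAut Cfsg.Agent.H9.Orth Cfsg.Agent.Lib.Helper5.OrthSN
  Cfsg.Agent.Lib.Helper5.OrthPar Cfsg.Agent.Lib.Helper5.OrthCls Cfsg.Agent.Lib.Helper5.OrthPM

universe u

section model

variable {F : Type u} [Field F] {l : ℕ} (θ θ' : F)

/-- the forward map -/
def tmFun (w : IM l → F) : Fin (l + 1) ⊕ Fin (l + 1) → F :=
  Sum.elim (Fin.cons (w (Sum.inr 0) + θ * w (Sum.inr 1)) (fun i => w (Sum.inl (Sum.inl i))))
    (Fin.cons (w (Sum.inr 0) + θ' * w (Sum.inr 1)) (fun i => w (Sum.inl (Sum.inr i))))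

theorem tmFun_inl_zero (w : IM l → F) :
    tmFun θ θ' w (Sum.inl 0) = w (Sum.inr 0) + θ * w (Sum.inr 1) := rfl

theorem tmFun_inr_zero (w : IM l → F) :
    tmFun θ θ' w (Sum.inr 0) = w (Sum.inr 0) + θ' * w (Sum.inr 1) := rfl

theorem tmFun_inl_succ (w : IM l → F) (i : Fin l) :
    tmFun θ θ' w (Sum.inl i.succ) = w (Sum.inl (Sum.inl i)) := rfl

theorem tmFun_inr_succ (w : IM l → F) (i : Fin l) :
    tmFun θ θ' w (Sum.inr i.succ) = w (Sum.inl (Sum.inr i)) := rfl

/-- the backward map -/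
def tmInv (u : Fin (l + 1) ⊕ Fin (l + 1) → F) : IM l → F :=
  Sum.elim (Sum.elim (fun i => u (Sum.inl i.succ)) (fun i => u (Sum.inr i.succ)))
    ![u (Sum.inl 0) - θ * ((u (Sum.inl 0) - u (Sum.inr 0)) / (θ - θ')),
      (u (Sum.inl 0) - u (Sum.inr 0)) / (θ - θ')]

theorem tmInv_inr_zero (u : Fin (l + 1) ⊕ Fin (l + 1) → F) :
    tmInv θ θ' u (Sum.inr 0) =
      u (Sum.inl 0) - θ * ((u (Sum.inl 0) - u (Sum.inr 0)) / (θ - θ')) := rfl

theorem tmInv_inr_one (u : Fin (l + 1) ⊕ Fin (l + 1) → F) :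
    tmInv θ θ' u (Sum.inr 1) = (u (Sum.inl 0) - u (Sum.inr 0)) / (θ - θ') := rfl

theorem tmInv_inl_inl (u : Fin (l + 1) ⊕ Fin (l + 1) → F) (i : Fin l) :
    tmInv θ θ' u (Sum.inl (Sum.inl i)) = u (Sum.inl i.succ) := rfl

theorem tmInv_inl_inr (u : Fin (l + 1) ⊕ Fin (l + 1) → F) (i : Fin l) :
    tmInv θ θ' u (Sum.inl (Sum.inr i)) = u (Sum.inr i.succ) := rfl

/-- extensionality for vectors on `Fin (l+1) ⊕ Fin (l+1)` -/
theorem ext_IP {u u' : Fin (l + 1) ⊕ Fin (l + 1) → F} (h1 : u (Sum.inl 0) = u' (Sum.inl 0))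
    (h2 : u (Sum.inr 0) = u' (Sum.inr 0)) (h3 : ∀ i : Fin l, u (Sum.inl i.succ) = u' (Sum.inl i.succ))
    (h4 : ∀ i : Fin l, u (Sum.inr i.succ) = u' (Sum.inr i.succ)) : u = u' := by
  funext j
  rcases j with j | j
  · refine Fin.cases h1 h3 j
  · refine Fin.cases h2 h4 j

/-- extensionality for vectors on `IM l` -/
theorem ext_IM {w w' : IM l → F} (h1 : w (Sum.inr 0) = w' (Sum.inr 0))
    (h2 : w (Sum.inr 1) = w' (Sum.inr 1))
    (h3 : ∀ i : Fin l, w (Sum.inl (Sum.inl i)) = w' (Sum.inl (Sum.inl i)))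
    (h4 : ∀ i : Fin l, w (Sum.inl (Sum.inr i)) = w' (Sum.inl (Sum.inr i))) : w = w' := by
  funext j
  rcases j with (j | j) | j
  · exact h3 j
  · exact h4 j
  · fin_cases j
    · exact h1
    · exact h2

variable (hne : θ ≠ θ')

include hne in
theorem tmInv_tmFun (w : IM l → F) : tmInv θ θ' (tmFun θ θ' w) = w := by
  have h0 : θ - θ' ≠ 0 := sub_ne_zero.2 hne
  apply ext_IM
  · rw [tmInv_inr_zero, tmFun_inl_zero, tmFun_inr_zero]
    field_simp
    ring
  · rw [tmInv_inr_one, tmFun_inl_zero, tmFun_inr_zero]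
    field_simp
    ring
  · intro i
    rfl
  · intro i
    rfl

include hne in
theorem tmFun_tmInv (u : Fin (l + 1) ⊕ Fin (l + 1) → F) : tmFun θ θ' (tmInv θ θ' u) = u := by
  have h0 : θ - θ' ≠ 0 := sub_ne_zero.2 hne
  apply ext_IP
  · rw [tmFun_inl_zero, tmInv_inr_zero, tmInv_inr_one]
    ring
  · rw [tmFun_inr_zero, tmInv_inr_zero, tmInv_inr_one]
    field_simp
    ring
  · intro i
    rfl
  · intro i
    rfl

/-- the model map as a linear equivalence -/
def TM : (IM l → F) ≃ₗ[F] (Fin (l + 1) ⊕ Fin (l + 1) → F) where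
  toFun := tmFun θ θ'
  invFun := tmInv θ θ'
  map_add' w w' := by
    apply ext_IP
    · simp only [tmFun_inl_zero, Pi.add_apply]
      ring
    · simp only [tmFun_inr_zero, Pi.add_apply]
      ring
    · intro i
      rfl
    · intro i
      rfl
  map_smul' c w := by
    apply ext_IP
    · simp only [tmFun_inl_zero, Pi.smul_apply, smul_eq_mul, RingHom.id_apply]
      ring
    · simp only [tmFun_inr_zero, Pi.smul_apply, smul_eq_mul, RingHom.id_apply]
      ring
    · intro i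
      rfl
    · intro i
      rfl
  left_inv := tmInv_tmFun θ θ' hne
  right_inv := tmFun_tmInv θ θ' hne

theorem TM_apply (w : IM l → F) : TM θ θ' hne w = tmFun θ θ' w := rfl

theorem TM_symm_apply (u : Fin (l + 1) ⊕ Fin (l + 1) → F) :
    (TM θ θ' hne).symm u = tmInv θ θ' u := rfl

/-- the model map is an isometry from the minus-type form with split binary part -/
theorem TM_form (w : IM l → F) :
    Cfsg.quadFormPlus (l + 1) F (TM θ θ' hne w) =
      Cfsg.quadFormMinus l F (θ + θ') (θ * θ') w := by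
  unfold Cfsg.quadFormPlus Cfsg.quadFormMinus
  rw [Fin.sum_univ_succ, TM_apply]
  simp only [tmFun_inl_zero, tmFun_inr_zero, tmFun_inl_succ, tmFun_inr_succ]
  ring

end model

section refl

variable {F : Type u} [Field F] [Fintype F] {l : ℕ}

/-- the vector `e₀ - f₀` -/
def vGF : Fin (l + 1) ⊕ Fin (l + 1) → F :=
  Pi.single (Sum.inl 0) 1 - Pi.single (Sum.inr 0) 1

theorem Q_vGF : Cfsg.quadFormPlus (l + 1) F (vGF (F := F) (l := l)) = -1 := by
  unfold Cfsg.quadFormPlus vGF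
  rw [Finset.sum_eq_single (0 : Fin (l + 1))]
  · simp
  · intro i _ hi
    simp [Pi.single_apply, hi]
  · intro h
    exact absurd (Finset.mem_univ _) h

theorem Q_vGF_ne : Cfsg.quadFormPlus (l + 1) F (vGF (F := F) (l := l)) ≠ 0 := by
  rw [Q_vGF]
  exact neg_ne_zero.2 one_ne_zero

theorem vmap_vGF (σ : RingAut F) : vmap σ (vGF (F := F) (l := l)) = vGF := by
  funext i
  unfold vmap vGF
  simp only [Pi.sub_apply, Pi.single_apply, map_sub]
  split_ifs <;> simp

/-- the reflection in `e₀ - f₀` interchanges the coordinates `e₀`, `f₀` -/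
theorem act_rf_vGF (u : Fin (l + 1) ⊕ Fin (l + 1) → F) :
    act (rf hQP (vGF (F := F) (l := l))) u =
      fun j => u (Equiv.swap (Sum.inl 0) (Sum.inr 0) j) := by
  rw [act_rf hQP _ Q_vGF_ne, Q_vGF]
  have hp : pol (Cfsg.quadFormPlus (l + 1) F) u vGF = u (Sum.inr 0) - u (Sum.inl 0) := by
    unfold vGF
    rw [pol_sub_right hQP, plus_pol_single_inl, plus_pol_single_inr]
  rw [hp]
  apply ext_IP
  · rw [Equiv.swap_apply_left]
    simp [vGF]
  · rw [Equiv.swap_apply_right]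
    simp [vGF]
  · intro i
    have h1 : (Sum.inl i.succ : Fin (l + 1) ⊕ Fin (l + 1)) ≠ Sum.inl 0 := by
      intro h
      exact Fin.succ_ne_zero i (Sum.inl.inj h)
    have h2 : (Sum.inl i.succ : Fin (l + 1) ⊕ Fin (l + 1)) ≠ Sum.inr 0 := by
      intro h
      cases h
    rw [Equiv.swap_apply_of_ne_of_ne h1 h2]
    simp [vGF, h1, h2]
  · intro i
    have h1 : (Sum.inr i.succ : Fin (l + 1) ⊕ Fin (l + 1)) ≠ Sum.inl 0 := by
      intro h
      cases h
    have h2 : (Sum.inr i.succ : Fin (l + 1) ⊕ Fin (l + 1)) ≠ Sum.inr 0 := by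
      intro h
      exact Fin.succ_ne_zero i (Sum.inr.inj h)
    rw [Equiv.swap_apply_of_ne_of_ne h1 h2]
    simp [vGF, h1, h2]

variable (θ θ' : F) (hne : θ ≠ θ') (σ : RingAut F) (hθ : σ θ = θ') (hθ' : σ θ' = θ)

include hθ hθ' in
/-- the model map intertwines the Frobenius with the twisted Frobenius -/
theorem TM_twist (w : IM l → F) :
    act (rfS (vGF (F := F) (l := l))).1 (vmap σ (TM θ θ' hne w)) = TM θ θ' hne (vmap σ w) := by
  show act (rf hQP vGF) _ = _
  rw [act_rf_vGF]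
  apply ext_IP
  · rw [Equiv.swap_apply_left, TM_apply, TM_apply, tmFun_inl_zero]
    show σ (tmFun θ θ' w (Sum.inr 0)) = _
    rw [tmFun_inr_zero, map_add, map_mul, hθ']
    rfl
  · rw [Equiv.swap_apply_right, TM_apply, TM_apply, tmFun_inr_zero]
    show σ (tmFun θ θ' w (Sum.inl 0)) = _
    rw [tmFun_inl_zero, map_add, map_mul, hθ]
    rfl
  · intro i
    have h1 : (Sum.inl i.succ : Fin (l + 1) ⊕ Fin (l + 1)) ≠ Sum.inl 0 := by
      intro h
      exact Fin.succ_ne_zero i (Sum.inl.inj h)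
    have h2 : (Sum.inl i.succ : Fin (l + 1) ⊕ Fin (l + 1)) ≠ Sum.inr 0 := by
      intro h
      cases h
    rw [Equiv.swap_apply_of_ne_of_ne h1 h2]
    rfl
  · intro i
    have h1 : (Sum.inr i.succ : Fin (l + 1) ⊕ Fin (l + 1)) ≠ Sum.inl 0 := by
      intro h
      cases h
    have h2 : (Sum.inr i.succ : Fin (l + 1) ⊕ Fin (l + 1)) ≠ Sum.inr 0 := by
      intro h
      exact Fin.succ_ne_zero i (Sum.inr.inj h)
    rw [Equiv.swap_apply_of_ne_of_ne h1 h2]
    rfl

end refl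

end Cfsg.Agent.Lib.H7AutPM
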