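import Cfsg.Agent.Lib.Helper7.AutPM.SplitFour
import Mathlib

/-!
# Class splitting of the involutory graph-field automorphism of `PΩ⁺_{2m}(q)`, `q` odd (helper7)
-/

set_option autoImplicit false
set_option linter.unusedSectionVars false
set_option linter.style.haveILetI false

namespace Cfsg.Agent.Lib.H7AutPM

open Matrix Cfsg Cfsg.Agent.Lib.H7AutPSp Cfsg.Agent.Lib.H7AutPO Cfsg.Agent.Lib.H7AutPSL
  Cfsg.Agent.Lib.Helper5.OrthAut Cfsg.Agent.H9.Orth Cfsg.Agent.Lib.Helper5.OrthSN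
  Cfsg.Agent.Lib.Helper5.OrthPar Cfsg.Agent.Lib.Helper5.OrthCls Cfsg.Agent.Lib.Helper5.OrthPM

universe u v

section basechange

variable {F : Type u} [Field F] {F₀ : Type v} [Field F₀] (f : F₀ →+* F)

theorem map_blockGL {ι₁ ι₂ : Type} [Fintype ι₁] [DecidableEq ι₁] [Fintype ι₂] [DecidableEq ι₂]
    (a : GL ι₁ F₀) (b : GL ι₂ F₀) :
    Matrix.GeneralLinearGroup.map f (blockGL a b) =
      blockGL (Matrix.GeneralLinearGroup.map f a) (Matrix.GeneralLinearGroup.map f b) := by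
  apply Units.ext
  show (blockGL a b).val.map f = _
  rw [blockGL_val, blockGL_val, Matrix.fromBlocks_map, Matrix.map_zero _ (map_zero f),
    Matrix.map_zero _ (map_zero f)]
  rfl

theorem map_minusMat (a b w₁ w₂ : F₀) (hw : w₁ ^ 2 + a * w₁ * w₂ + b * w₂ ^ 2 ≠ 0)
    (hw' : f w₁ ^ 2 + f a * f w₁ * f w₂ + f b * f w₂ ^ 2 ≠ 0) :
    Matrix.GeneralLinearGroup.map f (minusMat a b w₁ w₂ hw) =
      minusMat (f a) (f b) (f w₁) (f w₂) hw' := by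
  apply Units.ext
  show (!![w₁, -b * w₂; w₂, w₁ + a * w₂] : Matrix (Fin 2) (Fin 2) F₀).map f =
    !![f w₁, -f b * f w₂; f w₂, f w₁ + f a * f w₂]
  ext i j
  fin_cases i <;> fin_cases j <;> simp

theorem map_eMinus (l : ℕ) (a b w₁ w₂ : F₀) (hw : w₁ ^ 2 + a * w₁ * w₂ + b * w₂ ^ 2 ≠ 0)
    (hw' : f w₁ ^ 2 + f a * f w₁ * f w₂ + f b * f w₂ ^ 2 ≠ 0) :
    Matrix.GeneralLinearGroup.map f (eMinus l a b w₁ w₂ hw) =
      eMinus l (f a) (f b) (f w₁) (f w₂) hw' := by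
  unfold eMinus
  rw [map_blockGL, map_blockGL, map_minusMat f a b w₁ w₂ hw hw', map_one, map_scalarGL]
  congr 2
  apply Units.ext
  show (_ • (1 : Matrix (Fin l) (Fin l) F)) = _ • (1 : Matrix (Fin l) (Fin l) F)
  rw [map_add, map_add, map_mul, map_mul, map_mul, map_pow, map_pow]

/-- base change of a reflection -/
theorem map_rf_gen {κ : Type} [Fintype κ] [DecidableEq κ] {Q₀ : (κ → F₀) → F₀}
    {Q' : (κ → F) → F} (hQ₀ : Cfsg.Geo.IsNondegenerateQuadraticForm Q₀)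
    (hQ' : Cfsg.Geo.IsNondegenerateQuadraticForm Q')
    (hcompat : ∀ v : κ → F₀, Q' (f ∘ v) = f (Q₀ v))
    (x : κ → F₀) (hx : Q₀ x ≠ 0) :
    Matrix.GeneralLinearGroup.map f (rf hQ₀ x) = rf hQ' (f ∘ x) := by
  have hx' : Q' (f ∘ x) ≠ 0 := by
    rw [hcompat]
    intro h
    exact hx (f.injective (by rw [h, map_zero]))
  apply Units.ext
  ext i j
  have h1 : (Matrix.GeneralLinearGroup.map f (rf hQ₀ x)).val *ᵥ (Pi.single j 1) =
      (rf hQ' (f ∘ x)).val *ᵥ (Pi.single j 1) := by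
    have e1 := act_map f (rf hQ₀ x) (Pi.single j 1)
    rw [← single_comp f j] at e1
    have e2 : act (Matrix.GeneralLinearGroup.map f (rf hQ₀ x)) (Pi.single j 1) =
        (Matrix.GeneralLinearGroup.map f (rf hQ₀ x)).val *ᵥ (Pi.single j 1) := rfl
    rw [← e2, e1, act_rf hQ₀ x hx]
    have e3 : (rf hQ' (f ∘ x)).val *ᵥ (Pi.single j 1) =
        act (rf hQ' (f ∘ x)) (Pi.single j 1) := rfl
    rw [e3, act_rf hQ' _ hx', single_comp f j, pol_comp f hcompat, hcompat]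
    funext k
    simp only [Function.comp_apply, Pi.sub_apply, Pi.smul_apply, smul_eq_mul, map_sub, map_mul,
      map_inv₀]
  have h2 := congrFun h1 i
  rw [Matrix.mulVec_single_one, Matrix.mulVec_single_one] at h2
  exact h2

end basechange

section diagact

variable {F : Type u} [Field F] {l : ℕ} (θ θ' : F) (hne : θ ≠ θ')

/-- the diagonal entries of the image of `eMinus` in the model -/
def dE (W₁ W₂ : F) : Fin (l + 1) ⊕ Fin (l + 1) → F :=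
  Sum.elim (Fin.cons (W₁ + θ * W₂) (fun _ => (W₁ + θ * W₂) * (W₁ + θ' * W₂)))
    (Fin.cons (W₁ + θ' * W₂) (fun _ => 1))

/-- in the model, `eMinus` acts diagonally -/
theorem act_conjL_eMinus (a b : F) (ha : θ + θ' = a) (hb : θ * θ' = b) (W₁ W₂ : F)
    (hW : W₁ ^ 2 + a * W₁ * W₂ + b * W₂ ^ 2 ≠ 0) (u : Fin (l + 1) ⊕ Fin (l + 1) → F) :
    act (conjL (TM θ θ' hne) (eMinus l a b W₁ W₂ hW)) u =
      fun j => dE (l := l) θ θ' W₁ W₂ j * u j := by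
  subst ha hb
  obtain ⟨w, rfl⟩ := (TM θ θ' hne).surjective u
  rw [act_conjL_apply, act_eMinus]
  apply ext_IP
  · rw [TM_apply, TM_apply, tmFun_inl_zero, tmFun_inl_zero]
    simp only [Sum.elim_inr, Matrix.cons_val_zero, Matrix.cons_val_one, dE, Sum.elim_inl,
      Fin.cons_zero]
    ring
  · rw [TM_apply, TM_apply, tmFun_inr_zero, tmFun_inr_zero]
    simp only [Sum.elim_inr, Matrix.cons_val_zero, Matrix.cons_val_one, dE, Sum.elim_inl,
      Fin.cons_zero]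
    ring
  · intro i
    rw [TM_apply, TM_apply, tmFun_inl_succ, tmFun_inl_succ]
    simp only [Sum.elim_inl, Pi.smul_apply, Function.comp_apply, smul_eq_mul, dE, Fin.cons_succ]
    ring
  · intro i
    rw [TM_apply, TM_apply, tmFun_inr_succ, tmFun_inr_succ]
    simp only [Sum.elim_inl, Sum.elim_inr, Function.comp_apply, dE, Fin.cons_succ, one_mul]

end diagact

section split

variable {F : Type u} [Field F] [Fintype F] {F₀ : Type v} [Field F₀] [Fintype F₀]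
  (ι : F₀ →+* F) {l : ℕ} (a₀ b₀ : F₀) (θ θ' : F) (hne : θ ≠ θ')
  (ha : θ + θ' = ι a₀) (hb : θ * θ' = ι b₀)

include ι in
theorem nondeg_push_minus (h2 : (2 : F) ≠ 0)
    (hab₀ : ∀ z₁ z₂ : F₀, z₁ ^ 2 + a₀ * z₁ * z₂ + b₀ * z₂ ^ 2 = 0 → z₁ = 0 ∧ z₂ = 0) :
    Cfsg.Geo.IsNondegenerateQuadraticForm (Cfsg.quadFormMinus l F (ι a₀) (ι b₀)) := by
  have h2₀ : (2 : F₀) ≠ 0 := fun h => h2 ((two_eq_zero_base_iff ι).1 h)
  apply quadFormMinus_nondeg
  have := disc_ne_zero h2₀ a₀ b₀ hab₀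
  intro h
  apply this
  apply ι.injective
  rw [map_sub, map_mul, map_pow, map_ofNat, h, map_zero]

variable (hl : 3 ≤ l)
  (hab₀ : ∀ z₁ z₂ : F₀, z₁ ^ 2 + a₀ * z₁ * z₂ + b₀ * z₂ ^ 2 = 0 → z₁ = 0 ∧ z₂ = 0)
  (h2 : (2 : F) ≠ 0) (hcard : Fintype.card F = Fintype.card F₀ ^ 2)

include ha hb hab₀ h2 hcard in
/-- the image of a product of `F₀`-reflections has trivial spinor norm -/
theorem spin_gf_list (xs : List (IM l → F₀))
    (hxs : ∀ x ∈ xs, Cfsg.quadFormMinus l F₀ a₀ b₀ x ≠ 0) :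
    spin (Cfsg.quadFormPlus (l + 1) F) (conjL (TM θ θ' hne)
      (Matrix.GeneralLinearGroup.map ι (xs.map (rf (hQM a₀ b₀ hab₀))).prod)) := by
  have hQ₀ := hQM (m := l) a₀ b₀ hab₀
  have hQ' := nondeg_push_minus (l := l) ι a₀ b₀ h2 hab₀
  have hTQ := TM_form' (l := l) ι a₀ b₀ θ θ' hne ha hb
  have hoddF : Odd (Fintype.card F) := by
    by_contra hev
    rw [Nat.not_odd_iff_even] at hev
    exact h2 (two_eq_zero_of_even_card hev)
  have hgen : Cfsg.isometryGroup F (Cfsg.quadFormPlus (l + 1) F) ≤ RR hQP :=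
    iso_le_RR hQP (Or.inl (card_ne_two_of_odd_card hoddF))
  induction xs with
  | nil =>
    rw [List.map_nil, List.prod_nil, map_one, map_one]
    exact spin_one
  | cons x xs ih =>
    have hx : Cfsg.quadFormMinus l F₀ a₀ b₀ x ≠ 0 := hxs x List.mem_cons_self
    have hxs' : ∀ y ∈ xs, Cfsg.quadFormMinus l F₀ a₀ b₀ y ≠ 0 :=
      fun y hy => hxs y (List.mem_cons_of_mem x hy)
    have hmem1 : conjL (TM θ θ' hne) (Matrix.GeneralLinearGroup.map ι (rf hQ₀ x)) ∈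
        Cfsg.isometryGroup F (Cfsg.quadFormPlus (l + 1) F) :=
      conjL_mem_iso _ hTQ _ (map_mem_iso ι a₀ b₀ _ (rf_mem hQ₀ x))
    have hmem2 : conjL (TM θ θ' hne)
        (Matrix.GeneralLinearGroup.map ι (xs.map (rf hQ₀)).prod) ∈
        Cfsg.isometryGroup F (Cfsg.quadFormPlus (l + 1) F) :=
      conjL_mem_iso _ hTQ _ (map_mem_iso ι a₀ b₀ _ (prod_rf_mem hQ₀ xs))
    rw [List.map_cons, List.prod_cons, map_mul, map_mul, spin_mul_iff hQP hgen _ _ hmem1 hmem2]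
    have h1 : spin (Cfsg.quadFormPlus (l + 1) F)
        (conjL (TM θ θ' hne) (Matrix.GeneralLinearGroup.map ι (rf hQ₀ x))) := by
      have hx' : Cfsg.quadFormMinus l F (ι a₀) (ι b₀) (ι ∘ x) ≠ 0 := by
        have := quadFormMinus_vpush ι l a₀ b₀ x
        rw [show vpush ι x = ι ∘ x from rfl] at this
        rw [this]
        exact (map_ne_zero ι).2 hx
      rw [map_rf_gen ι hQ₀ hQ' (fun v => quadFormMinus_vpush ι l a₀ b₀ v) x hx,
        conjL_rf _ hTQ hQP hQ' _ hx']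
      have hx'' : Cfsg.quadFormPlus (l + 1) F (TM θ θ' hne (ι ∘ x)) ≠ 0 := by
        rw [hTQ]
        exact hx'
      rw [spin_rf hQP _ hx'', hTQ]
      have := quadFormMinus_vpush ι l a₀ b₀ x
      rw [show vpush ι x = ι ∘ x from rfl] at this
      rw [this, ← map_neg]
      exact isSquare_of_card_sq h2 ι hcard _
    exact iff_of_true h1 (ih hxs')

include ha hb hab₀ h2 hcard hl in
/-- **Claim A**: similarities over `F₀` with square multiplier inducing inner-diagonal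
automorphisms go to inner automorphisms -/
theorem gfHom_mem_inn_of_sq
    (k₀ : ↥(Cfsg.Geo.quadSimilarityGroup (F := F₀) (Cfsg.quadFormMinus l F₀ a₀ b₀)))
    (hk₀ : DhO _ k₀ ∈ Cfsg.inndiagPOmegaMinus l F₀ a₀ b₀) (hsq : IsSquare (mu k₀ : F₀)) :
    DhO _ (gfHom ι a₀ b₀ θ θ' hne ha hb k₀) ∈
      Cfsg.Inn (Cfsg.POmega F (Cfsg.quadFormPlus (l + 1) F)) := by
  haveI : Nonempty (IM l) := ⟨Sum.inr 0⟩
  haveI : Nonempty (Fin (l + 1) ⊕ Fin (l + 1)) := ⟨Sum.inl 0⟩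
  have hQ₀ := hQM (m := l) a₀ b₀ hab₀
  have hTQ := TM_form' (l := l) ι a₀ b₀ θ θ' hne ha hb
  have h2₀ : (2 : F₀) ≠ 0 := fun h => h2 ((two_eq_zero_base_iff ι).1 h)
  have hodd₀ := odd_card_of_two_ne_zero hl hab₀ h2₀
  have hoddF : Odd (Fintype.card F) := by
    by_contra hev
    rw [Nat.not_odd_iff_even] at hev
    exact h2 (two_eq_zero_of_even_card hev)
  have hgen : Cfsg.isometryGroup F (Cfsg.quadFormPlus (l + 1) F) ≤ RR hQP :=
    iso_le_RR hQP (Or.inl (card_ne_two_of_odd_card hoddF))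
  have hgen₀ : Cfsg.isometryGroup F₀ (Cfsg.quadFormMinus l F₀ a₀ b₀) ≤ RR hQ₀ :=
    iso_le_RR hQ₀ (Or.inl (card_ne_two_of_odd_card hodd₀))
  obtain ⟨c₀, hc₀⟩ := hsq
  obtain ⟨hc0, g', hg', e⟩ := exists_scalar_mul_iso hQ₀ k₀ c₀ hc₀
  -- `det g' = 1`
  have hchi := (mem_inndiag_iff_odd hl hab₀ hodd₀ k₀).1 hk₀
  rw [chiDet_eq_one_iff] at hchi
  have hdet : (g' : Matrix (IM l) (IM l) F₀).det = 1 := by
    have h3 : ((k₀ : GL (IM l) F₀) : Matrix (IM l) (IM l) F₀).det =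
        c₀ ^ Fintype.card (IM l) * (g' : Matrix (IM l) (IM l) F₀).det := by
      rw [e, Units.val_mul, Matrix.det_mul, det_scalarGL]
    rw [h3, hc₀, card_IM] at hchi
    have h4 : c₀ ^ (2 * (l + 1)) ≠ 0 := pow_ne_zero _ hc0
    have h5 : c₀ ^ (2 * (l + 1)) * (g' : Matrix (IM l) (IM l) F₀).det =
        c₀ ^ (2 * (l + 1)) * 1 := by
      rw [hchi, mul_one, ← pow_two, ← pow_mul]
    exact mul_left_cancel₀ h4 h5
  have hpar : par g' := (par_iff_det hQ₀ h2₀ hgen₀ g' hg').2 hdet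
  obtain ⟨xs, hxs, hxsg⟩ := exists_list hQ₀ hgen₀ g' hg'
  have hs_iso : conjL (TM θ θ' hne) (Matrix.GeneralLinearGroup.map ι g') ∈
      Cfsg.isometryGroup F (Cfsg.quadFormPlus (l + 1) F) :=
    conjL_mem_iso _ hTQ _ (map_mem_iso ι a₀ b₀ g' hg')
  have hs_par : par (conjL (TM θ θ' hne) (Matrix.GeneralLinearGroup.map ι g')) := by
    rw [par_conjL, par_map]
    exact hpar
  have hs_spin : spin (Cfsg.quadFormPlus (l + 1) F)
      (conjL (TM θ θ' hne) (Matrix.GeneralLinearGroup.map ι g')) := by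
    rw [hxsg]
    exact spin_gf_list ι a₀ b₀ θ θ' hne ha hb hab₀ h2 hcard xs hxs
  have hω : (⟨conjL (TM θ θ' hne) (Matrix.GeneralLinearGroup.map ι g'), hs_iso⟩ :
      ↥(Cfsg.isometryGroup F (Cfsg.quadFormPlus (l + 1) F))) ∈
      Cfsg.Omega F (Cfsg.quadFormPlus (l + 1) F) :=
    (mem_omega_iff hQP h2 hgen _).2 ⟨hs_par, hs_spin⟩
  have e' : gfHom ι a₀ b₀ θ θ' hne ha hb k₀ =
      (⟨scalarGL (ι c₀) ((map_ne_zero ι).2 hc0),
        scalarGL_mem_GO hQP (ι c₀) ((map_ne_zero ι).2 hc0)⟩ :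
        ↥(Cfsg.Geo.quadSimilarityGroup (F := F) (Cfsg.quadFormPlus (l + 1) F))) *
      ⟨conjL (TM θ θ' hne) (Matrix.GeneralLinearGroup.map ι g'), iso_le_sim _ hs_iso⟩ := by
    apply Subtype.ext
    rw [gfHom_coe, e, map_mul, map_scalarGL, map_mul, conjL_scalarGL]
    rfl
  rw [e', map_mul, DhO_scalarG hQP, one_mul]
  exact DhO_mem_inn_of_omega _ hs_iso hω

end split

section nonsq

variable {K : Type v} [Field K] [Fintype K]

/-- an anisotropic binary form over a finite field of odd order represents a non-square -/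
theorem exists_norm_nonsquare (h2 : (2 : K) ≠ 0) (a b : K)
    (hab : ∀ z₁ z₂ : K, z₁ ^ 2 + a * z₁ * z₂ + b * z₂ ^ 2 = 0 → z₁ = 0 ∧ z₂ = 0) :
    ∃ w₁ w₂ : K, ¬ IsSquare (w₁ ^ 2 + a * w₁ * w₂ + b * w₂ ^ 2) := by
  classical
  have hchar : ringChar K ≠ 2 := ringChar_ne_two_of_two_ne_zero h2
  obtain ⟨ν, hν⟩ := FiniteField.exists_nonsquare hchar
  have hQ0 := Cfsg.Agent.H9.Orth.isNondeg_quadFormMinus (F := K) 0 a b hab
  obtain ⟨x, hx⟩ := Cfsg.Agent.Lib.Helper5.OrthUniv.exists_norm_eq hQ0 h2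
    (by simp [Fintype.card_sum]) ν
  unfold Cfsg.quadFormMinus at hx
  simp only [Finset.univ_eq_empty, Finset.sum_empty, zero_add] at hx
  exact ⟨x (Sum.inr 0), x (Sum.inr 1), by rw [hx]; exact hν⟩

theorem isSquare_pow_iff (κ : K) (hκ : κ ≠ 0) (n : ℕ) :
    IsSquare (κ ^ n) ↔ Even n ∨ IsSquare κ := by
  constructor
  · intro h
    rcases Nat.even_or_odd n with he | ho
    · exact Or.inl he
    · right
      obtain ⟨t, rfl⟩ := ho
      have e : κ ^ (2 * t + 1) = (κ ^ t * κ ^ t) * κ := by ring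
      rw [e, isSquare_mul_iff (mul_ne_zero (pow_ne_zero _ hκ) (pow_ne_zero _ hκ)) hκ] at h
      exact h.1 ⟨_, rfl⟩
  · rintro (he | hs)
    · exact he.isSquare_pow κ
    · exact hs.pow n

end nonsq

section claimB

variable {F : Type u} [Field F] [Fintype F] {F₀ : Type v} [Field F₀] [Fintype F₀]
  (ι : F₀ →+* F) {l : ℕ} (a₀ b₀ : F₀) (θ θ' : F) (hne : θ ≠ θ')
  (ha : θ + θ' = ι a₀) (hb : θ * θ' = ι b₀)
  (hl : 3 ≤ l)
  (hab₀ : ∀ z₁ z₂ : F₀, z₁ ^ 2 + a₀ * z₁ * z₂ + b₀ * z₂ ^ 2 = 0 → z₁ = 0 ∧ z₂ = 0)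
  (h2 : (2 : F) ≠ 0) (hcard : Fintype.card F = Fintype.card F₀ ^ 2)
  (σ : RingAut F) (hθ : σ θ = θ') (hσ2 : σ * σ = 1)
  (hι : ∀ t : F, σ t = t ↔ ∃ s, ι s = t)

/-- the similarity `eMinus` over `F₀` -/
noncomputable def eSim (w₁ w₂ : F₀) (hw : w₁ ^ 2 + a₀ * w₁ * w₂ + b₀ * w₂ ^ 2 ≠ 0) :
    ↥(Cfsg.Geo.quadSimilarityGroup (F := F₀) (Cfsg.quadFormMinus l F₀ a₀ b₀)) :=
  ⟨eMinus l a₀ b₀ w₁ w₂ hw, (mem_sim_iff _ _).2 ⟨Units.mk0 _ hw, eMinus_sim l a₀ b₀ w₁ w₂ hw⟩⟩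

include hab₀ in
theorem mu_eSim (w₁ w₂ : F₀) (hw : w₁ ^ 2 + a₀ * w₁ * w₂ + b₀ * w₂ ^ 2 ≠ 0) :
    (mu (eSim (l := l) a₀ b₀ w₁ w₂ hw) : F₀) = w₁ ^ 2 + a₀ * w₁ * w₂ + b₀ * w₂ ^ 2 := by
  haveI : Nonempty (IM l) := ⟨Sum.inr 0⟩
  exact mu_unique (hQM a₀ b₀ hab₀) _ _ (eMinus_sim l a₀ b₀ w₁ w₂ hw)

include hl hab₀ in
theorem eSim_mem_inndiag (h2₀ : (2 : F₀) ≠ 0) (w₁ w₂ : F₀)
    (hw : w₁ ^ 2 + a₀ * w₁ * w₂ + b₀ * w₂ ^ 2 ≠ 0) :
    DhO _ (eSim (l := l) a₀ b₀ w₁ w₂ hw) ∈ Cfsg.inndiagPOmegaMinus l F₀ a₀ b₀ := by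
  haveI : Nonempty (IM l) := ⟨Sum.inr 0⟩
  have hodd₀ := odd_card_of_two_ne_zero hl hab₀ h2₀
  rw [mem_inndiag_iff_odd hl hab₀ hodd₀, chiDet_eq_one_iff, mu_eSim a₀ b₀ hab₀]
  exact det_eMinus l a₀ b₀ w₁ w₂ hw

include ha hb hab₀ h2 hcard hl hθ hσ2 hι in
set_option maxHeartbeats 1600000 in
/-- **Claim B**: the image of `eMinus` with non-square norm is inner iff `l` is even and
`|F₀| ≡ 1 (mod 4)` -/
theorem gfHom_eSim_mem_inn_iff (w₁ w₂ : F₀)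
    (hw : w₁ ^ 2 + a₀ * w₁ * w₂ + b₀ * w₂ ^ 2 ≠ 0)
    (hν : ¬ IsSquare (w₁ ^ 2 + a₀ * w₁ * w₂ + b₀ * w₂ ^ 2)) :
    DhO _ (gfHom ι a₀ b₀ θ θ' hne ha hb (eSim (l := l) a₀ b₀ w₁ w₂ hw)) ∈
      Cfsg.Inn (Cfsg.POmega F (Cfsg.quadFormPlus (l + 1) F)) ↔
      (Even l ∧ Fintype.card F₀ % 4 = 1) := by
  haveI : Nonempty (IM l) := ⟨Sum.inr 0⟩
  haveI : Nonempty (Fin (l + 1) ⊕ Fin (l + 1)) := ⟨Sum.inl 0⟩
  have hTQ := TM_form' (l := l) ι a₀ b₀ θ θ' hne ha hb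
  have hoddF : Odd (Fintype.card F) := by
    by_contra hev
    rw [Nat.not_odd_iff_even] at hev
    exact h2 (two_eq_zero_of_even_card hev)
  have hodd₀ : Odd (Fintype.card F₀) := by
    rw [hcard] at hoddF
    exact Nat.Odd.of_mul_right (by rw [← pow_two]; exact hoddF)
  have hF4 : Fintype.card F % 4 = 1 := by
    rw [hcard]
    exact card_sq_mod_four _ hodd₀
  have hneg := neg_one_mem_omega_plus (F := F) (m := l + 1) hoddF hF4
  obtain ⟨N₀, hN₀⟩ : ∃ N₀ : F₀, N₀ = w₁ ^ 2 + a₀ * w₁ * w₂ + b₀ * w₂ ^ 2 := ⟨_, rfl⟩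
  rw [← hN₀] at hν
  have hN₀0 : N₀ ≠ 0 := by rw [hN₀]; exact hw
  -- the element `W` of norm `N₀`
  obtain ⟨W, hW⟩ : ∃ W : F, W = ι w₁ + θ * ι w₂ := ⟨_, rfl⟩
  obtain ⟨W', hW'⟩ : ∃ W' : F, W' = ι w₁ + θ' * ι w₂ := ⟨_, rfl⟩
  have hWW : W * W' = ι N₀ := by
    rw [hW, hW', hN₀, map_add, map_add, map_mul, map_mul, map_mul, map_pow, map_pow, ← ha, ← hb]
    ring
  have hσW : σ W = W' := by
    rw [hW, hW', map_add, map_mul, hθ, (hι (ι w₁)).2 ⟨w₁, rfl⟩, (hι (ι w₂)).2 ⟨w₂, rfl⟩]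
  have hWns : ¬ IsSquare W :=
    not_isSquare_of_norm σ hσ2 ι hι N₀ hν W (by rw [hσW]; exact hWW)
  have hιN0 : ι N₀ ≠ 0 := (map_ne_zero ι).2 hN₀0
  have hW0 : W ≠ 0 := by
    rintro rfl
    rw [zero_mul] at hWW
    exact hιN0 hWW.symm
  have hW'0 : W' ≠ 0 := by
    rintro rfl
    rw [mul_zero] at hWW
    exact hιN0 hWW.symm
  obtain ⟨κ, hκ⟩ := isSquare_of_card_sq h2 ι hcard N₀
  have hκ0 : κ ≠ 0 := by
    rintro rfl
    rw [mul_zero] at hκ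
    exact hιN0 hκ
  have hκsq := isSquare_sqrt_iff h2 ι hcard N₀ hν κ hκ.symm
  -- the action of the image
  have hw' : ι w₁ ^ 2 + ι a₀ * ι w₁ * ι w₂ + ι b₀ * ι w₂ ^ 2 ≠ 0 := by
    have : ι w₁ ^ 2 + ι a₀ * ι w₁ * ι w₂ + ι b₀ * ι w₂ ^ 2 = ι N₀ := by
      rw [hN₀, map_add, map_add, map_mul, map_mul, map_mul, map_pow, map_pow]
    rw [this]
    exact hιN0
  obtain ⟨E, hE⟩ : ∃ E, E = gfHom ι a₀ b₀ θ θ' hne ha hb (eSim (l := l) a₀ b₀ w₁ w₂ hw) :=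
    ⟨_, rfl⟩
  have hEact : ∀ u, act E.1 u = fun j => dE (l := l) θ θ' (ι w₁) (ι w₂) j * u j := by
    intro u
    rw [hE, gfHom_coe]
    have : Matrix.GeneralLinearGroup.map ι (eSim (l := l) a₀ b₀ w₁ w₂ hw).1 =
        eMinus l (ι a₀) (ι b₀) (ι w₁) (ι w₂) hw' := map_eMinus ι l a₀ b₀ w₁ w₂ hw hw'
    rw [this]
    exact act_conjL_eMinus θ θ' hne (ι a₀) (ι b₀) ha hb (ι w₁) (ι w₂) hw' u
  -- the diagonal matrix
  obtain ⟨dA, hdA⟩ : ∃ dA : Fin (l + 1) → F, dA = Fin.cons (κ⁻¹ * W) (fun _ => κ) := ⟨_, rfl⟩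
  have hdA0 : ∀ k, dA k ≠ 0 := by
    intro k
    rw [hdA]
    refine Fin.cases ?_ (fun i => ?_) k
    · rw [Fin.cons_zero]
      exact mul_ne_zero (inv_ne_zero hκ0) hW0
    · rw [Fin.cons_succ]
      exact hκ0
  have hs : scalarGL κ⁻¹ (inv_ne_zero hκ0) * E.1 =
      ((plusHom F (l + 1) (diagGLn dA hdA0) :
        ↥(Cfsg.isometryGroup F (Cfsg.quadFormPlus (l + 1) F))) :
        GL (Fin (l + 1) ⊕ Fin (l + 1)) F) := by
    apply gl_ext
    intro u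
    rw [act_mul, act_scalarGL, hEact, act_plusHom_diag]
    apply ext_IP
    · simp only [Pi.smul_apply, smul_eq_mul, Sum.elim_inl, dE, Fin.cons_zero, hdA, ← hW]
      ring
    · simp only [Pi.smul_apply, smul_eq_mul, Sum.elim_inr, dE, Fin.cons_zero, hdA, ← hW, ← hW']
      have : (κ⁻¹ * W)⁻¹ = κ⁻¹ * W' := by
        rw [_root_.mul_inv_rev, inv_inv]
        field_simp
        rw [hWW, hκ, pow_two]
      rw [this]
      ring
    · intro i
      simp only [Pi.smul_apply, smul_eq_mul, Sum.elim_inl, dE, Fin.cons_succ, hdA, ← hW, ← hW']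
      rw [hWW, hκ]
      field_simp
    · intro i
      simp only [Pi.smul_apply, smul_eq_mul, Sum.elim_inr, dE, Fin.cons_succ, hdA, one_mul]
  have hs_iso : scalarGL κ⁻¹ (inv_ne_zero hκ0) * E.1 ∈
      Cfsg.isometryGroup F (Cfsg.quadFormPlus (l + 1) F) := by
    rw [hs]
    exact (plusHom F (l + 1) (diagGLn dA hdA0)).2
  have hEe : E = (⟨scalarGL κ hκ0, scalarGL_mem_GO hQP κ hκ0⟩ :
        ↥(Cfsg.Geo.quadSimilarityGroup (F := F) (Cfsg.quadFormPlus (l + 1) F))) *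
      ⟨scalarGL κ⁻¹ (inv_ne_zero hκ0) * E.1, iso_le_sim _ hs_iso⟩ := by
    apply Subtype.ext
    rw [Subgroup.coe_mul]
    show E.1 = scalarGL κ hκ0 * (scalarGL κ⁻¹ (inv_ne_zero hκ0) * E.1)
    apply gl_ext
    intro u
    rw [act_mul, act_mul, act_scalarGL, act_scalarGL, smul_smul, mul_inv_cancel₀ hκ0, one_smul]
  rw [← hE, hEe, map_mul, DhO_scalarG hQP, one_mul,
    DhO_iso_mem_inn_iff hQP (hnP (by omega)) h2 hneg _ hs_iso, hs,
    plusHom_diag_mem_omega_iff (by omega) dA hdA0]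
  -- the product of the diagonal entries
  have hprod : ∏ k, dA k = (κ⁻¹ * W) * κ ^ l := by
    rw [Fin.prod_univ_succ, hdA]
    simp only [Fin.cons_zero, Fin.cons_succ, Finset.prod_const, Finset.card_univ,
      Fintype.card_fin]
  rw [hprod, isSquare_mul_iff (mul_ne_zero (inv_ne_zero hκ0) hW0) (pow_ne_zero _ hκ0),
    isSquare_mul_iff (inv_ne_zero hκ0) hW0, isSquare_pow_iff κ hκ0, isSquare_inv]
  have h13 : Fintype.card F₀ % 4 = 1 ∨ Fintype.card F₀ % 4 = 3 := by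
    obtain ⟨k, hk⟩ := hodd₀
    omega
  constructor
  · intro h
    have hP : ¬ IsSquare κ := by
      intro hP
      have h1 : IsSquare κ ↔ IsSquare W := h.2 (Or.inr hP)
      exact hWns (h1.1 hP)
    have h1 : IsSquare κ ↔ IsSquare W :=
      ⟨fun h3 => absurd h3 hP, fun h3 => absurd h3 hWns⟩
    refine ⟨?_, ?_⟩
    · rcases h.1 h1 with h3 | h3
      · exact h3
      · exact absurd h3 hP
    · rcases h13 with h5 | h5
      · exact h5
      · exact absurd (hκsq.2 h5) hP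
  · rintro ⟨he, h1⟩
    have hP : ¬ IsSquare κ := by
      intro hP
      have := hκsq.1 hP
      omega
    exact iff_of_true ⟨fun h3 => absurd h3 hP, fun h3 => absurd h3 hWns⟩ (Or.inl he)

include hne ha hb hab₀ h2 hcard hl hθ hσ2 hι in
set_option maxHeartbeats 1600000 in
/-- **the class of the standard involutory graph-field automorphism splits into `4` or `2`** -/
theorem split_gf (hθ' : σ θ' = θ) :
    ((Even l ∧ Fintype.card F₀ % 4 = 1) →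
      Cfsg.splitClassCount (Cfsg.inndiagPOmegaPlus (l + 1) F)
        (Cfsg.Inn (Cfsg.POmega F (Cfsg.quadFormPlus (l + 1) F))) (xGF l σ) = 4) ∧
    (¬ (Even l ∧ Fintype.card F₀ % 4 = 1) →
      Cfsg.splitClassCount (Cfsg.inndiagPOmegaPlus (l + 1) F)
        (Cfsg.Inn (Cfsg.POmega F (Cfsg.quadFormPlus (l + 1) F))) (xGF l σ) = 2) := by
  haveI : Nonempty (IM l) := ⟨Sum.inr 0⟩
  haveI : Nonempty (Fin (l + 1) ⊕ Fin (l + 1)) := ⟨Sum.inl 0⟩
  haveI := innNormal (Cfsg.POmega F (Cfsg.quadFormPlus (l + 1) F))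
  have hQ₀ := hQM (m := l) a₀ b₀ hab₀
  have hm : 4 ≤ l + 1 := by omega
  have h2₀ : (2 : F₀) ≠ 0 := fun h => h2 ((two_eq_zero_base_iff ι).1 h)
  have hoddF : Odd (Fintype.card F) := by
    by_contra hev
    rw [Nat.not_odd_iff_even] at hev
    exact h2 (two_eq_zero_of_even_card hev)
  have hodd₀ : Odd (Fintype.card F₀) := by
    rw [hcard] at hoddF
    exact Nat.Odd.of_mul_right (by rw [← pow_two]; exact hoddF)
  have hF4 : Fintype.card F % 4 = 1 := by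
    rw [hcard]
    exact card_sq_mod_four _ hodd₀
  have hidx := relIndex_inn_inndiag_plus (F := F) hm hoddF hF4
  obtain ⟨w₁, w₂, hν⟩ := exists_norm_nonsquare h2₀ a₀ b₀ hab₀
  have hw : w₁ ^ 2 + a₀ * w₁ * w₂ + b₀ * w₂ ^ 2 ≠ 0 := by
    intro h
    apply hν
    rw [h]
    exact ⟨0, by ring⟩
  have he₀ := eSim_mem_inndiag (l := l) a₀ b₀ hl hab₀ h2₀ w₁ w₂ hw
  have hσsq : σ ^ 2 = 1 := by rw [pow_two]; exact hσ2
  have hσ1 : σ ≠ 1 := by
    rintro rfl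
    exact hne hθ
  have hinj : ∀ i j, i < 2 → j < 2 → σ ^ i = σ ^ j → i = j := by
    intro i j hi hj hij
    interval_cases i <;> interval_cases j
    · rfl
    · rw [pow_zero, pow_one] at hij
      exact absurd hij.symm hσ1
    · rw [pow_zero, pow_one] at hij
      exact absurd hij hσ1
    · rfl
  have hιfix : ∀ s, σ (ι s) = ι s := fun s => (hι (ι s)).2 ⟨s, rfl⟩
  obtain ⟨ec, hec⟩ : ∃ ec, ec = gfCentHom ι a₀ b₀ θ θ' hne ha hb σ hθ hθ' hl hab₀ hιfix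
    ⟨eSim (l := l) a₀ b₀ w₁ w₂ hw, he₀⟩ := ⟨_, rfl⟩
  have hecv : ec.1 = DhO _ (gfHom ι a₀ b₀ θ θ' hne ha hb (eSim (l := l) a₀ b₀ w₁ w₂ hw)) := by
    rw [hec]
    rfl
  have hmue : (mu (eSim (l := l) a₀ b₀ w₁ w₂ hw) : F₀) ≠ 0 :=
    (mu (eSim (l := l) a₀ b₀ w₁ w₂ hw)).ne_zero
  have hmuens : ¬ IsSquare (mu (eSim (l := l) a₀ b₀ w₁ w₂ hw) : F₀) := by
    rw [mu_eSim a₀ b₀ hab₀]
    exact hν
  have hall : ∀ c ∈ Cfsg.inndiagPOmegaPlus (l + 1) F ⊓ Subgroup.centralizer {xGF l σ},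
      c ∈ Cfsg.Inn (Cfsg.POmega F (Cfsg.quadFormPlus (l + 1) F)) ∨
      c * ec.1⁻¹ ∈ Cfsg.Inn (Cfsg.POmega F (Cfsg.quadFormPlus (l + 1) F)) := by
    intro c hc
    obtain ⟨⟨k₀, hk₀⟩, hk⟩ := gfCentHom_surjective ι a₀ b₀ θ θ' hne ha hb σ hθ hθ' hl hab₀ 2
      (by norm_num) hσsq hinj hι ⟨c, hc⟩
    have hcv : c = DhO _ (gfHom ι a₀ b₀ θ θ' hne ha hb k₀) := by
      have := congrArg Subtype.val hk
      rw [gfCentHom_val] at this
      exact this.symm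
    by_cases hsq : IsSquare (mu k₀ : F₀)
    · left
      rw [hcv]
      exact gfHom_mem_inn_of_sq ι a₀ b₀ θ θ' hne ha hb hl hab₀ h2 hcard k₀ hk₀ hsq
    · right
      have e1 : c * ec.1⁻¹ = DhO _ (gfHom ι a₀ b₀ θ θ' hne ha hb
          (k₀ * (eSim (l := l) a₀ b₀ w₁ w₂ hw)⁻¹)) := by
        rw [hcv, hecv, map_mul, map_mul, map_inv, map_inv]
      rw [e1]
      apply gfHom_mem_inn_of_sq ι a₀ b₀ θ θ' hne ha hb hl hab₀ h2 hcard
      · rw [map_mul, map_inv]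
        exact mul_mem hk₀ (inv_mem he₀)
      · have hmuinv : (mu ((eSim (l := l) a₀ b₀ w₁ w₂ hw)⁻¹) : F₀) =
            (mu (eSim (l := l) a₀ b₀ w₁ w₂ hw) : F₀)⁻¹ := by
          have h3 := mu_mul hQ₀ ((eSim (l := l) a₀ b₀ w₁ w₂ hw)⁻¹)
            (eSim (l := l) a₀ b₀ w₁ w₂ hw)
          rw [inv_mul_cancel, mu_one hQ₀] at h3
          have h4 := congrArg Units.val h3
          rw [Units.val_one, Units.val_mul] at h4
          exact eq_inv_of_mul_eq_one_left h4.symm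
        rw [mu_mul hQ₀, Units.val_mul, hmuinv,
          isSquare_mul_iff (mu k₀).ne_zero (inv_ne_zero hmue), isSquare_inv]
        exact ⟨fun h3 => absurd h3 hsq, fun h3 => absurd h3 hmuens⟩
  have key := splitClassCount_four_cases _ _ (inn_le_inndiag_P hm) hidx (xGF l σ) ec.1 ec.2 hall
  have hB := gfHom_eSim_mem_inn_iff ι a₀ b₀ θ θ' hne ha hb hl hab₀ h2 hcard σ hθ hσ2 hι w₁ w₂
    hw hν
  rw [← hecv] at hB
  constructor
  · intro h
    exact key.1 (hB.2 h)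
  · intro h
    exact key.2 (fun h3 => h (hB.1 h3))

end claimB

end Cfsg.Agent.Lib.H7AutPM
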