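import Cfsg.Agent.Lib.Helper7.AutPM.FPOdd
import Cfsg.Agent.Lib.Helper7.AutPO.Gram
import Cfsg.Agent.Lib.Helper5.Orth.UniversalSub
import Mathlib

/-!
# Linear algebra for involutory graph automorphisms of orthogonal groups (helper7)

* two quadratic forms in at least five variables over a finite field have a common non-trivial
  zero (Chevalley–Warning);
* a similarity `g` with `g² = μ(g)` a non-square scalar has a non-singular vector `u` with
  `B(u, g u) = 0`;
* an involutory isometry has two eigenvectors for the same eigenvalue whose norms have a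
  non-square product.
-/

set_option autoImplicit false
set_option linter.unusedSectionVars false
set_option linter.style.haveILetI false

namespace Cfsg.Agent.Lib.H7AutPM

open Matrix Cfsg Cfsg.Agent.Lib.H7AutPSp Cfsg.Agent.Lib.H7AutPO Cfsg.Agent.Lib.H7AutPSL
  Cfsg.Agent.Lib.Helper5.OrthAut Cfsg.Agent.H9.Orth Cfsg.Agent.Lib.Helper5.OrthSN
  Cfsg.Agent.Lib.Helper5.OrthPar Cfsg.Agent.Lib.Helper5.OrthCls Cfsg.Agent.Lib.Helper5.OrthPM

universe u v

section cw

variable {I : Type} [Fintype I] [DecidableEq I] {F : Type u} [Field F] [Fintype F]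

/-- the polynomial of the quadratic form `x ↦ xᵀ M x` -/
noncomputable def quadPoly (M : Matrix I I F) : MvPolynomial I F :=
  ∑ i, ∑ j, MvPolynomial.C (M i j) * MvPolynomial.X i * MvPolynomial.X j

theorem eval_quadPoly (M : Matrix I I F) (x : I → F) :
    MvPolynomial.eval x (quadPoly M) = x ⬝ᵥ (M *ᵥ x) := by
  unfold quadPoly dotProduct Matrix.mulVec dotProduct
  simp only [map_sum, map_mul, MvPolynomial.eval_C, MvPolynomial.eval_X]
  apply Finset.sum_congr rfl
  intro i _
  rw [Finset.mul_sum]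
  apply Finset.sum_congr rfl
  intro j _
  ring

theorem totalDegree_quadPoly (M : Matrix I I F) : (quadPoly M).totalDegree ≤ 2 := by
  unfold quadPoly
  refine MvPolynomial.totalDegree_finsetSum_le (fun i _ => ?_)
  refine MvPolynomial.totalDegree_finsetSum_le (fun j _ => ?_)
  refine (MvPolynomial.totalDegree_mul _ _).trans ?_
  have h1 := MvPolynomial.totalDegree_mul (MvPolynomial.C (M i j) : MvPolynomial I F)
    (MvPolynomial.X i)
  rw [MvPolynomial.totalDegree_C] at h1
  rw [MvPolynomial.totalDegree_X] at h1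
  rw [MvPolynomial.totalDegree_X]
  omega

/-- **Chevalley–Warning**: two quadratic forms in at least five variables have a common
non-trivial zero -/
theorem exists_common_zero (M₁ M₂ : Matrix I I F) (hI : 5 ≤ Fintype.card I) :
    ∃ x : I → F, x ≠ 0 ∧ x ⬝ᵥ (M₁ *ᵥ x) = 0 ∧ x ⬝ᵥ (M₂ *ᵥ x) = 0 := by
  classical
  have := ringChar.charP F
  have hp : (ringChar F).Prime := CharP.char_is_prime F (ringChar F)
  have hdeg : (quadPoly M₁).totalDegree + (quadPoly M₂).totalDegree < Fintype.card I := by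
    have h1 := totalDegree_quadPoly M₁
    have h2 := totalDegree_quadPoly M₂
    omega
  have hdvd := char_dvd_card_solutions_of_add_lt (ringChar F) hdeg
  have h0 : MvPolynomial.eval (0 : I → F) (quadPoly M₁) = 0 ∧
      MvPolynomial.eval (0 : I → F) (quadPoly M₂) = 0 := by
    rw [eval_quadPoly, eval_quadPoly, zero_dotProduct, zero_dotProduct]
    exact ⟨rfl, rfl⟩
  have hcard : 1 < Fintype.card {t : I → F // MvPolynomial.eval t (quadPoly M₁) = 0 ∧
      MvPolynomial.eval t (quadPoly M₂) = 0} := by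
    have hpos : 0 < Fintype.card {t : I → F // MvPolynomial.eval t (quadPoly M₁) = 0 ∧
        MvPolynomial.eval t (quadPoly M₂) = 0} := Fintype.card_pos_iff.2 ⟨⟨0, h0⟩⟩
    have := Nat.le_of_dvd hpos hdvd
    have := hp.two_le
    omega
  obtain ⟨⟨t, ht⟩, htne⟩ := Fintype.exists_ne_of_one_lt_card hcard ⟨0, h0⟩
  refine ⟨t, fun h => htne (Subtype.ext h), ?_, ?_⟩
  · rw [← eval_quadPoly]
    exact ht.1
  · rw [← eval_quadPoly]
    exact ht.2

end cw

section orthimage

variable {I : Type} [Fintype I] [DecidableEq I] {F : Type u} [Field F] [Fintype F]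
  {Q : (I → F) → F} (hQ : Cfsg.Geo.IsNondegenerateQuadraticForm Q)

include hQ in
/-- a similarity `g` with `g² = μ(g)` a non-square scalar has a vector `u` of norm `1` with
`B(u, g u) = 0` -/
theorem exists_orth_image (h2 : (2 : F) ≠ 0) (hI : 5 ≤ Fintype.card I) (g : GL I F) (μ : F)
    (hμ : ¬ IsSquare μ) (hg : ∀ v, Q (act g v) = μ * Q v)
    (hgg : ∀ v, act g (act g v) = μ • v) :
    ∃ u, Q u = 1 ∧ pol Q u (act g u) = 0 := by
  have hμ0 : μ ≠ 0 := by
    rintro rfl
    exact hμ ⟨0, by ring⟩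
  have hpol : ∀ x y, pol Q (act g x) (act g y) = μ * pol Q x y := by
    intro x y
    unfold pol QuadraticMap.polar
    rw [← act_add, hg, hg, hg]
    ring
  have hsa : ∀ x y, pol Q (act g x) y = pol Q x (act g y) := by
    intro x y
    have h1 := hpol (act g x) y
    rw [hgg, pol_smul_left hQ] at h1
    exact (mul_left_cancel₀ hμ0 h1).symm
  -- a common zero
  obtain ⟨a, ha0, ha1, ha2⟩ := exists_common_zero (gram Q) (gram Q * g.val) hI
  have hQa : Q a = 0 := by
    rw [← two_mul_Q hQ] at ha1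
    rcases mul_eq_zero.1 ha1 with h | h
    · exact absurd h h2
    · exact h
  have hfa : pol Q a (act g a) = 0 := by
    show QuadraticMap.polar Q a (g.val *ᵥ a) = 0
    rw [pol_eq_gram hQ]
    rw [← Matrix.mulVec_mulVec] at ha2
    exact ha2
  have hQga : Q (act g a) = 0 := by rw [hg, hQa, mul_zero]
  -- a partner
  obtain ⟨y₀, hy₀⟩ : ∃ y₀, pol Q a y₀ ≠ 0 := by
    by_contra hno
    push Not at hno
    exact ha0 ((BF_nondegenerate hQ).1 a hno)
  obtain ⟨y, hy⟩ : ∃ y, y = (pol Q a y₀)⁻¹ • y₀ := ⟨_, rfl⟩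
  have hay : pol Q a y = 1 := by
    rw [hy, pol_smul_right hQ, inv_mul_cancel₀ hy₀]
  have hya : pol Q y a = 1 := by rw [pol_comm, hay]
  obtain ⟨β₂, hβ₂⟩ : ∃ β₂, β₂ = pol Q a (act g y) := ⟨_, rfl⟩
  have hyga : pol Q y (act g a) = β₂ := by rw [pol_comm, hsa, hβ₂]
  have hD : 2 * μ - 2 * β₂ ^ 2 ≠ 0 := by
    intro h
    apply hμ
    refine ⟨β₂, ?_⟩
    have : 2 * (μ - β₂ * β₂) = 0 := by linear_combination h
    rcases mul_eq_zero.1 this with h3 | h3
    · exact absurd h3 h2
    · linear_combination h3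
  obtain ⟨s, hs⟩ : ∃ s, s = 1 - Q y := ⟨_, rfl⟩
  obtain ⟨t, ht⟩ : ∃ t, t = -pol Q y (act g y) := ⟨_, rfl⟩
  obtain ⟨α, hα⟩ : ∃ α, α = (2 * μ * s - β₂ * t) / (2 * μ - 2 * β₂ ^ 2) := ⟨_, rfl⟩
  obtain ⟨β, hβ⟩ : ∃ β, β = (t - 2 * β₂ * s) / (2 * μ - 2 * β₂ ^ 2) := ⟨_, rfl⟩
  have hαβ1 : α + β * β₂ = s := by
    rw [hα, hβ, div_mul_eq_mul_div, ← add_div, div_eq_iff hD]
    ring
  have hαβ2 : 2 * (α * β₂ + β * μ) = t := by
    rw [hα, hβ, div_mul_eq_mul_div, div_mul_eq_mul_div, ← add_div, mul_div_assoc',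
      div_eq_iff hD]
    ring
  obtain ⟨w, hw⟩ : ∃ w, w = α • a + β • act g a := ⟨_, rfl⟩
  have haa : pol Q a a = 0 := by rw [pol_self hQ, hQa, mul_zero]
  have hgaga : pol Q (act g a) (act g a) = 0 := by rw [pol_self hQ, hQga, mul_zero]
  have hgaa : pol Q (act g a) a = 0 := by rw [pol_comm, hfa]
  have hQw : Q w = 0 := by
    rw [hw, Q_add Q, Q_smul hQ, Q_smul hQ, pol_smul_left hQ, pol_smul_right hQ, hQa, hQga, hfa]
    ring
  have hyw : pol Q y w = α + β * β₂ := by
    rw [hw, pol_add_right hQ, pol_smul_right hQ, pol_smul_right hQ, hya, hyga]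
    ring
  have hgw : act g w = α • act g a + (β * μ) • a := by
    rw [hw, act_add, act_smul, act_smul, hgg, smul_smul]
  have hygw : pol Q y (act g w) = α * β₂ + β * μ := by
    rw [hgw, pol_add_right hQ, pol_smul_right hQ, pol_smul_right hQ, hyga, hya]
    ring
  have hwgy : pol Q w (act g y) = α * β₂ + β * μ := by
    rw [← hsa, pol_comm, hygw]
  have hwgw : pol Q w (act g w) = 0 := by
    rw [hgw, pol_add_right hQ, pol_smul_right hQ, pol_smul_right hQ, hw, pol_add_left hQ,
      pol_add_left hQ, pol_smul_left hQ, pol_smul_left hQ, pol_smul_left hQ, pol_smul_left hQ,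
      hfa, hgaga, haa, hgaa]
    ring
  refine ⟨y + w, ?_, ?_⟩
  · rw [Q_add Q, hQw, hyw, hαβ1, hs]
    ring
  · rw [act_add, pol_add_left hQ, pol_add_right hQ, pol_add_right hQ, hygw, hwgy, hwgw]
    have : pol Q y (act g y) = -t := by rw [ht]; ring
    rw [this]
    linear_combination hαβ2

end orthimage

section eigen

variable {I : Type} [Fintype I] [DecidableEq I] {F : Type u} [Field F] [Fintype F]
  {Q : (I → F) → F} (hQ : Cfsg.Geo.IsNondegenerateQuadraticForm Q)

/-- the eigenspace of an invertible matrix -/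
def eigS (g : GL I F) (c : F) : Submodule F (I → F) where
  carrier := {x | act g x = c • x}
  add_mem' := by
    intro a b ha hb
    show act g (a + b) = c • (a + b)
    rw [act_add, smul_add]
    congr 1
  zero_mem' := by
    show act g 0 = c • (0 : I → F)
    rw [act_zero, smul_zero]
  smul_mem' := by
    intro r a ha
    show act g (r • a) = c • r • a
    rw [act_smul, smul_comm]
    congr 1

theorem mem_eigS (g : GL I F) (c : F) (x : I → F) : x ∈ eigS g c ↔ act g x = c • x := Iff.rfl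

include hQ in
/-- an involutory isometry has two eigenvectors for the same eigenvalue with prescribed norms -/
theorem exists_eigen_pair (h2 : (2 : F) ≠ 0) (hI : 3 ≤ Fintype.card I) (g : GL I F)
    (hg : g ∈ Cfsg.isometryGroup F Q) (hgg : ∀ v, act g (act g v) = v) (ν : F) :
    ∃ (ε : F) (u u' : I → F), (ε = 1 ∨ ε = -1) ∧ act g u = ε • u ∧ act g u' = ε • u' ∧
      Q u = 1 ∧ Q u' = ν := by
  have hdecomp : ∀ x : I → F, x = (2 : F)⁻¹ • (x + act g x) + (2 : F)⁻¹ • (x - act g x) := by
    intro x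
    rw [← smul_add]
    have : x + act g x + (x - act g x) = (2 : F) • x := by
      rw [two_smul]
      abel
    rw [this, smul_smul, inv_mul_cancel₀ h2, one_smul]
  have hplus : ∀ x : I → F, x + act g x ∈ eigS g 1 := by
    intro x
    rw [mem_eigS, act_add, hgg, one_smul, add_comm]
  have hminus : ∀ x : I → F, x - act g x ∈ eigS g (-1) := by
    intro x
    rw [mem_eigS, act_sub, hgg, neg_one_smul, neg_sub]
  have horth : ∀ x ∈ eigS g 1, ∀ y ∈ eigS g (-1), pol Q x y = 0 := by
    intro x hx y hy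
    rw [mem_eigS] at hx hy
    have h1 := pol_act g hg x y
    rw [hx, hy, one_smul, neg_one_smul, pol_neg_right hQ] at h1
    have h3 : (2 : F) * pol Q x y = 0 := by linear_combination -h1
    rcases mul_eq_zero.1 h3 with h | h
    · exact absurd h h2
    · exact h
  -- both eigenspaces are nondegenerate
  have hnd1 : eigS g 1 ⊓ perp hQ (eigS g 1) = ⊥ := by
    rw [eq_bot_iff]
    intro x hx
    obtain ⟨hx1, hx2⟩ := Submodule.mem_inf.1 hx
    rw [mem_perp] at hx2
    rw [Submodule.mem_bot]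
    apply (BF_nondegenerate hQ).2 x
    intro w
    rw [BF_apply, hdecomp w, pol_add_left hQ, pol_smul_left hQ, pol_smul_left hQ,
      hx2 _ (hplus w), pol_comm, horth x hx1 _ (hminus w)]
    ring
  have hnd2 : eigS g (-1) ⊓ perp hQ (eigS g (-1)) = ⊥ := by
    rw [eq_bot_iff]
    intro x hx
    obtain ⟨hx1, hx2⟩ := Submodule.mem_inf.1 hx
    rw [mem_perp] at hx2
    rw [Submodule.mem_bot]
    apply (BF_nondegenerate hQ).2 x
    intro w
    rw [BF_apply, hdecomp w, pol_add_left hQ, pol_smul_left hQ, pol_smul_left hQ,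
      hx2 _ (hminus w), horth _ (hplus w) x hx1]
    ring
  -- one of them has dimension at least two
  have hsup : eigS g 1 ⊔ eigS g (-1) = ⊤ := by
    rw [eq_top_iff]
    intro x _
    rw [hdecomp x]
    exact Submodule.add_mem _
      (Submodule.mem_sup_left (Submodule.smul_mem _ _ (hplus x)))
      (Submodule.mem_sup_right (Submodule.smul_mem _ _ (hminus x)))
  have hfin : Fintype.card I ≤
      Module.finrank F (eigS g 1) + Module.finrank F (eigS g (-1)) := by
    have h1 := Submodule.finrank_add_le_finrank_add_finrank (eigS g 1) (eigS g (-1))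
    rw [hsup, finrank_top, Module.finrank_fintype_fun_eq_card] at h1
    exact h1
  rcases Nat.lt_or_ge (Module.finrank F (eigS g 1)) 2 with hlt | hge
  · have hge2 : 2 ≤ Module.finrank F (eigS g (-1)) := by omega
    obtain ⟨u, hu, hQu⟩ := Cfsg.Agent.Lib.Helper5.OrthUniv.exists_norm_eq_sub hQ h2 _ hnd2 hge2 1
    obtain ⟨u', hu', hQu'⟩ :=
      Cfsg.Agent.Lib.Helper5.OrthUniv.exists_norm_eq_sub hQ h2 _ hnd2 hge2 ν
    exact ⟨-1, u, u', Or.inr rfl, hu, hu', hQu, hQu'⟩
  · obtain ⟨u, hu, hQu⟩ := Cfsg.Agent.Lib.Helper5.OrthUniv.exists_norm_eq_sub hQ h2 _ hnd1 hge 1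
    obtain ⟨u', hu', hQu'⟩ :=
      Cfsg.Agent.Lib.Helper5.OrthUniv.exists_norm_eq_sub hQ h2 _ hnd1 hge ν
    exact ⟨1, u, u', Or.inl rfl, hu, hu', hQu, hQu'⟩

end eigen

end Cfsg.Agent.Lib.H7AutPM
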