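import Cfsg.Agent.Lib.Helper7.AutPM.GrC
import Mathlib

/-!
# Involutory graph automorphisms of orthogonal groups: a centralising element that is not inner
(helper7)

For a similarity `g` inducing an involution, not in `Inndiag`, there are non-singular `u, u'`
with `Q u * Q u'` a non-square such that `g` commutes with `r_u r_{u'}`.
-/

set_option autoImplicit false
set_option linter.unusedSectionVars false
set_option linter.style.haveILetI false

namespace Cfsg.Agent.Lib.H7AutPM

open Matrix Cfsg Cfsg.Agent.Lib.H7AutPSp Cfsg.Agent.Lib.H7AutPO Cfsg.Agent.Lib.H7AutPSL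
  Cfsg.Agent.Lib.Helper5.OrthAut Cfsg.Agent.H9.Orth Cfsg.Agent.Lib.Helper5.OrthSN
  Cfsg.Agent.Lib.Helper5.OrthPar Cfsg.Agent.Lib.Helper5.OrthCls Cfsg.Agent.Lib.Helper5.OrthPM

universe u v

section generic

variable {I : Type} [Fintype I] [DecidableEq I] {F : Type u} [Field F] [Fintype F]
  {Q : (I → F) → F} (hQ : Cfsg.Geo.IsNondegenerateQuadraticForm Q)

include hQ

/-- when `-1 ∈ Ω`: a product of two reflections whose norms have a non-square product does not
induce an inner automorphism -/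
theorem DhO_rf_mul_rf_not_inn (hn : 7 ≤ Fintype.card I) (h2 : (2 : F) ≠ 0)
    (hgen : Cfsg.isometryGroup F Q ≤ RR hQ)
    (hneg : (-1 : GL I F) ∈ Cfsg.Geo.omegaGL Q) (x y : I → F)
    (hns : ¬ IsSquare (Q x * Q y)) :
    DhO Q ⟨rf hQ x * rf hQ y, iso_le_sim Q (mul_mem (rf_mem hQ x) (rf_mem hQ y))⟩ ∉
      Cfsg.Inn (Cfsg.POmega F Q) := by
  intro h
  have hx : Q x ≠ 0 := by
    intro h0
    apply hns
    rw [h0, zero_mul]
    exact ⟨0, by ring⟩
  have hy : Q y ≠ 0 := by
    intro h0
    apply hns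
    rw [h0, mul_zero]
    exact ⟨0, by ring⟩
  rw [DhO_iso_mem_inn_iff hQ hn h2 hneg _ (mul_mem (rf_mem hQ x) (rf_mem hQ y))] at h
  obtain ⟨w, hw, hwv⟩ := h
  have h3 := (mem_omega_iff hQ h2 hgen w).1 hw
  have h4 : (w : GL I F) = rf hQ x * rf hQ y := hwv
  rw [h4] at h3
  have h5 := (spin_mul_iff hQ hgen _ _ (rf_mem hQ x) (rf_mem hQ y)).1 h3.2
  rw [spin_rf hQ x hx, spin_rf hQ y hy] at h5
  apply hns
  have h6 : Q x * Q y = (-Q x) * (-Q y) := by ring
  rw [h6, isSquare_mul_iff (neg_ne_zero.2 hx) (neg_ne_zero.2 hy)]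
  exact h5

/-- a product of two reflections induces an element of `inndiagGen` -/
theorem DhO_rf_mul_rf_mem_inndiagGen [Nonempty I] (h2 : (2 : F) ≠ 0) (m : ℕ)
    (hm : Fintype.card I = 2 * m) (x y : I → F) (hx : Q x ≠ 0) (hy : Q y ≠ 0) :
    DhO Q ⟨rf hQ x * rf hQ y, iso_le_sim Q (mul_mem (rf_mem hQ x) (rf_mem hQ y))⟩ ∈
      inndiagGen hQ h2 m hm := by
  unfold inndiagGen
  rw [DhO_eq_conjHom]
  refine ⟨_, ?_, rfl⟩
  rw [SetLike.mem_coe, MonoidHom.mem_ker]
  have e : (⟨rf hQ x * rf hQ y, iso_le_sim Q (mul_mem (rf_mem hQ x) (rf_mem hQ y))⟩ :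
      ↥(Cfsg.Geo.quadSimilarityGroup (F := F) Q)) =
      ⟨rf hQ x, iso_le_GO (rf_mem hQ x)⟩ * ⟨rf hQ y, iso_le_GO (rf_mem hQ y)⟩ := rfl
  rw [e, map_mul, chiDet_rf hQ h2 m hm x hx, chiDet_rf hQ h2 m hm y hy]
  rfl

/-- **the commuting pair of reflections** -/
theorem exists_pair_comm [Nonempty I] (hn : 7 ≤ Fintype.card I) (h2 : (2 : F) ≠ 0)
    (hgen : Cfsg.isometryGroup F Q ≤ RR hQ) (m : ℕ) (hm : Fintype.card I = 2 * m)
    (gs : ↥(Cfsg.Geo.quadSimilarityGroup (F := F) Q)) (hgg : DhO Q gs * DhO Q gs = 1)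
    (hdet : ((gs : GL I F) : Matrix I I F).det ≠ (mu gs : F) ^ m) :
    ∃ x y : I → F, ¬ IsSquare (Q x * Q y) ∧
      (gs : GL I F) * (rf hQ x * rf hQ y) * (gs : GL I F)⁻¹ = rf hQ x * rf hQ y := by
  obtain ⟨l, hl⟩ := scalar_of_DhO_eq_one hQ hn (gs * gs) (by rw [map_mul]; exact hgg)
  have hl' : ∀ v, act (gs : GL I F) (act (gs : GL I F) v) = l • v := by
    intro v
    rw [← act_mul]
    exact hl v
  have hμ : ∀ v, Q (act (gs : GL I F) v) = (mu gs : F) * Q v := mu_spec gs
  have hμ0 : (mu gs : F) ≠ 0 := Units.ne_zero _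
  obtain ⟨x₀, hx₀⟩ := exists_nonsing hQ
  have hl2 : l ^ 2 = (mu gs : F) ^ 2 := by
    have h3 := hμ (act (gs : GL I F) x₀)
    rw [hl', hμ, Q_smul hQ] at h3
    have h4 : (l ^ 2 - (mu gs : F) ^ 2) * Q x₀ = 0 := by linear_combination h3
    rcases mul_eq_zero.1 h4 with h5 | h5
    · exact sub_eq_zero.1 h5
    · exact absurd h5 hx₀
  have hl0 : l ≠ 0 := by
    intro h
    rw [h] at hl2
    have : (mu gs : F) ^ 2 = 0 := by rw [← hl2]; ring
    exact hμ0 (pow_eq_zero_iff (two_ne_zero) |>.1 this)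
  have hchar : ringChar F ≠ 2 := ringChar_ne_two_of_two_ne_zero h2
  -- conjugating a reflection by `gs`
  have hconj : ∀ x, (gs : GL I F) * rf hQ x * (gs : GL I F)⁻¹ = rf hQ (act (gs : GL I F) x) :=
    fun x => conj_rf_GO hQ _ _ hμ0 hμ x
  have hconj2 : ∀ x y, (gs : GL I F) * (rf hQ x * rf hQ y) * (gs : GL I F)⁻¹ =
      rf hQ (act (gs : GL I F) x) * rf hQ (act (gs : GL I F) y) := by
    intro x y
    rw [← hconj, ← hconj]
    group
  by_cases hsq : IsSquare (mu gs : F)
  · obtain ⟨c, hc⟩ := hsq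
    obtain ⟨hc0, s, hs, e⟩ := exists_scalar_mul_iso hQ gs c hc
    have hact : ∀ v, act (gs : GL I F) v = c • act s v := by
      intro v
      rw [e, act_mul, act_scalarGL]
    have hss : ∀ v, act s (act s v) = (l / (c * c)) • v := by
      intro v
      have h3 := hl' v
      rw [hact, hact, act_smul, smul_smul] at h3
      have h4 : act s (act s v) = (c * c)⁻¹ • ((c * c) • act s (act s v)) := by
        rw [smul_smul, inv_mul_cancel₀ (mul_ne_zero hc0 hc0), one_smul]
      rw [h4, h3, smul_smul, div_eq_inv_mul]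
    have hε2 : (l / (c * c)) ^ 2 = 1 := by
      rw [div_pow, hl2, hc]
      field_simp
    have hdets : (s : Matrix I I F).det ≠ 1 := by
      intro h1
      apply hdet
      rw [e, Units.val_mul, Matrix.det_mul, det_scalarGL, h1, mul_one, hm, hc, pow_mul, pow_two]
    have hcases : l / (c * c) = 1 ∨ l / (c * c) = -1 := by
      have : (l / (c * c) - 1) * (l / (c * c) + 1) = 0 := by linear_combination hε2
      rcases mul_eq_zero.1 this with h5 | h5
      · exact Or.inl (sub_eq_zero.1 h5)
      · exact Or.inr (eq_neg_of_add_eq_zero_left h5)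
    rcases hcases with hε | hε
    · -- an involution
      rw [hε] at hss
      simp only [one_smul] at hss
      obtain ⟨ν, hν⟩ := FiniteField.exists_nonsquare hchar
      obtain ⟨ε, x, y, hε', hx, hy, hQx, hQy⟩ :=
        exists_eigen_pair hQ h2 (by omega) s hs hss ν
      have hε0 : ε ≠ 0 := by
        rcases hε' with h | h
        · rw [h]; exact one_ne_zero
        · rw [h]; exact neg_ne_zero.2 one_ne_zero
      refine ⟨x, y, ?_, ?_⟩
      · rw [hQx, hQy, one_mul]
        exact hν
      · rw [hconj2, hact, hact, hx, hy, rf_smul hQ c hc0, rf_smul hQ c hc0, rf_smul hQ ε hε0,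
          rf_smul hQ ε hε0]
    · -- impossible: `s² = -1` forces `det s = 1`
      exfalso
      apply hdets
      rw [hε] at hss
      have hmat : (s : Matrix I I F) * (s : Matrix I I F) = -1 := by
        have h3 : s * s = (-1 : GL I F) := by
          apply gl_ext
          intro v
          rw [act_mul, hss, act_neg_one]
        have h4 := congrArg Units.val h3
        rw [Units.val_mul, Units.val_neg, Units.val_one] at h4
        exact h4
      have hunit : IsUnit ((s : Matrix I I F) - 1) := by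
        have h3 : ((s : Matrix I I F) - 1) * (((-2 : F)⁻¹) • ((s : Matrix I I F) + 1)) = 1 := by
          rw [Matrix.mul_smul, Matrix.sub_mul, Matrix.mul_add, Matrix.mul_add, hmat, Matrix.mul_one,
            Matrix.one_mul, Matrix.one_mul]
          have : (-1 + (s : Matrix I I F) - ((s : Matrix I I F) + 1) : Matrix I I F) =
              (-2 : F) • (1 : Matrix I I F) := by
            rw [neg_smul, two_smul]
            abel
          rw [this, smul_smul, inv_mul_cancel₀ (neg_ne_zero.2 h2), one_smul]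
        exact IsUnit.of_mul_eq_one _ h3
      have hrank : ((s : Matrix I I F) - 1).rank = Fintype.card I :=
        Matrix.rank_of_isUnit _ hunit
      have hpar : par s := by
        show Even ((s : Matrix I I F) - 1).rank
        rw [hrank, hm]
        exact ⟨m, by ring⟩
      exact (par_iff_det hQ h2 hgen s hs).1 hpar
  · -- non-square multiplier
    have hpolg : ∀ x y, pol Q (act (gs : GL I F) x) (act (gs : GL I F) y) =
        (mu gs : F) * pol Q x y := by
      intro x y
      unfold pol QuadraticMap.polar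
      rw [← act_add, hμ, hμ, hμ]
      ring
    have hcases : l = (mu gs : F) ∨ l = -(mu gs : F) := by
      have : (l - (mu gs : F)) * (l + (mu gs : F)) = 0 := by linear_combination hl2
      rcases mul_eq_zero.1 this with h5 | h5
      · exact Or.inl (sub_eq_zero.1 h5)
      · exact Or.inr (eq_neg_of_add_eq_zero_left h5)
    have hex : ∃ x, Q x = 1 ∧ pol Q x (act (gs : GL I F) x) = 0 := by
      rcases hcases with hl1 | hl1
      · rw [hl1] at hl'
        exact exists_orth_image hQ h2 (by omega) (gs : GL I F) _ hsq hμ hl'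
      · obtain ⟨x, hx⟩ := Cfsg.Agent.Lib.Helper5.OrthUniv.exists_norm_eq hQ h2 (by omega) 1
        refine ⟨x, hx, ?_⟩
        have h3 := hpolg x (act (gs : GL I F) x)
        rw [hl', hl1, pol_smul_right hQ, pol_comm (act (gs : GL I F) x) x] at h3
        have h4 : (2 * (mu gs : F)) * pol Q x (act (gs : GL I F) x) = 0 := by
          linear_combination -h3
        rcases mul_eq_zero.1 h4 with h5 | h5
        · exact absurd h5 (mul_ne_zero h2 hμ0)
        · exact h5
    obtain ⟨x, hQx, hpx⟩ := hex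
    refine ⟨x, act (gs : GL I F) x, ?_, ?_⟩
    · rw [hμ, hQx, mul_one, one_mul]
      exact hsq
    · rw [hconj2, hl', rf_smul hQ l hl0]
      exact (rf_comm hQ _ _ hpx).symm

end generic

end Cfsg.Agent.Lib.H7AutPM
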