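import Cfsg.Agent.Lib.Helper7.AutPM.GrA
import Mathlib

/-!
# Abstract counting for involutory graph automorphisms (helper7)

`K ≤ D ≤ P` with `P / K` dihedral of order eight and `D` of index two in `P`: for `γ ∈ P ∖ D`
the centraliser of `γ` in `D` does not cover `D / K`.
-/

set_option autoImplicit false
set_option linter.unusedSectionVars false
set_option linter.style.haveILetI false

namespace Cfsg.Agent.Lib.H7AutPM

open Cfsg Cfsg.Agent.Lib.H7AutPSL

section abstract

variable {A : Type*} [Group A]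

/-- index four and `K < K C_D(x) < D`: two classes -/
theorem splitClassCount_two_of_mid (D K : Subgroup A) (hKD : K ≤ D) [hK : K.Normal]
    (hidx : K.relIndex D = 4) (x : A) (h1 : splitSub D K x ≠ K) (h2 : splitSub D K x ≠ D) :
    Cfsg.splitClassCount D K x = 2 := by
  rw [splitClassCount_eq D K hKD x]
  have hKS : K ≤ splitSub D K x := le_sup_left
  have hSD : splitSub D K x ≤ D := sup_le hKD inf_le_left
  have h3 := Subgroup.relIndex_mul_relIndex K (splitSub D K x) D hKS hSD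
  rw [hidx] at h3
  have ha : K.relIndex (splitSub D K x) ≠ 1 := by
    intro h
    rw [Subgroup.relIndex_eq_one] at h
    exact h1 (le_antisymm h hKS)
  have hb : (splitSub D K x).relIndex D ≠ 1 := by
    intro h
    rw [Subgroup.relIndex_eq_one] at h
    exact h2 (le_antisymm hSD h)
  have hdvd : K.relIndex (splitSub D K x) ∣ 4 := ⟨_, h3.symm⟩
  have hle : K.relIndex (splitSub D K x) ≤ 4 := Nat.le_of_dvd (by norm_num) hdvd
  generalize K.relIndex (splitSub D K x) = a at *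
  generalize (splitSub D K x).relIndex D = b at *
  interval_cases a
  · omega
  · omega
  · omega
  · omega
  · omega

/-- index two: one or two classes -/
theorem splitClassCount_of_index_two (D K : Subgroup A) (hKD : K ≤ D) [hK : K.Normal]
    (hidx : K.relIndex D = 2) (x : A) :
    Cfsg.splitClassCount D K x = 1 ∨ Cfsg.splitClassCount D K x = 2 := by
  rw [splitClassCount_eq D K hKD x]
  have hKS : K ≤ splitSub D K x := le_sup_left
  have hSD : splitSub D K x ≤ D := sup_le hKD inf_le_left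
  have h3 := Subgroup.relIndex_mul_relIndex K (splitSub D K x) D hKS hSD
  rw [hidx] at h3
  have hdvd : (splitSub D K x).relIndex D ∣ 2 := ⟨_, by rw [mul_comm]; exact h3.symm⟩
  have hle : (splitSub D K x).relIndex D ≤ 2 := Nat.le_of_dvd (by norm_num) hdvd
  generalize (splitSub D K x).relIndex D = b at *
  interval_cases b
  · simp at hdvd
  · exact Or.inl rfl
  · exact Or.inr rfl

theorem dihedral_four_central_sq (z : DihedralGroup 4) (hz : ∀ y, y * z = z * y) :
    ∃ x : DihedralGroup 4, z = x * x := by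
  revert z
  decide

/-- `P / K` dihedral of order eight, `D` of index two in `P`, `γ ∈ P ∖ D`: the centraliser of `γ`
in `D` does not cover `D / K` -/
theorem splitSub_ne_of_dihedral (P D K : Subgroup A) [hK : K.Normal] (hKD : K ≤ D) (hDP : D ≤ P)
    (hidx : D.relIndex P = 2) (φ : ↥P →* DihedralGroup 4) (hφ : Function.Surjective φ)
    (hker : φ.ker = K.subgroupOf P) (γ : A) (hγP : γ ∈ P) (hγD : γ ∉ D) :
    splitSub D K γ ≠ D := by
  intro hS
  have hidx' : (D.subgroupOf P).index = 2 := hidx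
  -- `φ γ` commutes with `φ d` for `d ∈ D`
  have hcD : ∀ d : ↥P, d.1 ∈ D → φ d * φ ⟨γ, hγP⟩ = φ ⟨γ, hγP⟩ * φ d := by
    intro d hd
    have hd' : d.1 ∈ splitSub D K γ := by rw [hS]; exact hd
    obtain ⟨k, hk, c, hc, e⟩ := (mem_splitSub_iff D K γ d.1).1 hd'
    have hcD := (Subgroup.mem_inf.1 hc).1
    have hcc := (mem_centralizer_singleton γ c).1 (Subgroup.mem_inf.1 hc).2
    have hkP : k ∈ P := hDP (hKD hk)
    have hcP : c ∈ P := hDP hcD
    have e1 : d = ⟨k, hkP⟩ * ⟨c, hcP⟩ := Subtype.ext e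
    have hk1 : φ ⟨k, hkP⟩ = 1 := by
      rw [← MonoidHom.mem_ker, hker, Subgroup.mem_subgroupOf]
      exact hk
    have e2 : (⟨c, hcP⟩ : ↥P) * ⟨γ, hγP⟩ = ⟨γ, hγP⟩ * ⟨c, hcP⟩ := Subtype.ext hcc
    rw [e1, map_mul, hk1, one_mul, ← map_mul, ← map_mul, e2]
  -- hence with everything
  have hcP : ∀ y : DihedralGroup 4, y * φ ⟨γ, hγP⟩ = φ ⟨γ, hγP⟩ * y := by
    intro y
    obtain ⟨p, rfl⟩ := hφ y
    by_cases hp : p.1 ∈ D
    · exact hcD p hp
    · have h1 : p * ⟨γ, hγP⟩ ∈ D.subgroupOf P := by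
        rw [Subgroup.mul_mem_iff_of_index_two hidx']
        constructor
        · intro h; exact absurd (Subgroup.mem_subgroupOf.1 h) hp
        · intro h; exact absurd (Subgroup.mem_subgroupOf.1 h) hγD
      have h2 := hcD (p * ⟨γ, hγP⟩) (Subgroup.mem_subgroupOf.1 h1)
      rw [map_mul] at h2
      -- `(φ p φ γ) φ γ = φ γ (φ p φ γ)`
      have h3 : φ p * φ ⟨γ, hγP⟩ * φ ⟨γ, hγP⟩ * (φ ⟨γ, hγP⟩)⁻¹ =
          φ ⟨γ, hγP⟩ * (φ p * φ ⟨γ, hγP⟩) * (φ ⟨γ, hγP⟩)⁻¹ := by rw [h2]
      rw [mul_inv_cancel_right, mul_assoc, mul_assoc, mul_inv_cancel, mul_one] at h3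
      exact h3
  obtain ⟨x, hx⟩ := dihedral_four_central_sq _ hcP
  obtain ⟨p, rfl⟩ := hφ x
  have h1 : (p * p)⁻¹ * ⟨γ, hγP⟩ ∈ φ.ker := by
    rw [MonoidHom.mem_ker, map_mul, map_inv, map_mul, hx, inv_mul_cancel]
  rw [hker, Subgroup.mem_subgroupOf] at h1
  have h2 : p * p ∈ D.subgroupOf P := by
    have := Subgroup.sq_mem_of_index_two hidx' p
    rwa [pow_two] at this
  have h3 : (p * p).1 ∈ D := Subgroup.mem_subgroupOf.1 h2
  have h4 : ((p * p)⁻¹ * ⟨γ, hγP⟩ : ↥P).1 ∈ D := hKD h1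
  apply hγD
  have h5 := mul_mem h3 h4
  have e : ((p * p : ↥P) : A) * (((p * p)⁻¹ * ⟨γ, hγP⟩ : ↥P) : A) = γ := by
    show ((p * p : ↥P) : A) * ((((p * p : ↥P)⁻¹ : ↥P) : A) * γ) = γ
    rw [Subgroup.coe_inv, mul_inv_cancel_left]
  rwa [e] at h5

end abstract

end Cfsg.Agent.Lib.H7AutPM
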