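import Cfsg.Agent.Lib.Helper7.AutPM.GrB
import Cfsg.Agent.Lib.Helper5.OrthAut.PGOInn
import Mathlib

/-!
# Class splitting of involutory graph automorphisms of `PΩ⁺_{2m}(q)`, `q` odd (helper7)
-/

set_option autoImplicit false
set_option linter.unusedSectionVars false
set_option linter.style.haveILetI false

namespace Cfsg.Agent.Lib.H7AutPM

open Matrix Cfsg Cfsg.Agent.Lib.H7AutPSp Cfsg.Agent.Lib.H7AutPO Cfsg.Agent.Lib.H7AutPSL
  Cfsg.Agent.Lib.Helper5.OrthAut Cfsg.Agent.H9.Orth Cfsg.Agent.Lib.Helper5.OrthSN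
  Cfsg.Agent.Lib.Helper5.OrthPar Cfsg.Agent.Lib.Helper5.OrthCls Cfsg.Agent.Lib.Helper5.OrthPM

universe u v

section generic

variable {I : Type} [Fintype I] [DecidableEq I] {F : Type u} [Field F] [Fintype F]
  {Q : (I → F) → F} (hQ : Cfsg.Geo.IsNondegenerateQuadraticForm Q)

include hQ

/-- membership of `DhO g` in `inndiagGen` through the determinant -/
theorem DhO_mem_inndiagGen_iff [Nonempty I] (hn : 7 ≤ Fintype.card I) (h2 : (2 : F) ≠ 0)
    (m : ℕ) (hm : Fintype.card I = 2 * m)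
    (gs : ↥(Cfsg.Geo.quadSimilarityGroup (F := F) Q)) :
    DhO Q gs ∈ inndiagGen hQ h2 m hm ↔
      ((gs : GL I F) : Matrix I I F).det = (mu gs : F) ^ m := by
  rw [← chiDet_eq_one_iff hQ h2 m hm]
  unfold inndiagGen
  rw [DhO_eq_conjHom, ← MonoidHom.mem_ker]
  constructor
  · rintro ⟨g', hg', e⟩
    have h1 : g'⁻¹ * gs ∈
        (Cfsg.Agent.Lib.Helper5.OrthAut.conjHom Q).ker := by
      rw [MonoidHom.mem_ker, map_mul, map_inv, e, inv_mul_cancel]
    have h3 := ker_le_chiDet hQ hn h2 m hm h1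
    have h4 := mul_mem hg' h3
    rwa [mul_inv_cancel_left] at h4
  · intro hg
    exact ⟨gs, hg, rfl⟩

/-- **`-1 ∈ Ω`: the class of an involution outside `inndiagGen` induced by a similarity splits
into two** -/
theorem graph_invol_split_four [Nonempty I] (hn : 7 ≤ Fintype.card I) (h2 : (2 : F) ≠ 0)
    (hgen : Cfsg.isometryGroup F Q ≤ RR hQ) (m : ℕ) (hm : Fintype.card I = 2 * m)
    (d : GL I F) (c : F) (hc : ¬ IsSquare c) (hd : ∀ v, Q (act d v) = c * Q v)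
    (g₀ : ↥(Cfsg.isometryGroup F Q)) (hg₀ : g₀ ∈ Cfsg.Omega F Q)
    (hval : ((g₀ : GL I F) : Matrix I I F) = -1)
    (gs : ↥(Cfsg.Geo.quadSimilarityGroup (F := F) Q)) (hgg : DhO Q gs * DhO Q gs = 1)
    (hdet : ((gs : GL I F) : Matrix I I F).det ≠ (mu gs : F) ^ m) :
    Cfsg.splitClassCount (inndiagGen hQ h2 m hm) (Cfsg.Inn (Cfsg.POmega F Q)) (DhO Q gs) = 2 := by
  haveI := innNormal (Cfsg.POmega F Q)
  have hKD := inn_le_inndiagGen hQ hn h2 hgen m hm
  have hidx := relIndex_inn_inndiagGen_of_neg_mem hQ hn h2 hgen m hm d c hc hd g₀ hg₀ hval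
  have hneg : (-1 : GL I F) ∈ Cfsg.Geo.omegaGL Q := by
    refine ⟨g₀, hg₀, ?_⟩
    apply Units.ext
    rw [Units.val_neg, Units.val_one]
    exact hval
  apply splitClassCount_two_of_mid _ _ hKD hidx
  · -- the centraliser is not inner
    intro hS
    obtain ⟨x, y, hns, hcomm⟩ := exists_pair_comm hQ hn h2 hgen m hm gs hgg hdet
    have hx : Q x ≠ 0 := by
      intro h0
      apply hns
      rw [h0, zero_mul]
      exact ⟨0, by ring⟩
    have hy : Q y ≠ 0 := by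
      intro h0
      apply hns
      rw [h0, mul_zero]
      exact ⟨0, by ring⟩
    have h1 := DhO_rf_mul_rf_mem_inndiagGen hQ h2 m hm x y hx hy
    have h3 := DhO_rf_mul_rf_not_inn hQ hn h2 hgen hneg x y hns
    apply h3
    rw [← hS]
    apply Subgroup.mem_sup_right
    refine Subgroup.mem_inf.2 ⟨h1, ?_⟩
    rw [mem_centralizer_singleton, ← map_mul, ← map_mul]
    congr 1
    apply Subtype.ext
    show rf hQ x * rf hQ y * (gs : GL I F) = (gs : GL I F) * (rf hQ x * rf hQ y)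
    have h4 : (gs : GL I F) * (rf hQ x * rf hQ y) * (gs : GL I F)⁻¹ * (gs : GL I F) =
        rf hQ x * rf hQ y * (gs : GL I F) := by rw [hcomm]
    rw [inv_mul_cancel_right] at h4
    exact h4.symm
  · -- the centraliser does not cover
    obtain ⟨φ, hφ, hker⟩ := pgo_mod_inn_dihedral hQ hn h2 hgen m hm d c hc hd g₀ hg₀ hval
    refine splitSub_ne_of_dihedral (Cfsg.pgoAut F Q) _ _ hKD (inndiagGen_le_pgo hQ h2 m hm)
      (relIndex_inndiagGen_pgo hQ hn h2 m hm) φ hφ hker _ ?_ ?_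
    · rw [Cfsg.Agent.Lib.H7AutPO.pgoAut_eq]
      exact ⟨gs, rfl⟩
    · rw [DhO_mem_inndiagGen_iff hQ hn h2 m hm]
      exact hdet

/-- **`-1 ∉ Ω`: at most two classes** -/
theorem graph_invol_split_two [Nonempty I] (hn : 7 ≤ Fintype.card I) (h2 : (2 : F) ≠ 0)
    (hgen : Cfsg.isometryGroup F Q ≤ RR hQ) (m : ℕ) (hm : Fintype.card I = 2 * m)
    (d : GL I F) (c : F) (hc : ¬ IsSquare c) (hd : ∀ v, Q (act d v) = c * Q v)
    (hno : ¬ ∃ g : ↥(Cfsg.isometryGroup F Q), g ∈ Cfsg.Omega F Q ∧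
      ((g : GL I F) : Matrix I I F) = -1)
    (γ : MulAut (Cfsg.POmega F Q)) :
    Cfsg.splitClassCount (inndiagGen hQ h2 m hm) (Cfsg.Inn (Cfsg.POmega F Q)) γ = 1 ∨
      Cfsg.splitClassCount (inndiagGen hQ h2 m hm) (Cfsg.Inn (Cfsg.POmega F Q)) γ = 2 := by
  haveI := innNormal (Cfsg.POmega F Q)
  have hKD := inn_le_inndiagGen hQ hn h2 hgen m hm
  have hidx := relIndex_inn_inndiagGen_of_not hQ hn h2 hgen m hm d c hc hd hno
  exact splitClassCount_of_index_two _ _ hKD hidx γ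

end generic

section plus

variable {F : Type u} [Field F] [Fintype F] {m : ℕ}

/-- **involutory similarity-graph automorphisms of `PΩ⁺_{2m}(q)`, `q` odd: class splitting** -/
theorem graph_invol_main_P (hodd : Odd (Fintype.card F)) (hm : 4 ≤ m)
    (γ : MulAut (Cfsg.POmega F (Cfsg.quadFormPlus m F)))
    (hγ : Cfsg.IsSimilarityGraphAutPOmegaPlus m γ) (hγ2 : orderOf γ = 2) :
    (Cfsg.splitClassCount (Cfsg.inndiagPOmegaPlus m F)
        (Cfsg.Inn (Cfsg.POmega F (Cfsg.quadFormPlus m F))) γ = 1 ∨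
      Cfsg.splitClassCount (Cfsg.inndiagPOmegaPlus m F)
        (Cfsg.Inn (Cfsg.POmega F (Cfsg.quadFormPlus m F))) γ = 2) ∧
      (¬ (Odd m ∧ Fintype.card F % 4 = 3) →
        Cfsg.splitClassCount (Cfsg.inndiagPOmegaPlus m F)
          (Cfsg.Inn (Cfsg.POmega F (Cfsg.quadFormPlus m F))) γ = 2) := by
  classical
  haveI : Nonempty (Fin m ⊕ Fin m) := ⟨Sum.inl ⟨0, by omega⟩⟩
  have h2 := two_ne_zero_of_odd_card hodd
  have hQ := quadFormPlus_nondeg (F := F) m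
  have hcard := card_sum_fin m
  have hn : 7 ≤ Fintype.card (Fin m ⊕ Fin m) := by rw [hcard]; omega
  have hgen := iso_le_RR hQ (Or.inl (card_ne_two_of_odd_card hodd))
  have hchar : ringChar F ≠ 2 := ringChar_ne_two_of_two_ne_zero h2
  obtain ⟨ν, hν⟩ := FiniteField.exists_nonsquare hchar
  have hν0 : ν ≠ 0 := by
    rintro rfl
    exact hν ⟨0, by ring⟩
  obtain ⟨g, hg, hnp, hind⟩ := hγ
  have hγe : γ = DhO _ ⟨g, hg⟩ := (induced_refl_iff ⟨g, hg⟩ γ).1 hind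
  have hdet : (((⟨g, hg⟩ : ↥(Cfsg.Geo.quadSimilarityGroup (F := F) (Cfsg.quadFormPlus m F))) :
      GL (Fin m ⊕ Fin m) F) : Matrix (Fin m ⊕ Fin m) (Fin m ⊕ Fin m) F).det ≠
      (mu (⟨g, hg⟩ : ↥(Cfsg.Geo.quadSimilarityGroup (F := F) (Cfsg.quadFormPlus m F))) : F) ^ m := by
    intro h
    exact hnp ((preserves_iff_plus m hodd ⟨g, hg⟩).2 h)
  have hgg : DhO _ (⟨g, hg⟩ : ↥(Cfsg.Geo.quadSimilarityGroup (F := F) (Cfsg.quadFormPlus m F))) *
      DhO _ ⟨g, hg⟩ = 1 := by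
    rw [← hγe, ← pow_two, ← hγ2]
    exact pow_orderOf_eq_one γ
  have hiff := plus_diag_iff (F := F) m hodd m le_rfl
  rw [diagonal_dP_self] at hiff
  rw [inndiagPlus_eq m hodd, hγe]
  by_cases h4 : Fintype.card F ^ m % 4 = 1
  · obtain ⟨g₀, hg₀, hval⟩ := hiff.2 h4
    have key := graph_invol_split_four hQ hn h2 hgen m hcard (dPlus m ν hν0) ν hν
      (dPlus_sim m ν hν0) g₀ hg₀ hval ⟨g, hg⟩ hgg hdet
    exact ⟨Or.inr key, fun _ => key⟩
  · have hno : ¬ ∃ g : ↥(Cfsg.isometryGroup F (Cfsg.quadFormPlus m F)),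
        g ∈ Cfsg.Omega F (Cfsg.quadFormPlus m F) ∧
        ((g : GL (Fin m ⊕ Fin m) F) : Matrix (Fin m ⊕ Fin m) (Fin m ⊕ Fin m) F) = -1 := by
      intro h
      exact h4 (hiff.1 h)
    refine ⟨graph_invol_split_two hQ hn h2 hgen m hcard (dPlus m ν hν0) ν hν
      (dPlus_sim m ν hν0) hno _, ?_⟩
    intro hcon
    exfalso
    apply h4
    rw [pow_mod_four_eq_one _ _ hodd]
    by_contra hcon2
    push Not at hcon2
    apply hcon
    refine ⟨Nat.not_even_iff_odd.1 hcon2.1, ?_⟩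
    obtain ⟨k, hk⟩ := hodd
    omega

end plus

end Cfsg.Agent.Lib.H7AutPM
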