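import Cfsg.Agent.Lib.Helper7.AutPM.GrD
import Cfsg.Agent.Lib.Helper7.AutPSL.FixedField
import Mathlib

/-!
# Involutions in the image of the semisimilarity group have trivial field part when the
discriminant is a non-square (helper7)

A semisimilarity `v ↦ g σ(v)` with `σ` of order two whose square is a scalar forces the Gram
determinant to be a square (Hilbert 90 plus a determinant computation).
-/

set_option autoImplicit false
set_option linter.unusedSectionVars false
set_option linter.style.haveILetI false

namespace Cfsg.Agent.Lib.H7AutPM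

open Matrix Cfsg Cfsg.Agent.Lib.H7AutPSp Cfsg.Agent.Lib.H7AutPO Cfsg.Agent.Lib.H7AutPSL
  Cfsg.Agent.Lib.Helper5.OrthAut Cfsg.Agent.H9.Orth Cfsg.Agent.Lib.Helper5.OrthSN
  Cfsg.Agent.Lib.Helper5.OrthPar Cfsg.Agent.Lib.Helper5.OrthCls Cfsg.Agent.Lib.Helper5.OrthPM

universe u v

section field

variable {F : Type u} [Field F] [Fintype F]

/-- elements fixed by an involutory automorphism of a finite field of odd order are squares -/
theorem isSquare_of_fixed_invol (h2 : (2 : F) ≠ 0) (σ : RingAut F) (hσ : orderOf σ = 2) (w : F)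
    (hw : σ w = w) : IsSquare w := by
  classical
  have hfo : IsOfFinOrder σ := orderOf_pos_iff.1 (by omega)
  have hfin : Finite (Subgroup.zpowers σ) := Set.finite_coe_iff.2 hfo.finite_zpowers
  let _ : Fintype (Subgroup.zpowers σ) := Fintype.ofFinite _
  let _ : Fintype (FixedPoints.subfield (Subgroup.zpowers σ) F) := Fintype.ofFinite _
  have h1 : Module.finrank (FixedPoints.subfield (Subgroup.zpowers σ) F) F = 2 := by
    rw [FixedPoints.finrank_eq_card, ← Nat.card_eq_fintype_card, Nat.card_zpowers, hσ]
  have hodd₀ : Odd (Fintype.card (FixedPoints.subfield (Subgroup.zpowers σ) F)) := by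
    by_contra hev
    rw [Nat.not_odd_iff_even] at hev
    have h3 : (2 : FixedPoints.subfield (Subgroup.zpowers σ) F) = 0 :=
      two_eq_zero_of_even_card hev
    apply h2
    have h4 : ((2 : FixedPoints.subfield (Subgroup.zpowers σ) F) : F) = 0 := by
      rw [h3]
      rfl
    have h5 : ((2 : FixedPoints.subfield (Subgroup.zpowers σ) F) : F) = (2 : F) := rfl
    rw [h5] at h4
    exact h4
  have h5 := isSquare_algebraMap_of_finrank_two hodd₀ h1 h2
    (⟨w, (mem_fixed_iff σ w).2 hw⟩ : FixedPoints.subfield (Subgroup.zpowers σ) F)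
  exact h5

omit [Fintype F] in
/-- Hilbert 90 for an automorphism of order two -/
theorem hilbert90_two (σ : RingAut F) (hσ2 : σ * σ = 1) (hσ1 : σ ≠ 1) (d : F)
    (hd : d * σ d = 1) : ∃ e : F, e ≠ 0 ∧ σ e = d * e := by
  have hss : ∀ t : F, σ (σ t) = t := by
    intro t
    have := congrArg (fun τ : RingAut F => τ t) hσ2
    exact this
  by_cases h : d = -1
  · have hex : ∃ t : F, σ t ≠ t := by
      by_contra hcon
      push Not at hcon
      apply hσ1
      ext t
      exact hcon t
    obtain ⟨t, ht⟩ := hex
    refine ⟨t - σ t, fun h0 => ht (sub_eq_zero.1 h0).symm, ?_⟩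
    rw [map_sub, hss, h]
    ring
  · refine ⟨1 + σ d, ?_, ?_⟩
    · intro h0
      apply h
      have h1 : σ d = -1 := by linear_combination h0
      have h3 := hss d
      rw [h1, map_neg, map_one] at h3
      exact h3.symm
    · rw [map_add, map_one, hss]
      linear_combination -hd

end field

section generic

variable {I : Type} [Fintype I] [DecidableEq I] {F : Type u} [Field F]
  {Q : (I → F) → F} (hQ : Cfsg.Geo.IsNondegenerateQuadraticForm Q)

include hQ

/-- a semisimilarity transforms the Gram matrix by its multiplier and the field automorphism -/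
theorem gram_of_semisim (x : GamL I F) (c : F)
    (hc : ∀ v, Q (sact x v) = c * x.right (Q v)) :
    (x.left.val)ᵀ * gram Q * x.left.val = c • (gram Q).map x.right := by
  have hpol : ∀ a b : I → F, QuadraticMap.polar Q (sact x a) (sact x b) =
      c * x.right (QuadraticMap.polar Q a b) := by
    intro a b
    unfold QuadraticMap.polar
    rw [← sact_add, hc, hc, hc, map_sub, map_sub]
    ring
  have hsingle : ∀ i : I, x.left.val *ᵥ (Pi.single i 1 : I → F) = sact x (Pi.single i 1) := by
    intro i
    rw [sact_def]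
    congr 1
    funext k
    by_cases hk : k = i
    · subst hk
      rw [Pi.single_eq_same, map_one]
    · rw [Pi.single_eq_of_ne hk, map_zero]
  ext i j
  rw [congr_gram_apply hQ, hsingle, hsingle, hpol, Matrix.smul_apply, smul_eq_mul, Matrix.map_apply,
    Cfsg.Agent.Lib.H7AutPO.gram_apply]

variable [Fintype F]

/-- **an involution in the image of the semisimilarity group has trivial field part**, when the
Gram determinant is a non-square as soon as `-1` is a square -/
theorem right_eq_one_of_PsO_sq [Nonempty I] (hn : 7 ≤ Fintype.card I) (h2 : (2 : F) ≠ 0) (n : ℕ)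
    (hcard : Fintype.card I = 2 * n)
    (hD : IsSquare (-1 : F) → ¬ IsSquare (gram Q).det)
    (x : ↥(GammaO Q)) (hx : PsO Q x * PsO Q x = 1) : x.1.right = 1 := by
  by_contra hσ1
  obtain ⟨hr, l, hl⟩ := ker_PsO hQ hn (x * x) (by rw [map_mul]; exact hx)
  have hσ2 : x.1.right * x.1.right = 1 := hr
  have hord : orderOf x.1.right = 2 :=
    orderOf_eq_prime (by rw [pow_two]; exact hσ2) hσ1
  have hss : ∀ t : F, x.1.right (x.1.right t) = t := by
    intro t
    have := congrArg (fun τ : RingAut F => τ t) hσ2
    exact this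
  obtain ⟨c, hc⟩ := x.2
  have hc0 : (c : F) ≠ 0 := Units.ne_zero c
  have hl0 : l ≠ 0 := scalar_ne_zero_of_act _ l hl
  -- the matrix identity
  have hgram := gram_of_semisim hQ x.1 c hc
  have hD0 : (gram Q).det ≠ 0 := gram_det_ne_zero hQ
  have hdet1 : (x.1.left.val).det ^ 2 * (gram Q).det =
      (c : F) ^ (2 * n) * x.1.right ((gram Q).det) := by
    have h3 := congrArg Matrix.det hgram
    rw [Matrix.det_mul, Matrix.det_mul, Matrix.det_transpose, Matrix.det_smul, hcard] at h3
    have h4 : ((gram Q).map x.1.right).det = x.1.right ((gram Q).det) := by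
      have := RingHom.map_det (x.1.right : F →+* F) (gram Q)
      exact this.symm
    rw [h4] at h3
    linear_combination h3
  -- the norm of the determinant
  have hleft : (x * x).1.left = x.1.left * gmapI x.1.right x.1.left := rfl
  have hdet2 : (x.1.left.val).det * x.1.right ((x.1.left.val).det) = l ^ (2 * n) := by
    have h3 := eq_scalarGL_of_act _ l hl0 hl
    rw [hleft] at h3
    have h4 : ((x.1.left * gmapI x.1.right x.1.left : GL I F) : Matrix I I F).det =
        ((scalarGL l hl0 : GL I F) : Matrix I I F).det := by rw [h3]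
    rw [Units.val_mul, Matrix.det_mul, det_scalarGL, hcard, gmapI_val] at h4
    have h5 : (x.1.left.val.map x.1.right).det = x.1.right ((x.1.left.val).det) := by
      have := RingHom.map_det (x.1.right : F →+* F) x.1.left.val
      exact this.symm
    rw [h5] at h4
    exact h4
  -- the norm of the multiplier
  have hmul : (c : F) * x.1.right (c : F) = l ^ 2 := by
    obtain ⟨v, hv⟩ := exists_nonsing hQ
    have h3 : Q (sact (x * x).1 v) = l ^ 2 * Q v := by
      rw [sact_eq_act _ hr, hl, Q_smul hQ]
    have h4 : Q (sact (x * x).1 v) = (c : F) * x.1.right (c : F) * Q v := by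
      have : (x * x).1 = x.1 * x.1 := rfl
      rw [this, sact_mul, hc, hc, map_mul, hss]
      ring
    rw [h3] at h4
    exact (mul_right_cancel₀ hv h4).symm
  -- the element of norm one
  have hcn0 : (c : F) ^ n ≠ 0 := pow_ne_zero _ hc0
  have hσcn0 : x.1.right ((c : F) ^ n) ≠ 0 := by
    rw [Ne, map_eq_zero]
    exact hcn0
  have hdn : (x.1.left.val).det / (c : F) ^ n * x.1.right ((x.1.left.val).det / (c : F) ^ n) =
      1 := by
    rw [map_div₀, div_mul_div_comm, hdet2, div_eq_one_iff_eq (mul_ne_zero hcn0 hσcn0), map_pow,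
      ← mul_pow, hmul, ← pow_mul]
  have hdsq : ((x.1.left.val).det / (c : F) ^ n) ^ 2 * (gram Q).det =
      x.1.right ((gram Q).det) := by
    rw [div_pow, div_mul_eq_mul_div, div_eq_iff (pow_ne_zero _ hcn0), hdet1, ← pow_mul]
    ring
  obtain ⟨d, hdd⟩ : ∃ d : F, d = (x.1.left.val).det / (c : F) ^ n := ⟨_, rfl⟩
  rw [← hdd] at hdn hdsq
  obtain ⟨e, he0, he⟩ := hilbert90_two x.1.right hσ2 hσ1 d hdn
  have hd0 : d ≠ 0 := by
    intro h0
    rw [h0, zero_mul] at hdn
    exact zero_ne_one hdn
  -- the fixed element
  have hfix : x.1.right ((gram Q).det / e ^ 2) = (gram Q).det / e ^ 2 := by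
    rw [map_div₀, map_pow, he, ← hdsq, mul_pow, mul_div_mul_left _ _ (pow_ne_zero 2 hd0)]
  have hsq1 := isSquare_of_fixed_invol h2 x.1.right hord _ hfix
  have hneg : IsSquare (-1 : F) := by
    apply isSquare_of_fixed_invol h2 x.1.right hord
    rw [map_neg, map_one]
  apply hD hneg
  obtain ⟨t, ht⟩ := hsq1
  refine ⟨t * e, ?_⟩
  have : (gram Q).det = (gram Q).det / e ^ 2 * e ^ 2 := by
    rw [div_mul_cancel₀ _ (pow_ne_zero _ he0)]
  rw [this, ht]
  ring

end generic

end Cfsg.Agent.Lib.H7AutPM
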