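import Mathlib

/-!
# The determinant of a matrix whose square is a scalar (helper7)

If `M * M = l • 1` for a matrix of size `2n`, and either `l` is a non-square or `M` is conjugate to
`-M`, then `det M = (-l)^n` (through the characteristic polynomial).
-/

set_option autoImplicit false
set_option linter.unusedSectionVars false

namespace Cfsg.Agent.Lib.H7AutPM

open Matrix Polynomial

universe u

section charpoly

variable {I : Type} [Fintype I] [DecidableEq I] {F : Type u} [Field F]

/-- `charpoly M * charpoly (-M) = (X² - l)^(card I)` when `M² = l` -/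
theorem charpoly_mul_charpoly_neg (M : Matrix I I F) (l : F) (hM : M * M = l • (1 : Matrix I I F)) :
    M.charpoly * (-M).charpoly = (X ^ 2 - C l) ^ Fintype.card I := by
  unfold Matrix.charpoly
  rw [← Matrix.det_mul]
  have h1 : charmatrix M * charmatrix (-M) = (X ^ 2 - C l : F[X]) • (1 : Matrix I I F[X]) := by
    unfold charmatrix
    rw [map_neg, sub_neg_eq_add]
    have hs : Matrix.scalar I (X : F[X]) = (X : F[X]) • (1 : Matrix I I F[X]) := by
      ext i j
      rw [Matrix.scalar_apply, Matrix.smul_apply]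
      by_cases hij : i = j
      · subst hij
        rw [Matrix.diagonal_apply_eq, Matrix.one_apply_eq, smul_eq_mul, mul_one]
      · rw [Matrix.diagonal_apply_ne _ hij, Matrix.one_apply_ne hij, smul_zero]
    have hsq : (C : F →+* F[X]).mapMatrix M * (C : F →+* F[X]).mapMatrix M =
        (C l : F[X]) • (1 : Matrix I I F[X]) := by
      rw [← map_mul, hM]
      ext i j
      rw [RingHom.mapMatrix_apply, Matrix.map_apply, Matrix.smul_apply, Matrix.smul_apply]
      by_cases hij : i = j
      · subst hij
        rw [Matrix.one_apply_eq, Matrix.one_apply_eq, smul_eq_mul, smul_eq_mul, mul_one, mul_one]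
      · rw [Matrix.one_apply_ne hij, Matrix.one_apply_ne hij, smul_zero, smul_zero, map_zero]
    rw [hs, sub_mul, mul_add, mul_add, hsq, smul_mul_assoc, one_mul, smul_mul_assoc, one_mul,
      mul_smul_comm, mul_one, sub_smul, pow_two, mul_smul]
    abel
  rw [h1, Matrix.det_smul, Matrix.det_one, mul_one]

theorem X_sq_sub_C_monic (l : F) : (X ^ 2 - C l : F[X]).Monic := monic_X_pow_sub_C l (by norm_num)

theorem X_sq_sub_C_natDegree (l : F) : (X ^ 2 - C l : F[X]).natDegree = 2 :=
  natDegree_X_pow_sub_C

/-- the determinant from the characteristic polynomial `(X² - l)^n` -/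
theorem det_of_charpoly_eq (M : Matrix I I F) (l : F) (n : ℕ) (hcard : Fintype.card I = 2 * n)
    (hp : M.charpoly = (X ^ 2 - C l) ^ n) : M.det = (-l) ^ n := by
  rw [Matrix.det_eq_sign_charpoly_coeff, hp, hcard, pow_mul, neg_one_sq, one_pow, one_mul,
    coeff_zero_eq_eval_zero, eval_pow, eval_sub, eval_pow, eval_X, eval_C]
  congr 1
  ring

/-- **`M² = l` and `M` conjugate to `-M`** -/
theorem det_of_sq_of_conj_neg (h2 : (2 : F) ≠ 0) (M : Matrix I I F) (l : F) (n : ℕ)
    (hcard : Fintype.card I = 2 * n) (hM : M * M = l • (1 : Matrix I I F))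
    (hconj : (-M).charpoly = M.charpoly) : M.det = (-l) ^ n := by
  apply det_of_charpoly_eq M l n hcard
  have h1 := charpoly_mul_charpoly_neg M l hM
  rw [hconj, hcard, pow_mul', ← pow_two] at h1
  rcases sq_eq_sq_iff_eq_or_eq_neg.1 h1 with h | h
  · exact h
  · exfalso
    have hm1 := Matrix.charpoly_monic M
    have hm2 : ((X ^ 2 - C l : F[X]) ^ n).Monic := (X_sq_sub_C_monic l).pow n
    have h3 : M.charpoly.leadingCoeff = (-((X ^ 2 - C l : F[X]) ^ n)).leadingCoeff := by rw [h]
    rw [leadingCoeff_neg, hm1.leadingCoeff, hm2.leadingCoeff] at h3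
    apply h2
    linear_combination h3

/-- **`M² = l` with `l` a non-square** -/
theorem det_of_sq_of_not_isSquare (M : Matrix I I F) (l : F) (n : ℕ)
    (hcard : Fintype.card I = 2 * n) (hM : M * M = l • (1 : Matrix I I F))
    (hl : ¬ IsSquare l) : M.det = (-l) ^ n := by
  apply det_of_charpoly_eq M l n hcard
  have h1 := charpoly_mul_charpoly_neg M l hM
  have hirr : Irreducible (X ^ 2 - C l : F[X]) := by
    apply irreducible_of_degree_le_three_of_not_isRoot
    · rw [X_sq_sub_C_natDegree]
      decide
    · intro x hx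
      apply hl
      rw [IsRoot.def, eval_sub, eval_pow, eval_X, eval_C, sub_eq_zero] at hx
      exact ⟨x, by rw [← hx, pow_two]⟩
  have hdvd : M.charpoly ∣ (X ^ 2 - C l : F[X]) ^ Fintype.card I := ⟨_, h1.symm⟩
  obtain ⟨j, -, hj⟩ := (dvd_prime_pow hirr.prime _).1 hdvd
  have hm1 := Matrix.charpoly_monic M
  have hm2 : ((X ^ 2 - C l : F[X]) ^ j).Monic := (X_sq_sub_C_monic l).pow j
  have h3 := eq_of_monic_of_associated hm1 hm2 hj
  have h4 := congrArg natDegree h3
  rw [Matrix.charpoly_natDegree_eq_dim, (X_sq_sub_C_monic l).natDegree_pow, X_sq_sub_C_natDegree,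
    hcard] at h4
  have h5 : j = n := by omega
  rw [h3, h5]

end charpoly

end Cfsg.Agent.Lib.H7AutPM
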