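import Cfsg.Agent.Lib.Helper7.AutPM.GrE
import Cfsg.Agent.Lib.Helper7.AutPM.GrF
import Mathlib

/-!
# Eigenspaces of involutory isometries and similarities of odd-dimensional subspaces (helper7)
-/

set_option autoImplicit false
set_option linter.unusedSectionVars false
set_option linter.style.haveILetI false

namespace Cfsg.Agent.Lib.H7AutPM

open Matrix Cfsg Cfsg.Agent.Lib.H7AutPSp Cfsg.Agent.Lib.H7AutPO Cfsg.Agent.Lib.H7AutPSL
  Cfsg.Agent.Lib.Helper5.OrthAut Cfsg.Agent.H9.Orth Cfsg.Agent.Lib.Helper5.OrthSN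
  Cfsg.Agent.Lib.Helper5.OrthPar Cfsg.Agent.Lib.Helper5.OrthCls Cfsg.Agent.Lib.Helper5.OrthPM

universe u v

section eig

variable {I : Type} [Fintype I] [DecidableEq I] {F : Type u} [Field F] [Fintype F]

/-- the rank of `s - 1` is the dimension of the `(-1)`-eigenspace of an involution -/
theorem rank_sub_one_eq_finrank (h2 : (2 : F) ≠ 0) (s : GL I F)
    (hss : ∀ v, act s (act s v) = v) :
    ((s : Matrix I I F) - 1).rank = Module.finrank F (eigS s (-1)) := by
  have hrange : LinearMap.range (((s : Matrix I I F) - 1).mulVecLin) = eigS s (-1) := by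
    ext x
    rw [LinearMap.mem_range, mem_eigS]
    constructor
    · rintro ⟨v, rfl⟩
      rw [Matrix.mulVecLin_apply, Matrix.sub_mulVec, Matrix.one_mulVec]
      show act s (act s v - v) = _
      rw [act_sub, hss, neg_one_smul, neg_sub]
    · intro hx
      refine ⟨(-(2 : F)⁻¹) • x, ?_⟩
      rw [Matrix.mulVecLin_apply, Matrix.sub_mulVec, Matrix.one_mulVec]
      show act s ((-(2 : F)⁻¹) • x) - (-(2 : F)⁻¹) • x = x
      rw [act_smul, hx, neg_one_smul, smul_neg, ← sub_eq_zero]
      have : -(-(2 : F)⁻¹ • x) - -(2 : F)⁻¹ • x - x = ((2 : F)⁻¹ + (2 : F)⁻¹ - 1) • x := by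
        rw [sub_smul, add_smul, one_smul, neg_smul]
        abel
      rw [this]
      have h3 : (2 : F)⁻¹ + (2 : F)⁻¹ - 1 = 0 := by
        field_simp
        ring
      rw [h3, zero_smul]
  unfold Matrix.rank
  rw [hrange]

/-- the two eigenspaces of an involution have complementary dimensions -/
theorem finrank_eigS_add (h2 : (2 : F) ≠ 0) (s : GL I F)
    (hss : ∀ v, act s (act s v) = v) :
    Module.finrank F (eigS s 1) + Module.finrank F (eigS s (-1)) = Fintype.card I := by
  have hdecomp : ∀ x : I → F, x = (2 : F)⁻¹ • (x + act s x) + (2 : F)⁻¹ • (x - act s x) := by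
    intro x
    rw [← smul_add]
    have : x + act s x + (x - act s x) = (2 : F) • x := by
      rw [two_smul]
      abel
    rw [this, smul_smul, inv_mul_cancel₀ h2, one_smul]
  have hplus : ∀ x : I → F, x + act s x ∈ eigS s 1 := by
    intro x
    rw [mem_eigS, act_add, hss, one_smul, add_comm]
  have hminus : ∀ x : I → F, x - act s x ∈ eigS s (-1) := by
    intro x
    rw [mem_eigS, act_sub, hss, neg_one_smul, neg_sub]
  have hsup : eigS s 1 ⊔ eigS s (-1) = ⊤ := by
    rw [eq_top_iff]
    intro x _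
    rw [hdecomp x]
    exact Submodule.add_mem _
      (Submodule.mem_sup_left (Submodule.smul_mem _ _ (hplus x)))
      (Submodule.mem_sup_right (Submodule.smul_mem _ _ (hminus x)))
  have hinf : eigS s 1 ⊓ eigS s (-1) = ⊥ := by
    rw [eq_bot_iff]
    intro x hx
    obtain ⟨hx1, hx2⟩ := Submodule.mem_inf.1 hx
    rw [mem_eigS] at hx1 hx2
    rw [Submodule.mem_bot]
    rw [hx1, one_smul, neg_one_smul] at hx2
    have h3 : (2 : F) • x = 0 := by
      rw [two_smul]
      nth_rewrite 1 [hx2]
      exact neg_add_cancel x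
    rcases smul_eq_zero.1 h3 with h | h
    · exact absurd h h2
    · exact h
  have h1 := Submodule.finrank_sup_add_finrank_inf_eq (eigS s 1) (eigS s (-1))
  rw [hsup, hinf, finrank_top, finrank_bot, add_zero, Module.finrank_fintype_fun_eq_card] at h1
  exact h1.symm

/-- an invertible map sending one subspace into another: dimension inequality -/
theorem finrank_le_of_act_mem (h : GL I F) (U W : Submodule F (I → F))
    (hUW : ∀ x ∈ U, act h x ∈ W) : Module.finrank F U ≤ Module.finrank F W := by
  have hmem : ∀ x : U, Matrix.mulVecLin (h : Matrix I I F) (U.subtype x) ∈ W := fun x => hUW x.1 x.2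
  let f : U →ₗ[F] W := LinearMap.codRestrict W
    ((Matrix.mulVecLin (h : Matrix I I F)).comp U.subtype) hmem
  apply LinearMap.finrank_le_finrank_of_injective (f := f)
  intro x y hxy
  have h1 : (f x : I → F) = (f y : I → F) := congrArg Subtype.val hxy
  have h3 : act h x.1 = act h y.1 := h1
  exact Subtype.ext (act_injective h h3)

end eig

section odd

variable {I : Type} [Fintype I] [DecidableEq I] {F : Type u} [Field F]
  {Q : (I → F) → F} (hQ : Cfsg.Geo.IsNondegenerateQuadraticForm Q)

include hQ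

/-- **a similarity of a nondegenerate subspace of odd dimension has a square multiplier** -/
theorem isSquare_mu_of_odd_invariant (W : Submodule F (I → F))
    (hW : W ⊓ perp hQ W = ⊥) (h : GL I F) (μ : F) (hμ0 : μ ≠ 0)
    (hh : ∀ v, Q (act h v) = μ * Q v) (hinv : ∀ x ∈ W, act h x ∈ W)
    (hodd : Odd (Module.finrank F W)) : IsSquare μ := by
  classical
  have hnd : ((BF hQ).restrict W).Nondegenerate :=
    (BF hQ).nondegenerate_restrict_of_disjoint_orthogonal (BF_isRefl hQ) (disjoint_iff.2 hW)
  let b := Module.finBasis F W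
  have hdet0 : (LinearMap.BilinForm.toMatrix b ((BF hQ).restrict W)).det ≠ 0 :=
    (LinearMap.BilinForm.nondegenerate_iff_det_ne_zero b).1 hnd
  have hmem : ∀ x : W, Matrix.mulVecLin (h : Matrix I I F) (W.subtype x) ∈ W :=
    fun x => hinv x.1 x.2
  let φ : W →ₗ[F] W := LinearMap.codRestrict W
    ((Matrix.mulVecLin (h : Matrix I I F)).comp W.subtype) hmem
  have hφ : ∀ x : W, (φ x : I → F) = act h x.1 := fun x => rfl
  have hpol : ∀ x y, pol Q (act h x) (act h y) = μ * pol Q x y := by
    intro x y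
    unfold pol QuadraticMap.polar
    rw [← act_add, hh, hh, hh]
    ring
  have hcomp : ((BF hQ).restrict W).comp φ φ = μ • ((BF hQ).restrict W) := by
    ext x y
    show pol Q (φ x : I → F) (φ y : I → F) = μ * pol Q x.1 y.1
    rw [hφ, hφ, hpol]
  have hmat := LinearMap.BilinForm.toMatrix_comp b b ((BF hQ).restrict W) φ φ
  rw [hcomp, map_smul] at hmat
  have hdet := congrArg Matrix.det hmat
  rw [Matrix.det_smul, Matrix.det_mul, Matrix.det_mul, Matrix.det_transpose,
    Fintype.card_fin] at hdet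
  obtain ⟨k, hk⟩ := hodd
  have h5 : μ ^ (Module.finrank F W) = (LinearMap.toMatrix b b φ).det ^ 2 := by
    apply mul_right_cancel₀ hdet0
    rw [hdet]
    ring
  obtain ⟨δ, hδ⟩ : ∃ δ : F, δ = (LinearMap.toMatrix b b φ).det := ⟨_, rfl⟩
  rw [← hδ, hk, pow_succ, pow_mul] at h5
  refine ⟨δ / μ ^ k, ?_⟩
  have hk0 : μ ^ k ≠ 0 := pow_ne_zero _ hμ0
  rw [div_mul_div_comm, eq_div_iff (mul_ne_zero hk0 hk0), ← pow_two δ, ← h5]
  ring

end odd

end Cfsg.Agent.Lib.H7AutPM
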