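import Cfsg.Agent.Lib.Helper7.AutPM.GrG
import Cfsg.Agent.Lib.Helper5.OrthAut.InndiagMinusMain
import Cfsg.Agent.Lib.Helper5.Orth.SpinorMinusNeg
import Mathlib

/-!
# Involutory graph automorphisms when `-1 ∉ Ω` and half the dimension is even (helper7)

For `Q` of dimension `2n` with `n` even and `-1 ∉ Ω(Q)`: the centraliser in `inndiagGen` of an
involution induced by a similarity outside `inndiagGen` consists of inner automorphisms, so the
class splits into two.
-/

set_option autoImplicit false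
set_option linter.unusedSectionVars false
set_option linter.style.haveILetI false

namespace Cfsg.Agent.Lib.H7AutPM

open Matrix Cfsg Cfsg.Agent.Lib.H7AutPSp Cfsg.Agent.Lib.H7AutPO Cfsg.Agent.Lib.H7AutPSL
  Cfsg.Agent.Lib.Helper5.OrthAut Cfsg.Agent.H9.Orth Cfsg.Agent.Lib.Helper5.OrthSN
  Cfsg.Agent.Lib.Helper5.OrthPar Cfsg.Agent.Lib.Helper5.OrthCls Cfsg.Agent.Lib.Helper5.OrthPM

universe u v

section generic

variable {I : Type} [Fintype I] [DecidableEq I] {F : Type u} [Field F] [Fintype F]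
  {Q : (I → F) → F} (hQ : Cfsg.Geo.IsNondegenerateQuadraticForm Q)

include hQ

/-- the `(-1)`-eigenspace of an involutory isometry is nondegenerate -/
theorem eigS_neg_inf_perp (h2 : (2 : F) ≠ 0) (s : GL I F) (hs : s ∈ Cfsg.isometryGroup F Q)
    (hss : ∀ v, act s (act s v) = v) : eigS s (-1) ⊓ perp hQ (eigS s (-1)) = ⊥ := by
  have hdecomp : ∀ x : I → F, x = (2 : F)⁻¹ • (x + act s x) + (2 : F)⁻¹ • (x - act s x) := by
    intro x
    rw [← smul_add]
    have : x + act s x + (x - act s x) = (2 : F) • x := by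
      rw [two_smul]
      abel
    rw [this, smul_smul, inv_mul_cancel₀ h2, one_smul]
  have hplus : ∀ x : I → F, x + act s x ∈ eigS s 1 := by
    intro x
    rw [mem_eigS, act_add, hss, one_smul, add_comm]
  have hminus : ∀ x : I → F, x - act s x ∈ eigS s (-1) := by
    intro x
    rw [mem_eigS, act_sub, hss, neg_one_smul, neg_sub]
  have horth : ∀ x ∈ eigS s 1, ∀ y ∈ eigS s (-1), pol Q x y = 0 := by
    intro x hx y hy
    rw [mem_eigS] at hx hy
    have h1 := pol_act s hs x y
    rw [hx, hy, one_smul, neg_one_smul, pol_neg_right hQ] at h1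
    have h3 : (2 : F) * pol Q x y = 0 := by linear_combination -h1
    rcases mul_eq_zero.1 h3 with h | h
    · exact absurd h h2
    · exact h
  rw [eq_bot_iff]
  intro x hx
  obtain ⟨hx1, hx2⟩ := Submodule.mem_inf.1 hx
  rw [mem_perp] at hx2
  rw [Submodule.mem_bot]
  apply (BF_nondegenerate hQ).2 x
  intro w
  rw [BF_apply, hdecomp w, pol_add_left hQ, pol_smul_left hQ, pol_smul_left hQ,
    hx2 _ (hminus w), horth _ (hplus w) x hx1]
  ring

/-- two similarities inducing commuting automorphisms commute up to a sign -/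
theorem commute_up_to_sign [Nonempty I] (hn : 7 ≤ Fintype.card I)
    (gs hs : ↥(Cfsg.Geo.quadSimilarityGroup (F := F) Q))
    (hcomm : DhO Q hs * DhO Q gs = DhO Q gs * DhO Q hs) :
    ∃ ε : F, (ε = 1 ∨ ε = -1) ∧
      ∀ v, act (hs : GL I F) (act (gs : GL I F) v) = ε • act (gs : GL I F) (act (hs : GL I F) v) := by
  have h1 : DhO Q (hs * gs * hs⁻¹ * gs⁻¹) = 1 := by
    rw [map_mul, map_mul, map_mul, map_inv, map_inv, hcomm]
    group
  obtain ⟨ε, hε⟩ := scalar_of_DhO_eq_one hQ hn _ h1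
  have hcoe : ((hs * gs * hs⁻¹ * gs⁻¹ : ↥(Cfsg.Geo.quadSimilarityGroup (F := F) Q)) : GL I F) =
      (hs : GL I F) * (gs : GL I F) * (hs : GL I F)⁻¹ * (gs : GL I F)⁻¹ := rfl
  have hrel : ∀ v, act (hs : GL I F) (act (gs : GL I F) v) =
      ε • act (gs : GL I F) (act (hs : GL I F) v) := by
    intro v
    have h3 := hε (act (gs : GL I F) (act (hs : GL I F) v))
    rw [hcoe, act_mul, act_mul, act_mul, act_inv_act, act_inv_act] at h3
    exact h3
  refine ⟨ε, ?_, hrel⟩
  obtain ⟨x, hx⟩ := exists_nonsing hQ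
  have h4 := congrArg Q (hrel x)
  rw [mu_spec hs, mu_spec gs, Q_smul hQ, mu_spec gs, mu_spec hs] at h4
  have hμg : (mu gs : F) ≠ 0 := Units.ne_zero _
  have hμh : (mu hs : F) ≠ 0 := Units.ne_zero _
  have h5 : (ε ^ 2 - 1) * ((mu hs : F) * (mu gs : F) * Q x) = 0 := by linear_combination -h4
  have h6 : ε ^ 2 = 1 := by
    rcases mul_eq_zero.1 h5 with h | h
    · exact sub_eq_zero.1 h
    · exact absurd h (mul_ne_zero (mul_ne_zero hμh hμg) hx)
  have : (ε - 1) * (ε + 1) = 0 := by linear_combination h6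
  rcases mul_eq_zero.1 this with h | h
  · exact Or.inl (sub_eq_zero.1 h)
  · exact Or.inr (eq_neg_of_add_eq_zero_left h)

/-- when `-1 ∉ Ω`: a similarity with `det = μ^n` and square multiplier induces an inner
automorphism -/
theorem DhO_mem_inn_of_sq_mu [Nonempty I] (hn : 7 ≤ Fintype.card I) (h2 : (2 : F) ≠ 0)
    (hgen : Cfsg.isometryGroup F Q ≤ RR hQ) (n : ℕ) (hcard : Fintype.card I = 2 * n)
    (hno : ¬ ∃ g : ↥(Cfsg.isometryGroup F Q), g ∈ Cfsg.Omega F Q ∧
      ((g : GL I F) : Matrix I I F) = -1)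
    (hs : ↥(Cfsg.Geo.quadSimilarityGroup (F := F) Q))
    (hdet : ((hs : GL I F) : Matrix I I F).det = (mu hs : F) ^ n)
    (hsq : IsSquare (mu hs : F)) : DhO Q hs ∈ Cfsg.Inn (Cfsg.POmega F Q) := by
  obtain ⟨c, hc⟩ := hsq
  obtain ⟨hc0, h', hh', e⟩ := exists_scalar_mul_iso hQ hs c hc
  have hdet' : (h' : Matrix I I F).det = 1 := by
    rw [e, Units.val_mul, Matrix.det_mul, det_scalarGL, hcard, hc, pow_mul, pow_two] at hdet
    have h4 : (c * c) ^ n ≠ 0 := pow_ne_zero _ (mul_ne_zero hc0 hc0)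
    exact mul_left_cancel₀ h4 (by rw [hdet, mul_one])
  have e' : hs = (⟨scalarGL c hc0, scalarGL_mem_GO hQ c hc0⟩ :
        ↥(Cfsg.Geo.quadSimilarityGroup (F := F) Q)) * ⟨h', iso_le_sim Q hh'⟩ := Subtype.ext e
  rw [e', map_mul, DhO_scalarG hQ, one_mul]
  have hev : Even (Fintype.card I) := ⟨n, by rw [hcard]; ring⟩
  have h1 := relIndex_inn_pso_of_not hQ hn h2 hgen hev hno
  rw [Subgroup.relIndex_eq_one] at h1
  apply h1
  rw [psoAut_eq, DhO_eq_conjHom]
  refine ⟨_, ?_, rfl⟩
  rw [SetLike.mem_coe, Subgroup.mem_subgroupOf]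
  refine Subgroup.mem_inf.2 ⟨hh', ?_⟩
  show h' ∈ (Matrix.GeneralLinearGroup.det : GL I F →* Fˣ).ker
  rw [MonoidHom.mem_ker]
  apply Units.ext
  rw [Units.val_one]
  exact hdet'

/-- `n` even: a similarity inducing an involution outside `inndiagGen` is a scalar multiple of an
involutory isometry of determinant `≠ 1` -/
theorem invol_data_of_even [Nonempty I] (hn : 7 ≤ Fintype.card I) (h2 : (2 : F) ≠ 0)
    (n : ℕ) (hcard : Fintype.card I = 2 * n) (hev : Even n)
    (gs : ↥(Cfsg.Geo.quadSimilarityGroup (F := F) Q)) (hgg : DhO Q gs * DhO Q gs = 1)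
    (hdet : ((gs : GL I F) : Matrix I I F).det ≠ (mu gs : F) ^ n) :
    ∃ (c : F) (hc0 : c ≠ 0) (s : GL I F), s ∈ Cfsg.isometryGroup F Q ∧
      (gs : GL I F) = scalarGL c hc0 * s ∧ (∀ v, act s (act s v) = v) ∧
      (s : Matrix I I F).det ≠ 1 := by
  obtain ⟨l, hl⟩ := scalar_of_DhO_eq_one hQ hn (gs * gs) (by rw [map_mul]; exact hgg)
  have hl' : ∀ v, act (gs : GL I F) (act (gs : GL I F) v) = l • v := by
    intro v
    rw [← act_mul]
    exact hl v
  have hμ : ∀ v, Q (act (gs : GL I F) v) = (mu gs : F) * Q v := mu_spec gs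
  have hμ0 : (mu gs : F) ≠ 0 := Units.ne_zero _
  obtain ⟨x₀, hx₀⟩ := exists_nonsing hQ
  have hl2 : l ^ 2 = (mu gs : F) ^ 2 := by
    have h3 := hμ (act (gs : GL I F) x₀)
    rw [hl', hμ, Q_smul hQ] at h3
    have h4 : (l ^ 2 - (mu gs : F) ^ 2) * Q x₀ = 0 := by linear_combination h3
    rcases mul_eq_zero.1 h4 with h5 | h5
    · exact sub_eq_zero.1 h5
    · exact absurd h5 hx₀
  have hl0 : l ≠ 0 := scalar_ne_zero_of_act _ l hl
  -- the matrix identity `g * g = l`
  have hM : ((gs : GL I F) : Matrix I I F) * ((gs : GL I F) : Matrix I I F) =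
      l • (1 : Matrix I I F) := by
    have h3 : (gs : GL I F) * (gs : GL I F) = scalarGL l hl0 :=
      eq_scalarGL_of_act _ l hl0 (fun v => by rw [act_mul]; exact hl' v)
    have h4 := congrArg Units.val h3
    rw [Units.val_mul] at h4
    exact h4
  have hcases : l = (mu gs : F) ∨ l = -(mu gs : F) := by
    have : (l - (mu gs : F)) * (l + (mu gs : F)) = 0 := by linear_combination hl2
    rcases mul_eq_zero.1 this with h5 | h5
    · exact Or.inl (sub_eq_zero.1 h5)
    · exact Or.inr (eq_neg_of_add_eq_zero_left h5)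
  have hpowev : ∀ t : F, (-t) ^ n = t ^ n := fun t => hev.neg_pow t
  rcases hcases with hl1 | hl1
  · -- `l = μ`
    by_cases hsq : IsSquare (mu gs : F)
    · obtain ⟨c, hc⟩ := hsq
      obtain ⟨hc0, s, hs, e⟩ := exists_scalar_mul_iso hQ gs c hc
      have hact : ∀ v, act (gs : GL I F) v = c • act s v := by
        intro v
        rw [e, act_mul, act_scalarGL]
      have hss : ∀ v, act s (act s v) = v := by
        intro v
        have h3 := hl' v
        rw [hact, hact, act_smul, smul_smul, hl1, hc] at h3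
        have h4 : act s (act s v) = (c * c)⁻¹ • ((c * c) • act s (act s v)) := by
          rw [smul_smul, inv_mul_cancel₀ (mul_ne_zero hc0 hc0), one_smul]
        rw [h4, h3, smul_smul, inv_mul_cancel₀ (mul_ne_zero hc0 hc0), one_smul]
      refine ⟨c, hc0, s, hs, e, hss, ?_⟩
      intro h1
      apply hdet
      rw [e, Units.val_mul, Matrix.det_mul, det_scalarGL, h1, mul_one, hcard, hc, pow_mul, pow_two]
    · exfalso
      apply hdet
      rw [← hl1] at hsq
      rw [det_of_sq_of_not_isSquare _ l n hcard hM hsq, hpowev, hl1]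
  · -- `l = -μ`: impossible
    exfalso
    apply hdet
    have hG := gram_of_sim hQ ((gs : GL I F) : Matrix I I F) (mu gs : F) hμ
    have hGdet : (gram Q).det ≠ 0 := gram_det_ne_zero hQ
    -- `gᵀ G = G (-g)`
    have h3 : ((gs : GL I F) : Matrix I I F)ᵀ * gram Q =
        gram Q * (-((gs : GL I F) : Matrix I I F)) := by
      have h4 : ((gs : GL I F) : Matrix I I F)ᵀ * gram Q * ((gs : GL I F) : Matrix I I F) *
          ((gs : GL I F) : Matrix I I F) = (mu gs : F) • gram Q * ((gs : GL I F) : Matrix I I F) := by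
        rw [hG]
      rw [Matrix.mul_assoc, hM, Matrix.mul_smul, Matrix.mul_one, hl1, neg_smul,
        Matrix.smul_mul] at h4
      have h5 : (mu gs : F) • (((gs : GL I F) : Matrix I I F)ᵀ * gram Q) =
          (mu gs : F) • (gram Q * (-((gs : GL I F) : Matrix I I F))) := by
        rw [Matrix.mul_neg, smul_neg, ← h4, neg_neg]
      have h6 := congrArg (fun M : Matrix I I F => (mu gs : F)⁻¹ • M) h5
      simp only [smul_smul, inv_mul_cancel₀ hμ0, one_smul] at h6
      exact h6
    have hunit : IsUnit (gram Q).det := isUnit_iff_ne_zero.2 hGdet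
    have h7 : ((gs : GL I F) : Matrix I I F)ᵀ =
        gram Q * (-((gs : GL I F) : Matrix I I F)) * (gram Q)⁻¹ := by
      rw [← h3, Matrix.mul_nonsing_inv_cancel_right _ _ hunit]
    have hconj : (-((gs : GL I F) : Matrix I I F)).charpoly =
        ((gs : GL I F) : Matrix I I F).charpoly := by
      have h8 := Matrix.charpoly_units_conj (Matrix.nonsingInvUnit (gram Q) hunit)
        (-((gs : GL I F) : Matrix I I F))
      have hval : (Matrix.nonsingInvUnit (gram Q) hunit).val = gram Q := rfl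
      rw [hval, ← h7, Matrix.charpoly_transpose] at h8
      exact h8.symm
    rw [det_of_sq_of_conj_neg h2 _ l n hcard hM hconj, hl1, neg_neg]

/-- **`-1 ∉ Ω`, `n` even: the centraliser of the involution in `inndiagGen` is inner** -/
theorem cent_le_inn_of_even [Nonempty I] (hn : 7 ≤ Fintype.card I) (h2 : (2 : F) ≠ 0)
    (hgen : Cfsg.isometryGroup F Q ≤ RR hQ) (n : ℕ) (hcard : Fintype.card I = 2 * n)
    (hev : Even n)
    (hno : ¬ ∃ g : ↥(Cfsg.isometryGroup F Q), g ∈ Cfsg.Omega F Q ∧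
      ((g : GL I F) : Matrix I I F) = -1)
    (gs : ↥(Cfsg.Geo.quadSimilarityGroup (F := F) Q)) (hgg : DhO Q gs * DhO Q gs = 1)
    (hdet : ((gs : GL I F) : Matrix I I F).det ≠ (mu gs : F) ^ n) :
    inndiagGen hQ h2 n hcard ⊓ Subgroup.centralizer {DhO Q gs} ≤ Cfsg.Inn (Cfsg.POmega F Q) := by
  intro δ hδ
  obtain ⟨hδD, hδC⟩ := Subgroup.mem_inf.1 hδ
  rw [mem_centralizer_singleton] at hδC
  -- a similarity inducing `δ`
  have hδD' := hδD
  unfold inndiagGen at hδD'
  obtain ⟨hs, hhs, rfl⟩ := hδD'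
  rw [← DhO_eq_conjHom] at hδC hδD ⊢
  have hdeth := (DhO_mem_inndiagGen_iff hQ hn h2 n hcard hs).1 hδD
  obtain ⟨c, hc0, s, hs', e, hss, hdets⟩ := invol_data_of_even hQ hn h2 n hcard hev gs hgg hdet
  obtain ⟨ε, hε, hrel⟩ := commute_up_to_sign hQ hn gs hs hδC
  have hact : ∀ v, act (gs : GL I F) v = c • act s v := by
    intro v
    rw [e, act_mul, act_scalarGL]
  -- `h s = ε s h`
  have hrel' : ∀ v, act (hs : GL I F) (act s v) = ε • act s (act (hs : GL I F) v) := by
    intro v
    have h3 := hrel v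
    rw [hact, hact, act_smul, smul_comm] at h3
    have h4 := congrArg (fun w : I → F => c⁻¹ • w) h3
    simp only [smul_smul, inv_mul_cancel_left₀ hc0, inv_mul_cancel₀ hc0, one_smul] at h4
    exact h4
  have hnpar : ¬ par s := fun hp => hdets ((par_iff_det hQ h2 hgen s hs').1 hp)
  rcases hε with hε1 | hε1
  · -- commuting: the `(-1)`-eigenspace is invariant and odd-dimensional
    rw [hε1] at hrel'
    simp only [one_smul] at hrel'
    have hinv : ∀ x ∈ eigS s (-1), act (hs : GL I F) x ∈ eigS s (-1) := by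
      intro x hx
      rw [mem_eigS] at hx ⊢
      rw [← hrel', hx, act_smul]
    have hodd : Odd (Module.finrank F (eigS s (-1))) := by
      rw [← rank_sub_one_eq_finrank h2 s hss, ← Nat.not_even_iff_odd]
      exact hnpar
    have hsq := isSquare_mu_of_odd_invariant hQ (eigS s (-1))
      (eigS_neg_inf_perp hQ h2 s hs' hss) (hs : GL I F) (mu hs : F) (Units.ne_zero _)
      (mu_spec hs) hinv hodd
    exact DhO_mem_inn_of_sq_mu hQ hn h2 hgen n hcard hno hs hdeth hsq
  · -- anticommuting: impossible for `n` even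
    exfalso
    rw [hε1] at hrel'
    apply hnpar
    have h12 : ∀ x ∈ eigS s 1, act (hs : GL I F) x ∈ eigS s (-1) := by
      intro x hx
      rw [mem_eigS] at hx ⊢
      have h3 := hrel' x
      rw [hx, one_smul, neg_one_smul] at h3
      rw [neg_one_smul]
      exact (neg_eq_iff_eq_neg.2 h3).symm
    have h21 : ∀ x ∈ eigS s (-1), act (hs : GL I F) x ∈ eigS s 1 := by
      intro x hx
      rw [mem_eigS] at hx ⊢
      have h3 := hrel' x
      rw [hx, act_smul, neg_one_smul, neg_one_smul] at h3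
      rw [one_smul]
      exact (neg_injective h3).symm
    have hle1 := finrank_le_of_act_mem (hs : GL I F) _ _ h12
    have hle2 := finrank_le_of_act_mem (hs : GL I F) _ _ h21
    have hsum := finrank_eigS_add h2 s hss
    have hfin : Module.finrank F (eigS s (-1)) = n := by omega
    show Even ((s : Matrix I I F) - 1).rank
    rw [rank_sub_one_eq_finrank h2 s hss, hfin]
    exact hev

/-- **`-1 ∉ Ω`, `n` even: the class of the involution splits into two** -/
theorem graph_invol_split_even [Nonempty I] (hn : 7 ≤ Fintype.card I) (h2 : (2 : F) ≠ 0)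
    (hgen : Cfsg.isometryGroup F Q ≤ RR hQ) (n : ℕ) (hcard : Fintype.card I = 2 * n)
    (hev : Even n) (d : GL I F) (c : F) (hc : ¬ IsSquare c) (hd : ∀ v, Q (act d v) = c * Q v)
    (hno : ¬ ∃ g : ↥(Cfsg.isometryGroup F Q), g ∈ Cfsg.Omega F Q ∧
      ((g : GL I F) : Matrix I I F) = -1)
    (gs : ↥(Cfsg.Geo.quadSimilarityGroup (F := F) Q)) (hgg : DhO Q gs * DhO Q gs = 1)
    (hdet : ((gs : GL I F) : Matrix I I F).det ≠ (mu gs : F) ^ n) :
    Cfsg.splitClassCount (inndiagGen hQ h2 n hcard) (Cfsg.Inn (Cfsg.POmega F Q)) (DhO Q gs) =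
      2 := by
  haveI := innNormal (Cfsg.POmega F Q)
  have hKD := inn_le_inndiagGen hQ hn h2 hgen n hcard
  have hidx := relIndex_inn_inndiagGen_of_not hQ hn h2 hgen n hcard d c hc hd hno
  rw [splitClassCount_eq _ _ hKD]
  have hS : splitSub (inndiagGen hQ h2 n hcard) (Cfsg.Inn (Cfsg.POmega F Q)) (DhO Q gs) =
      Cfsg.Inn (Cfsg.POmega F Q) :=
    sup_eq_left.2 (cent_le_inn_of_even hQ hn h2 hgen n hcard hev hno gs hgg hdet)
  rw [hS, hidx]

end generic

end Cfsg.Agent.Lib.H7AutPM
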