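import Cfsg.Agent.Lib.Helper7.AutPM.GrH
import Mathlib

/-!
# Class splitting of involutory graph automorphisms of `PΩ⁻_{2m+2}(q)`, `q` odd (helper7)
-/

set_option autoImplicit false
set_option linter.unusedSectionVars false
set_option linter.style.haveILetI false

namespace Cfsg.Agent.Lib.H7AutPM

open Matrix Cfsg Cfsg.Agent.Lib.H7AutPSp Cfsg.Agent.Lib.H7AutPO Cfsg.Agent.Lib.H7AutPSL
  Cfsg.Agent.Lib.Helper5.OrthAut Cfsg.Agent.H9.Orth Cfsg.Agent.Lib.Helper5.OrthSN
  Cfsg.Agent.Lib.Helper5.OrthPar Cfsg.Agent.Lib.Helper5.OrthCls Cfsg.Agent.Lib.Helper5.OrthPM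

universe u v

section gram

variable {F : Type u} [Field F] (m : ℕ) (a b : F)

/-- the Gram matrix of the minus-type form -/
theorem gram_minus_eq :
    gram (Cfsg.quadFormMinus m F a b) =
      Matrix.fromBlocks (Matrix.fromBlocks 0 1 1 0) 0 0 (!![2, a; a, 2 * b]) := by
  ext p q
  rw [Cfsg.Agent.Lib.H7AutPO.gram_apply, Cfsg.Agent.Lib.Helper5.OrthPM.polar_quadFormMinus]
  rcases p with (i | i) | i <;> rcases q with (j | j) | j
  · simp
  · simp [Matrix.one_apply, Pi.single_apply, eq_comm]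
  · simp
  · simp [Matrix.one_apply, Pi.single_apply, eq_comm]
  · simp
  · simp
  · simp
  · simp
  · fin_cases i <;> fin_cases j <;> simp

/-- the Gram determinant of the minus-type form is `±(4b - a²)` -/
theorem gram_minus_det :
    ∃ δ : F, δ * δ = 1 ∧ (gram (Cfsg.quadFormMinus m F a b)).det = δ * (4 * b - a ^ 2) := by
  refine ⟨(Matrix.fromBlocks (0 : Matrix (Fin m) (Fin m) F) (1 : Matrix (Fin m) (Fin m) F)
    (1 : Matrix (Fin m) (Fin m) F) (0 : Matrix (Fin m) (Fin m) F)).det, ?_, ?_⟩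
  · rw [← Matrix.det_mul, Matrix.fromBlocks_multiply]
    simp only [Matrix.mul_zero, Matrix.mul_one, zero_add,
      add_zero, Matrix.fromBlocks_one, Matrix.det_one]
  · rw [gram_minus_eq, Matrix.det_fromBlocks_zero₂₁, Matrix.det_fin_two_of]
    ring

/-- when `-1` is a square the Gram determinant of an anisotropic-type form is a non-square -/
theorem gram_minus_det_not_isSquare (h2 : (2 : F) ≠ 0)
    (hab : ∀ z₁ z₂ : F, z₁ ^ 2 + a * z₁ * z₂ + b * z₂ ^ 2 = 0 → z₁ = 0 ∧ z₂ = 0)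
    (hneg : IsSquare (-1 : F)) : ¬ IsSquare (gram (Cfsg.quadFormMinus m F a b)).det := by
  obtain ⟨δ, hδ, hdet⟩ := gram_minus_det m a b
  obtain ⟨i, hi⟩ := hneg
  have hΔ := disc_not_isSquare h2 a b hab
  rintro ⟨t, ht⟩
  rw [hdet] at ht
  have hcases : δ = 1 ∨ δ = -1 := by
    have : (δ - 1) * (δ + 1) = 0 := by linear_combination hδ
    rcases mul_eq_zero.1 this with h5 | h5
    · exact Or.inl (sub_eq_zero.1 h5)
    · exact Or.inr (eq_neg_of_add_eq_zero_left h5)
  apply hΔ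
  rcases hcases with h | h
  · refine ⟨i * t, ?_⟩
    rw [h] at ht
    linear_combination (-1 : F) * ht + (t * t) * hi
  · refine ⟨t, ?_⟩
    rw [h] at ht
    linear_combination ht

end gram

section minus

variable {F : Type u} [Field F] [Fintype F] {m : ℕ}

set_option maxHeartbeats 800000 in
/-- **involutory graph automorphisms of `PΩ⁻_{2m+2}(q)`, `q` odd: class splitting** -/
theorem graph_invol_main_M (hodd : Odd (Fintype.card F)) (hm : 3 ≤ m) (a b : F)
    (hab : ∀ z₁ z₂ : F, z₁ ^ 2 + a * z₁ * z₂ + b * z₂ ^ 2 = 0 → z₁ = 0 ∧ z₂ = 0)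
    (γ : MulAut (Cfsg.POmega F (Cfsg.quadFormMinus m F a b)))
    (hγ : Cfsg.IsGraphAutClassPOmegaMinus m a b γ) (hγ2 : orderOf γ = 2) :
    (Cfsg.splitClassCount (Cfsg.inndiagPOmegaMinus m F a b)
        (Cfsg.Inn (Cfsg.POmega F (Cfsg.quadFormMinus m F a b))) γ = 1 ∨
      Cfsg.splitClassCount (Cfsg.inndiagPOmegaMinus m F a b)
        (Cfsg.Inn (Cfsg.POmega F (Cfsg.quadFormMinus m F a b))) γ = 2) ∧
      (¬ (Even m ∧ Fintype.card F % 4 = 1) →
        Cfsg.splitClassCount (Cfsg.inndiagPOmegaMinus m F a b)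
          (Cfsg.Inn (Cfsg.POmega F (Cfsg.quadFormMinus m F a b))) γ = 2) := by
  classical
  haveI : Nonempty ((Fin m ⊕ Fin m) ⊕ Fin 2) := ⟨Sum.inr 0⟩
  have h2 := two_ne_zero_of_odd_card hodd
  have hab' := disc_ne_zero h2 a b hab
  have hQ := quadFormMinus_nondeg (F := F) m a b hab'
  have hcard := card_minus m
  have hn : 7 ≤ Fintype.card ((Fin m ⊕ Fin m) ⊕ Fin 2) := by rw [hcard]; omega
  have hgen := iso_le_RR hQ (Or.inl (card_ne_two_of_odd_card hodd))
  obtain ⟨d, c, hc, hd⟩ := exists_sim_minus_nonsquare m h2 a b hab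
  obtain ⟨hγΓ, hγD, -⟩ := hγ
  have hγγ : γ * γ = 1 := by
    have h3 := pow_orderOf_eq_one γ
    rw [hγ2, pow_two] at h3
    exact h3
  -- `γ` is induced by a similarity
  rw [gammaPOmega_eq] at hγΓ
  obtain ⟨x, rfl⟩ := hγΓ
  have hright : x.1.right = 1 :=
    right_eq_one_of_PsO_sq hQ hn h2 (m + 1) hcard
      (gram_minus_det_not_isSquare m a b h2 hab) x hγγ
  have hxker : x ∈ (rightO (Cfsg.quadFormMinus m F a b)).ker := by
    rw [MonoidHom.mem_ker, rightO_apply]
    exact hright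
  rw [rightO_ker] at hxker
  obtain ⟨gs, rfl⟩ := hxker
  rw [PsO_simIncl] at hγγ hγD ⊢
  rw [inndiagMinus_eq m a b hodd hab] at hγD ⊢
  have hdet : ((gs : GL ((Fin m ⊕ Fin m) ⊕ Fin 2) F) :
      Matrix ((Fin m ⊕ Fin m) ⊕ Fin 2) ((Fin m ⊕ Fin m) ⊕ Fin 2) F).det ≠
      (mu gs : F) ^ (m + 1) := by
    intro h
    exact hγD ((DhO_mem_inndiagGen_iff hQ hn h2 (m + 1) hcard gs).2 h)
  have hiff := minus_neg_one_iff m a b hodd hab
  by_cases h4 : Fintype.card F ^ (m + 1) % 4 = 3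
  · obtain ⟨g₀, hg₀, hval⟩ := hiff.2 h4
    have key := graph_invol_split_four hQ hn h2 hgen (m + 1) hcard d c hc hd g₀ hg₀ hval gs
      hγγ hdet
    exact ⟨Or.inr key, fun _ => key⟩
  · have hno : ¬ ∃ g : ↥(Cfsg.isometryGroup F (Cfsg.quadFormMinus m F a b)),
        g ∈ Cfsg.Omega F (Cfsg.quadFormMinus m F a b) ∧
        ((g : GL ((Fin m ⊕ Fin m) ⊕ Fin 2) F) :
          Matrix ((Fin m ⊕ Fin m) ⊕ Fin 2) ((Fin m ⊕ Fin m) ⊕ Fin 2) F) = -1 := by
      intro h
      exact h4 (hiff.1 h)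
    refine ⟨graph_invol_split_two hQ hn h2 hgen (m + 1) hcard d c hc hd hno _, ?_⟩
    intro hcon
    have hev : Even (m + 1) := by
      rw [pow_succ_mod_four_iff m hodd] at h4
      by_contra hne
      have hme : Even m := by
        rcases Nat.even_or_odd m with h | h
        · exact h
        · exact absurd h.add_one hne
      have hq : Fintype.card F % 4 = 1 ∨ Fintype.card F % 4 = 3 := by
        obtain ⟨k, hk⟩ := hodd
        omega
      rcases hq with hq | hq
      · exact hcon ⟨hme, hq⟩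
      · exact h4 ⟨hme, hq⟩
    exact graph_invol_split_even hQ hn h2 hgen (m + 1) hcard hev d c hc hd hno gs hγγ hdet

end minus

end Cfsg.Agent.Lib.H7AutPM
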