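import Mathlib

/-!
# Two group-theoretic lemmas (helper7)

* `exists_zmod_hom`: an element of order `k` gives an embedding `ZMod k → G`;
* `prod_equiv_of_commute`: an internal direct product of two commuting embedded groups.
-/

set_option autoImplicit false

namespace Cfsg.Agent.Lib.H7AutPM

theorem exists_zmod_hom {G : Type*} [Group G] (a : G) (k : ℕ) (hk : orderOf a = k) :
    ∃ f : Multiplicative (ZMod k) →* G, Function.Injective f ∧ f.range = Subgroup.zpowers a := by
  subst hk
  have hc : Nat.card (Subgroup.zpowers a) = orderOf a := Nat.card_zpowers a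
  rw [← hc]
  let e := zmodCyclicMulEquiv (Subgroup.isCyclic_zpowers a)
  refine ⟨(Subgroup.zpowers a).subtype.comp e.toMonoidHom, ?_, ?_⟩
  · exact (Subgroup.subtype_injective _).comp e.injective
  · rw [MonoidHom.range_comp]
    have : e.toMonoidHom.range = ⊤ := MonoidHom.range_eq_top.2 e.surjective
    rw [this, ← MonoidHom.range_eq_map, Subgroup.range_subtype]

theorem prod_equiv_of_commute {G H K : Type*} [Group G] [Group H] [Group K] [Finite G]
    (f : H →* G) (g : K →* G) (hf : Function.Injective f) (hg : Function.Injective g)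
    (hcomm : ∀ h k, Commute (f h) (g k)) (hdisj : f.range ⊓ g.range = ⊥)
    (hcard : Nat.card G ≤ Nat.card H * Nat.card K) : Nonempty (H × K ≃* G) := by
  let Ψ : H × K →* G := MonoidHom.noncommCoprod f g hcomm
  have hΨ : ∀ h k, Ψ (h, k) = f h * g k := fun h k => rfl
  have hinj : Function.Injective Ψ := by
    rw [injective_iff_map_eq_one]
    rintro ⟨h, k⟩ e
    rw [hΨ] at e
    have h1 : f h = (g k)⁻¹ := eq_inv_of_mul_eq_one_left e
    have h2 : f h ∈ f.range ⊓ g.range :=
      ⟨⟨h, rfl⟩, by rw [h1]; exact g.range.inv_mem ⟨k, rfl⟩⟩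
    rw [hdisj, Subgroup.mem_bot] at h2
    have h3 : g k = 1 := by rw [h2, one_mul] at e; exact e
    have h4 : h = 1 := hf (by rw [h2, map_one])
    have h5 : k = 1 := hg (by rw [h3, map_one])
    rw [h4, h5]
    rfl
  have hbij : Function.Bijective Ψ :=
    hinj.bijective_of_nat_card_le (by rw [Nat.card_prod]; exact hcard)
  exact ⟨MulEquiv.ofBijective Ψ hbij⟩

end Cfsg.Agent.Lib.H7AutPM
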