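import Cfsg.Agent.Lib.Helper7.AutPM.HilbertQ
import Cfsg.Agent.Lib.Helper7.AutPM.FrobM
import Cfsg.Agent.Lib.Helper8.QTypeC
import Mathlib

/-!
# Hilbert 90 for the similarity group of the minus-type form (helper7)
-/

set_option autoImplicit false
set_option linter.unusedSectionVars false

namespace Cfsg.Agent.Lib.H7AutPM

open QuadraticMap Module Cfsg.Agent.H9.QuadFin Cfsg.Agent.Lib.Helper8.QType
  Cfsg.Agent.Lib.H7AutPSp Cfsg.Agent.Lib.H7AutPSL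

universe u v

variable {F : Type u} [Field F] {F₀ : Type v} [Field F₀] (j : F₀ →+* F)

theorem quadFormMinus_vpush (m : ℕ) (a₀ b₀ : F₀) (v₀ : IM m → F₀) :
    Cfsg.quadFormMinus m F (j a₀) (j b₀) (vpush j v₀) = j (Cfsg.quadFormMinus m F₀ a₀ b₀ v₀) := by
  unfold Cfsg.quadFormMinus vpush
  simp only [map_add, map_sum, map_mul, map_pow]

theorem quadFormPlus_vpush (m : ℕ) (v₀ : Fin m ⊕ Fin m → F₀) :
    Cfsg.quadFormPlus m F (vpush j v₀) = j (Cfsg.quadFormPlus m F₀ v₀) := by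
  unfold Cfsg.quadFormPlus vpush
  simp only [map_sum, map_mul]

theorem aniso_of_push (a₀ b₀ : F₀)
    (hab : ∀ z₁ z₂ : F, z₁ ^ 2 + j a₀ * z₁ * z₂ + j b₀ * z₂ ^ 2 = 0 → z₁ = 0 ∧ z₂ = 0) :
    ∀ z₁ z₂ : F₀, z₁ ^ 2 + a₀ * z₁ * z₂ + b₀ * z₂ ^ 2 = 0 → z₁ = 0 ∧ z₂ = 0 := by
  intro z₁ z₂ h
  have h' := congrArg j h
  simp only [map_add, map_mul, map_pow, map_zero] at h'
  obtain ⟨h1, h2⟩ := hab _ _ h'
  exact ⟨(map_eq_zero j).1 h1, (map_eq_zero j).1 h2⟩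

/-- **Hilbert 90 for the conformal orthogonal group of minus type**, all characteristics -/
theorem hilbert90_minus [Fintype F] (σ : RingAut F) (r : ℕ) (hr : 0 < r) (hσ : σ ^ r = 1)
    (hinj : ∀ i k, i < r → k < r → σ ^ i = σ ^ k → i = k)
    (m : ℕ) (a b : F) (ha : σ a = a) (hb : σ b = b)
    (hab : ∀ z₁ z₂ : F, z₁ ^ 2 + a * z₁ * z₂ + b * z₂ ^ 2 = 0 → z₁ = 0 ∧ z₂ = 0)
    (g : Matrix (IM m) (IM m) F) (c : F) (hc : c ≠ 0)
    (hg : ∀ v, Cfsg.quadFormMinus m F a b (g.mulVec v) = c * Cfsg.quadFormMinus m F a b v)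
    (hN : pnormG σ g r = 1) :
    ∃ P : Matrix (IM m) (IM m) F, IsUnit P ∧ g * P.map σ = P ∧ ∃ ν : F, ν ≠ 0 ∧
      ∀ v, Cfsg.quadFormMinus m F a b (P.mulVec v) = ν * Cfsg.quadFormMinus m F a b v := by
  classical
  haveI : Fintype (FixedPoints.subfield (Subgroup.zpowers σ) F) := Fintype.ofFinite _
  obtain ⟨j, hj⟩ : ∃ j : FixedPoints.subfield (Subgroup.zpowers σ) F →+* F,
      j = (FixedPoints.subfield (Subgroup.zpowers σ) F).subtype := ⟨_, rfl⟩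
  obtain ⟨a₀, ha₀⟩ : ∃ a₀, j a₀ = a := ⟨⟨a, (mem_fixed_iff σ a).2 ha⟩, by rw [hj]; rfl⟩
  obtain ⟨b₀, hb₀⟩ : ∃ b₀, j b₀ = b := ⟨⟨b, (mem_fixed_iff σ b).2 hb⟩, by rw [hj]; rfl⟩
  have hab₀ := aniso_of_push j a₀ b₀ (by rw [ha₀, hb₀]; exact hab)
  have hQσ : ∀ v : IM m → F, Cfsg.Agent.S0288.QM m a b (fun i => σ (v i)) =
      σ (Cfsg.Agent.S0288.QM m a b v) := by
    intro v
    rw [Cfsg.Agent.S0288.QM_apply, Cfsg.Agent.S0288.QM_apply]
    have := quadFormMinus_vpush (σ : F →+* F) m a b v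
    rw [show ((σ : F →+* F) a) = σ a from rfl, show ((σ : F →+* F) b) = σ b from rfl, ha, hb]
      at this
    exact this
  have hQ₀ : ∀ v₀, (FixedPoints.subfield (Subgroup.zpowers σ) F).subtype
      (Cfsg.Agent.S0288.QM m a₀ b₀ v₀) = Cfsg.Agent.S0288.QM m a b
        (vpush (FixedPoints.subfield (Subgroup.zpowers σ) F).subtype v₀) := by
    intro v₀
    rw [← hj, Cfsg.Agent.S0288.QM_apply, Cfsg.Agent.S0288.QM_apply, ← quadFormMinus_vpush, ha₀,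
      hb₀]
  have hR₀ : ∀ w₀, (FixedPoints.subfield (Subgroup.zpowers σ) F).subtype
      (Cfsg.Agent.S0287.QP (m + 1) w₀) = Cfsg.Agent.S0287.QP (m + 1)
        (vpush (FixedPoints.subfield (Subgroup.zpowers σ) F).subtype w₀) := by
    intro w₀
    rw [Cfsg.Agent.S0287.QP_apply, Cfsg.Agent.S0287.QP_apply, ← quadFormPlus_vpush]
  have hg' : ∀ v, Cfsg.Agent.S0288.QM m a b (g.mulVec v) = c * Cfsg.Agent.S0288.QM m a b v := by
    intro v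
    rw [Cfsg.Agent.S0288.QM_apply, Cfsg.Agent.S0288.QM_apply]
    exact hg v
  obtain ⟨P, hPu, hP, ν, hν0, hν⟩ := hilbert90_quad σ r hr hσ hinj m (-1) (-1)
    (Cfsg.Agent.S0288.QM m a b) hQσ (hasType_QM m a b hab)
    (Cfsg.Agent.S0288.QM m a₀ b₀) hQ₀ (hasType_QM m a₀ b₀ hab₀)
    (Cfsg.Agent.S0287.QP (m + 1)) (Cfsg.Agent.S0287.QP (m + 1)) hR₀
    (by rw [neg_neg]; exact hasType_QP m) (by rw [neg_neg]; exact hasType_QP m) g c hc hg' hN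
  refine ⟨P, hPu, hP, ν, hν0, fun v => ?_⟩
  have := hν v
  rw [Cfsg.Agent.S0288.QM_apply, Cfsg.Agent.S0288.QM_apply] at this
  exact this

end Cfsg.Agent.Lib.H7AutPM
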