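import Cfsg.Agent.Lib.Helper7.AutPM.QDescent
import Cfsg.Agent.Lib.Helper7.AutPSp.SpHilbert90
import Cfsg.Agent.Lib.Helper7.AutPSL.Hilbert90
import Cfsg.Agent.Lib.Helper7.AutPSL.FixedField
import Mathlib

/-!
# Hilbert 90 for the similarity group of a quadratic form of even dimension over a finite field,
in all characteristics (helper7)
-/

set_option autoImplicit false
set_option linter.unusedSectionVars false

namespace Cfsg.Agent.Lib.H7AutPM

open QuadraticMap Module Cfsg.Agent.H9.QuadFin Cfsg.Agent.Lib.Helper8.QType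
  Cfsg.Agent.Lib.H7AutPSp Cfsg.Agent.Lib.H7AutPSL

universe u v

variable {F : Type u} [Field F] {F₀ : Type v} [Field F₀] (j : F₀ →+* F)
variable {ι : Type} [Fintype ι] [DecidableEq ι] {κ : Type} [Fintype κ] [DecidableEq κ]

/-- the matrices of a linear equivalence and of its inverse -/
theorem exists_matrix_equiv (e : (ι → F₀) ≃ₗ[F₀] (κ → F₀)) :
    ∃ (A : Matrix κ ι F₀) (B : Matrix ι κ F₀), A * B = 1 ∧ B * A = 1 ∧
      (∀ v, A.mulVec v = e v) ∧ (∀ w, B.mulVec w = e.symm w) := by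
  refine ⟨LinearMap.toMatrix' (e : (ι → F₀) →ₗ[F₀] (κ → F₀)),
    LinearMap.toMatrix' (e.symm : (κ → F₀) →ₗ[F₀] (ι → F₀)), ?_, ?_, ?_, ?_⟩
  · rw [← LinearMap.toMatrix'_comp, ← LinearMap.toMatrix'_id]
    congr 1
    ext w : 1
    simp
  · rw [← LinearMap.toMatrix'_comp, ← LinearMap.toMatrix'_id]
    congr 1
    ext w : 1
    simp
  · intro v
    rw [LinearMap.toMatrix'_mulVec]
    rfl
  · intro w
    rw [LinearMap.toMatrix'_mulVec]
    rfl

/-- an isometry over `F₀` between descended forms extends to `F` -/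
theorem isometry_push (Q : QuadraticForm F (ι → F)) (Q₀ : QuadraticForm F₀ (ι → F₀))
    (hQ : ∀ v₀, j (Q₀ v₀) = Q (vpush j v₀))
    (R : QuadraticForm F (κ → F)) (R₀ : QuadraticForm F₀ (κ → F₀))
    (hR : ∀ w₀, j (R₀ w₀) = R (vpush j w₀)) (e : Q₀.IsometryEquiv R₀) :
    ∃ (A : Matrix κ ι F₀) (B : Matrix ι κ F₀), A * B = 1 ∧ B * A = 1 ∧
      ∀ w : κ → F, Q ((B.map j).mulVec w) = R w := by
  obtain ⟨A, B, hAB, hBA, hA, hB⟩ := exists_matrix_equiv e.toLinearEquiv
  refine ⟨A, B, hAB, hBA, ?_⟩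
  have key : Q.comp (Matrix.toLin' (B.map j)) = R := by
    apply quad_ext_of_points j
    intro w₀
    rw [QuadraticMap.comp_apply, Matrix.toLin'_apply, ← vpush_mulVec, ← hQ, ← hR, hB]
    have := e.map_app (e.symm w₀)
    rw [e.apply_symm_apply] at this
    exact congrArg j this.symm
  intro w
  rw [← key, QuadraticMap.comp_apply, Matrix.toLin'_apply]

theorem map_map_one : (1 : Matrix ι ι F₀).map j = 1 := by
  ext i k
  rw [Matrix.map_apply, Matrix.one_apply, Matrix.one_apply]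
  split_ifs
  · exact map_one j
  · exact map_zero j

theorem map_mul_push (A : Matrix κ ι F₀) (B : Matrix ι κ F₀) :
    (A * B).map j = A.map j * B.map j := by
  ext i k
  simp only [Matrix.map_apply, Matrix.mul_apply, map_sum, map_mul]

section main

variable [Fintype F] (σ : RingAut F)

/-- **Hilbert 90 for the similarity group of a quadratic form** fixed by `σ`, whose type does not
change under descent to the fixed field. -/
theorem hilbert90_quad (r : ℕ) (hr : 0 < r) (hσ : σ ^ r = 1)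
    (hinj : ∀ i k, i < r → k < r → σ ^ i = σ ^ k → i = k)
    (l : ℕ) (ε ε₀ : ℤ)
    (Q : QuadraticForm F (ι → F)) (hQσ : ∀ v : ι → F, Q (fun i => σ (v i)) = σ (Q v))
    (hQt : HasType Q l ε)
    [Fintype (FixedPoints.subfield (Subgroup.zpowers σ) F)]
    (Q₀ : QuadraticForm (FixedPoints.subfield (Subgroup.zpowers σ) F)
      (ι → FixedPoints.subfield (Subgroup.zpowers σ) F))
    (hQ₀ : ∀ v₀, (FixedPoints.subfield (Subgroup.zpowers σ) F).subtype (Q₀ v₀) =
      Q (vpush (FixedPoints.subfield (Subgroup.zpowers σ) F).subtype v₀))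
    (hQ₀t : HasType Q₀ l ε₀)
    (R : QuadraticForm F (κ → F))
    (R₀ : QuadraticForm (FixedPoints.subfield (Subgroup.zpowers σ) F)
      (κ → FixedPoints.subfield (Subgroup.zpowers σ) F))
    (hR₀ : ∀ w₀, (FixedPoints.subfield (Subgroup.zpowers σ) F).subtype (R₀ w₀) =
      R (vpush (FixedPoints.subfield (Subgroup.zpowers σ) F).subtype w₀))
    (hR₀t : HasType R₀ l (-ε₀)) (hRt : HasType R l (-ε))
    (g : Matrix ι ι F) (c : F) (hc : c ≠ 0) (hg : ∀ v, Q (g.mulVec v) = c * Q v)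
    (hN : pnormG σ g r = 1) :
    ∃ P : Matrix ι ι F, IsUnit P ∧ g * P.map σ = P ∧ ∃ ν : F, ν ≠ 0 ∧
      ∀ v, Q (P.mulVec v) = ν * Q v := by
  classical
  obtain ⟨j, hj⟩ : ∃ j : FixedPoints.subfield (Subgroup.zpowers σ) F →+* F,
      j = (FixedPoints.subfield (Subgroup.zpowers σ) F).subtype := ⟨_, rfl⟩
  rw [← hj] at hQ₀ hR₀
  have hjfix : ∀ t : FixedPoints.subfield (Subgroup.zpowers σ) F, σ (j t) = j t := by
    intro t
    rw [hj]
    exact (mem_fixed_iff σ _).1 t.2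
  have hjsurj : ∀ t : F, σ t = t → ∃ t₀, j t₀ = t := by
    intro t ht
    exact ⟨⟨t, (mem_fixed_iff σ t).2 ht⟩, by rw [hj]; rfl⟩
  obtain ⟨P₀, hP₀u, hP₀⟩ := hilbert90_matrixG σ r hr hσ hinj g hN
  have hP₀i : Invertible P₀ := hP₀u.invertible
  -- the transported form
  set Q₁ : QuadraticForm F (ι → F) := Q.comp (Matrix.toLin' P₀) with hQ₁
  have hQ₁a : ∀ v, Q₁ v = Q (P₀.mulVec v) := fun v => by
    rw [hQ₁, QuadraticMap.comp_apply, Matrix.toLin'_apply]
  have hQ₁σ : ∀ v : ι → F, Q₁ (fun i => σ (v i)) = c * σ (Q₁ v) := by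
    intro v
    rw [hQ₁a, hQ₁a, ← hQσ, map_mulVecG]
    conv_lhs => rw [← hP₀]
    rw [← Matrix.mulVec_mulVec, hg]
  have hQ₁t : HasType Q₁ l ε := by
    have := hasType_comp hQt (P₀.toLinearEquiv' hP₀i)
    rw [Matrix.toLinearEquiv'_apply] at this
    exact this
  -- the multiplier has norm one
  have hpow : ∀ (k : ℕ) (v : ι → F), Q₁ (fun i => (σ ^ k) (v i)) =
      fnorm σ c k * (σ ^ k) (Q₁ v) := by
    intro k
    induction k with
    | zero =>
      intro v
      rw [fnorm_zero, one_mul, pow_zero]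
      rfl
    | succ k ih =>
      intro v
      have e1 : (fun i => (σ ^ (k + 1)) (v i)) = fun i => σ ((fun i => (σ ^ k) (v i)) i) := by
        ext i
        rw [pow_succ']
        rfl
      rw [e1, hQ₁σ, ih, map_mul, fnorm_succ', pow_succ', mul_assoc]
      rfl
  have hnorm : fnorm σ c r = 1 := by
    obtain ⟨v, hv⟩ : ∃ v, Q₁ v ≠ 0 := by
      by_contra hcon
      simp only [not_exists, not_not] at hcon
      have h0 : ∀ x, (∀ y, polar Q₁ x y = 0) := by
        intro x y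
        unfold polar
        rw [hcon, hcon, hcon]
        ring
      have hnd := (nondeg_iff Q₁).1 hQ₁t.2.1
      have hall : ∀ x : ι → F, x = 0 := fun x => hnd x (h0 x)
      have hfr := hQ₁t.1
      have : Subsingleton (ι → F) := ⟨fun x y => by rw [hall x, hall y]⟩
      rw [Module.finrank_zero_of_subsingleton] at hfr
      omega
    have := hpow r v
    rw [hσ] at this
    have e : Q₁ (fun i => (1 : RingAut F) (v i)) = Q₁ v := rfl
    rw [e] at this
    have e2 : (1 : RingAut F) (Q₁ v) = Q₁ v := rfl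
    rw [e2] at this
    have h3 : 1 * Q₁ v = fnorm σ c r * Q₁ v := by rw [one_mul]; exact this
    exact (mul_right_cancel₀ hv h3).symm
  obtain ⟨b, hb0, hb⟩ := hilbert90_field σ r hr hσ hinj c hnorm
  -- the form fixed by `σ`
  set Q₂ : QuadraticForm F (ι → F) := b⁻¹ • Q₁ with hQ₂
  have hQ₂a : ∀ v, Q₂ v = b⁻¹ * Q₁ v := fun v => rfl
  have hQ₂σ : ∀ v : ι → F, Q₂ (fun i => σ (v i)) = σ (Q₂ v) := by
    intro v
    rw [hQ₂a, hQ₂a, hQ₁σ, map_mul, map_inv₀]
    have hσb : σ b ≠ 0 := (map_ne_zero σ).2 hb0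
    have hbc : b⁻¹ * c = (σ b)⁻¹ := by
      calc b⁻¹ * c = b⁻¹ * (c * σ b) * (σ b)⁻¹ := by field_simp
        _ = (σ b)⁻¹ := by rw [hb, inv_mul_cancel₀ hb0, one_mul]
    rw [← mul_assoc, hbc]
  have hQ₂t : HasType Q₂ l ε := hasType_smul hQ₁t b⁻¹ (inv_ne_zero hb0)
  have hdesc : ∀ v₀ : ι → FixedPoints.subfield (Subgroup.zpowers σ) F,
      ∃ c₀, j c₀ = Q₂ (vpush j v₀) := by
    intro v₀
    apply hjsurj
    rw [← hQ₂σ]
    congr 1
    ext i
    exact hjfix (v₀ i)
  obtain ⟨Q₂₀, hQ₂₀⟩ := exists_descend j Q₂ hdesc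
  have hnd₀ := descend_nondeg j Q₂ Q₂₀ hQ₂₀ hQ₂t.2.1
  have hfr : finrank (FixedPoints.subfield (Subgroup.zpowers σ) F)
      (ι → FixedPoints.subfield (Subgroup.zpowers σ) F) = 2 * l + 2 := by
    rw [Module.finrank_fintype_fun_eq_card]
    have := hQt.1
    rw [Module.finrank_fintype_fun_eq_card] at this
    exact this
  obtain ⟨ε', hε'⟩ := exists_hasType Q₂₀ hnd₀ l hfr
  have hε'cases : ε' = ε₀ ∨ ε' = -ε₀ := by
    rcases hε'.2.2.1 with h | h <;> rcases hQ₀t.2.2.1 with h' | h' <;> rw [h, h'] <;> simp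
  rcases hε'cases with hcase | hcase
  · rw [hcase] at hε'
    obtain ⟨e⟩ := equiv_of_hasType hε' hQ₀t
    obtain ⟨A, B, hAB, hBA, hkey⟩ := isometry_push j Q₂ Q₂₀ hQ₂₀ Q Q₀ hQ₀ e
    have hBu : IsUnit (B.map j) := by
      have h1 : B.map j * A.map j = 1 := by rw [← map_mul_push, hBA, map_map_one]
      exact (Matrix.isUnit_iff_isUnit_det _).2 (Matrix.isUnit_det_of_right_inverse h1)
    have hBσ : (B.map j).map σ = B.map j := by
      ext i k
      rw [Matrix.map_apply, Matrix.map_apply]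
      exact hjfix _
    refine ⟨P₀ * B.map j, hP₀u.mul hBu, ?_, b, hb0, ?_⟩
    · rw [map_mulG, hBσ, ← Matrix.mul_assoc, hP₀]
    · intro v
      rw [← Matrix.mulVec_mulVec, ← hQ₁a, ← hkey v, hQ₂a, ← mul_assoc, mul_inv_cancel₀ hb0,
        one_mul]
  · exfalso
    rw [hcase] at hε'
    obtain ⟨e⟩ := equiv_of_hasType hε' hR₀t
    obtain ⟨A, B, hAB, hBA, hkey⟩ := isometry_push j Q₂ Q₂₀ hQ₂₀ R R₀ hR₀ e
    have h1 : A.map j * B.map j = 1 := by rw [← map_mul_push, hAB, map_map_one]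
    have h2 : B.map j * A.map j = 1 := by rw [← map_mul_push, hBA, map_map_one]
    let E : (κ → F) ≃ₗ[F] (ι → F) := Matrix.toLin'OfInv h1 h2
    have hE : ∀ w, E w = (B.map j).mulVec w := fun w => by
      show Matrix.toLin' (B.map j) w = _
      rw [Matrix.toLin'_apply]
    have eiso : R.IsometryEquiv Q₂ := ⟨E, fun w => by
      show Q₂ (Matrix.toLin' (B.map j) w) = R w
      rw [Matrix.toLin'_apply]
      exact hkey w⟩
    have h3 := HasType.congr eiso hRt
    have h4 := HasType.unique h3 hQ₂t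
    rcases hQt.2.2.1 with h | h <;> rw [h] at h4 <;> omega

end main

end Cfsg.Agent.Lib.H7AutPM
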