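import Cfsg.Agent.Lib.Helper7.AutPM.SemiConj
import Cfsg.Agent.Lib.Helper7.AutPM.GroupLemmas
import Cfsg.Agent.Lib.Helper5.Orth.ParityAll
import Mathlib

/-!
# `Out(PΩ⁻)`: the class of the Frobenius semisimilarity (helper7)

`rhoBar : Out(PΩ⁻) →* Aut F`; the class `ȳ` of the Frobenius semisimilarity has `ȳ^f` = the class
of a reflection, which is not inner; in characteristic two `Out` is cyclic of order `2f`.
-/

set_option autoImplicit false
set_option linter.unusedSectionVars false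
set_option linter.style.haveILetI false

namespace Cfsg.Agent.Lib.H7AutPM

open Matrix Cfsg Cfsg.Agent.Lib.H7AutPSp Cfsg.Agent.Lib.H7AutPO Cfsg.Agent.Lib.Helper5.OrthAut
  Cfsg.Agent.H9.Orth Cfsg.Agent.Lib.Helper5.OrthSN Cfsg.Agent.Lib.Helper5.OrthPar
  Cfsg.Agent.Lib.Helper5.OrthCls Cfsg.Agent.Lib.Helper5.OrthPM

universe u

section generic

variable {ι : Type} [Fintype ι] [DecidableEq ι] {F : Type u} [Field F] [Fintype F]
variable {Q : (ι → F) → F} (hQ : Cfsg.Geo.IsNondegenerateQuadraticForm Q)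
include hQ

/-- an isometry with odd `rank (g - 1)` does not induce an inner automorphism (even dimension) -/
theorem DhO_not_mem_inn_of_not_par (hn : 7 ≤ Fintype.card ι)
    (hgen : Cfsg.isometryGroup F Q ≤ RR hQ) (heven : Even (Fintype.card ι))
    (g : ↥(Cfsg.Geo.quadSimilarityGroup (F := F) Q)) (hg : g.1 ∈ Cfsg.isometryGroup F Q)
    (hpar : ¬ par g.1) : DhO Q g ∉ Cfsg.Inn (Cfsg.POmega F Q) := by
  intro h
  rw [DhO_eq_conjHom, conjHom_mem_inn_iff, Subgroup.mem_sup_of_normal_right] at h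
  obtain ⟨s, hs, z, hz, e⟩ := h
  rw [Subgroup.mem_subgroupOf] at hs
  obtain ⟨y, hy, hyx⟩ := hs
  have hsiso : s.1 ∈ Cfsg.isometryGroup F Q := by
    rw [← hyx]; exact y.2
  have hspar : par s.1 := by
    have := omega_par_gen hQ hgen y hy
    rw [← hyx]
    exact this
  have hziso : z.1 ∈ Cfsg.isometryGroup F Q := by
    have : z = s⁻¹ * g := by rw [← e]; group
    rw [this, Subgroup.coe_mul, Subgroup.coe_inv]
    exact mul_mem (inv_mem hsiso) hg
  have hz1 : DhO Q z = 1 := by
    rw [DhO_eq_conjHom]; exact hz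
  obtain ⟨l, hl⟩ := scalar_of_DhO_eq_one hQ hn z hz1
  have hzpar : par z.1 := by
    by_cases h1 : l = 1
    · have : z.1 = 1 := by
        apply gl_ext
        intro x
        rw [hl, h1, one_smul, act_one]
      rw [this]
      exact par_one
    · have hl1 : l - 1 ≠ 0 := sub_ne_zero.2 h1
      have : z.1.val - 1 = (scalarGL (l - 1) hl1 : GL ι F).val := by
        apply Matrix.toLin'.injective
        apply LinearMap.ext
        intro x
        rw [Matrix.toLin'_apply, Matrix.toLin'_apply, Matrix.sub_mulVec, Matrix.one_mulVec]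
        have h3 : z.1.val *ᵥ x = l • x := hl x
        have h4 : (scalarGL (l - 1) hl1 : GL ι F).val *ᵥ x = (l - 1) • x :=
          act_scalarGL (l - 1) hl1 x
        rw [h3, h4, sub_smul, one_smul]
      unfold par
      rw [this, Matrix.rank_unit]
      exact heven
  have : g.1 = s.1 * z.1 := by rw [← e]; rfl
  rw [this, par_mul_gen hQ hgen s.1 z.1 hsiso hziso] at hpar
  tauto

end generic

variable {F : Type u} [Field F] [Fintype F]

/-- the order of the Frobenius automorphism -/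
theorem orderOf_frob (p : ℕ) [Fact p.Prime] [CharP F p] {f : ℕ}
    (hF : Fintype.card F = p ^ f) : orderOf (frobeniusEquiv F p : RingAut F) = f := by
  rw [← (Cfsg.Agent.S2602.ringAut_cyclic (F := F) p f hF).2]
  apply orderOf_eq_card_of_forall_mem_zpowers
  intro σ
  obtain ⟨n, rfl⟩ := ringAut_eq_frob_pow p σ
  exact Subgroup.npow_mem_zpowers _ n

section minus

variable {m : ℕ} {a b : F}

theorem reflM_mem_sim :
    reflM m a ∈ Cfsg.Geo.quadSimilarityGroup (F := F) (Cfsg.quadFormMinus m F a b) :=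
  iso_le_sim _ (reflM_mem m a b)

/-- the reflection of the binary part does not induce an inner automorphism -/
theorem DhO_reflM_not_mem_inn (hm : 3 ≤ m)
    (hab : ∀ z₁ z₂ : F, z₁ ^ 2 + a * z₁ * z₂ + b * z₂ ^ 2 = 0 → z₁ = 0 ∧ z₂ = 0) :
    DhO (Cfsg.quadFormMinus m F a b) ⟨reflM m a, reflM_mem_sim⟩ ∉
      Cfsg.Inn (Cfsg.POmega F (Cfsg.quadFormMinus m F a b)) := by
  have hQ := hQM (m := m) a b hab
  have hgen : Cfsg.isometryGroup F (Cfsg.quadFormMinus m F a b) ≤ RR hQ :=
    iso_le_RR hQ (Or.inr (by rw [card_IM]; omega))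
  have heven : Even (Fintype.card (IM m)) := by rw [card_IM]; exact even_two_mul _
  have hD := Cfsg.Agent.S0288.disc_ne_zero a b hab
  have hpar : ¬ par (reflM (F := F) m a) := by
    rw [reflM_eq_rf m a b hQ hD]
    apply not_par_rf
    rw [Q_binVec]
    simp only [Matrix.cons_val_zero, Matrix.cons_val_one]
    intro h
    apply hD
    linear_combination h
  exact DhO_not_mem_inn_of_not_par hQ (hnM hm) hgen heven ⟨reflM m a, reflM_mem_sim⟩
    (reflM_mem m a b) hpar

variable (hm : 3 ≤ m)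
  (hab : ∀ z₁ z₂ : F, z₁ ^ 2 + a * z₁ * z₂ + b * z₂ ^ 2 = 0 → z₁ = 0 ∧ z₂ = 0)
  (hFac : FacG (Cfsg.quadFormMinus m F a b))

/-- the field automorphism of an outer automorphism class -/
noncomputable def rhoBar : Cfsg.Out (Cfsg.POmega F (Cfsg.quadFormMinus m F a b)) →* RingAut F :=
  QuotientGroup.lift _ (rhoM hm hab hFac) (by
    intro β hβ
    rw [rhoM_ker]
    exact inn_le_DhO_range hβ)

theorem rhoBar_mk (β : MulAut (Cfsg.POmega F (Cfsg.quadFormMinus m F a b))) :
    rhoBar hm hab hFac (QuotientGroup.mk β) = rhoM hm hab hFac β := rfl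

include hm hab hFac in
/-- **the Frobenius class**: an automorphism `y` over the Frobenius whose `f`-th power is the
reflection of the binary part -/
theorem exists_frob_aut (p : ℕ) [Fact p.Prime] [CharP F p] {f : ℕ}
    (hF : Fintype.card F = p ^ f) :
    ∃ x : ↥(GammaO (Cfsg.quadFormMinus m F a b)), x.1.right = frobeniusEquiv F p ∧
      PsO _ x ^ f = DhO (Cfsg.quadFormMinus m F a b) ⟨reflM m a, reflM_mem_sim⟩ := by
  obtain ⟨g₂, hmem, hpow⟩ := exists_frob_minus a b p hF m hab
  refine ⟨⟨_, hmem⟩, rfl, ?_⟩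
  rw [← map_pow, ← PsO_simIncl]
  congr 1
  apply Subtype.ext
  rw [SubmonoidClass.coe_pow]
  exact hpow

include hm hab hFac in
/-- the order of the Frobenius class in `Out` is `2f` -/
theorem exists_out_order (p : ℕ) [Fact p.Prime] [CharP F p] {f : ℕ} (hf : 1 ≤ f)
    (hF : Fintype.card F = p ^ f) :
    ∃ y : MulAut (Cfsg.POmega F (Cfsg.quadFormMinus m F a b)),
      rhoM hm hab hFac y = frobeniusEquiv F p ∧
      y ^ f = DhO (Cfsg.quadFormMinus m F a b) ⟨reflM m a, reflM_mem_sim⟩ ∧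
      orderOf (QuotientGroup.mk y : Cfsg.Out (Cfsg.POmega F (Cfsg.quadFormMinus m F a b))) =
        2 * f := by
  obtain ⟨x, hx1, hx2⟩ := exists_frob_aut hm hab hFac p hF
  refine ⟨PsO _ x, ?_, hx2, ?_⟩
  · rw [rhoM_PsO, hx1]
  set ybar : Cfsg.Out (Cfsg.POmega F (Cfsg.quadFormMinus m F a b)) :=
    QuotientGroup.mk (PsO _ x) with hy
  have h1 : f ∣ orderOf ybar := by
    have := orderOf_map_dvd (rhoBar hm hab hFac) ybar
    rw [hy, rhoBar_mk, rhoM_PsO, hx1, orderOf_frob p hF] at this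
    exact this
  have hyf : ybar ^ f = QuotientGroup.mk
      (DhO (Cfsg.quadFormMinus m F a b) ⟨reflM m a, reflM_mem_sim⟩) := by
    rw [hy, ← QuotientGroup.mk_pow, hx2]
  have h2 : ybar ^ f ≠ 1 := by
    rw [hyf]
    intro h
    exact DhO_reflM_not_mem_inn hm hab ((QuotientGroup.eq_one_iff _).1 h)
  have h3 : ybar ^ (2 * f) = 1 := by
    rw [mul_comm, pow_mul, hyf, ← QuotientGroup.mk_pow, ← map_pow]
    have : (⟨reflM m a, reflM_mem_sim⟩ :
        ↥(Cfsg.Geo.quadSimilarityGroup (F := F) (Cfsg.quadFormMinus m F a b))) ^ 2 = 1 := by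
      apply Subtype.ext
      rw [SubmonoidClass.coe_pow]
      show reflM m a ^ 2 = 1
      unfold reflM
      rw [pow_two, ← binGL_mul]
      have : refl2 a * refl2 a = 1 := by
        apply Units.ext
        exact (refl2 a).val_inv
      rw [this]
      apply gl_ext
      intro v
      rw [act_binGL, Units.val_one, Matrix.one_mulVec, act_one]
      exact Sum.elim_comp_inl_inr v
    rw [this, map_one]
    rfl
  have h4 : orderOf ybar ∣ 2 * f := orderOf_dvd_of_pow_eq_one h3
  obtain ⟨j, hj⟩ := h1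
  have hj2 : j ∣ 2 := by
    rw [hj, mul_comm 2 f] at h4
    exact (Nat.mul_dvd_mul_iff_left (by omega)).1 h4
  have hj12 : j = 1 ∨ j = 2 := by
    have := Nat.le_of_dvd (by norm_num) hj2
    interval_cases j
    · simp at hj2
    · left; rfl
    · right; rfl
  rcases hj12 with rfl | rfl
  · exfalso
    apply h2
    rw [mul_one] at hj
    rw [← hj]
    exact pow_orderOf_eq_one ybar
  · rw [hj, mul_comm]

include hm hab hFac in
/-- **`|Out(PΩ⁻)|`** -/
theorem card_out_minus (p : ℕ) [Fact p.Prime] [CharP F p] {f : ℕ}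
    (hF : Fintype.card F = p ^ f) (c : ℕ)
    (hc : Nat.card (DhO (Cfsg.quadFormMinus m F a b)).range =
      c * Nat.card (Cfsg.POmega F (Cfsg.quadFormMinus m F a b))) :
    Nat.card (Cfsg.Out (Cfsg.POmega F (Cfsg.quadFormMinus m F a b))) = c * f := by
  have h1 := Subgroup.card_eq_card_quotient_mul_card_subgroup
    (Cfsg.Inn (Cfsg.POmega F (Cfsg.quadFormMinus m F a b)))
  rw [card_aut_minus hm hab hFac p hF, hc, card_inn_pomega (hQM a b hab) (hnM hm)] at h1
  have hpos : 0 < Nat.card (Cfsg.POmega F (Cfsg.quadFormMinus m F a b)) := Nat.card_pos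
  apply Nat.eq_of_mul_eq_mul_right hpos
  rw [← h1]
  ring

include hm hab hFac in
/-- **characteristic two: `Out(PΩ⁻)` is cyclic of order `2f`** -/
theorem out_minus_two {f : ℕ} (hf : 1 ≤ f) (hF : Fintype.card F = 2 ^ f) :
    IsCyclic (Cfsg.Out (Cfsg.POmega F (Cfsg.quadFormMinus m F a b))) ∧
      Nat.card (Cfsg.Out (Cfsg.POmega F (Cfsg.quadFormMinus m F a b))) = 2 * f := by
  haveI : Fact (Nat.Prime 2) := ⟨Nat.prime_two⟩
  haveI := Cfsg.Agent.S2690.charP_of_card_pow 2 f hF
  have h2 : (2 : F) = 0 := by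
    have := CharP.cast_eq_zero F 2
    exact_mod_cast this
  have hcard := card_out_minus hm hab hFac 2 hF 2
    (card_DhO_range_two (hQM a b hab) (hnM hm) h2)
  refine ⟨?_, hcard⟩
  obtain ⟨y, -, -, hy⟩ := exists_out_order hm hab hFac 2 hf hF
  haveI : Finite (Cfsg.Out (Cfsg.POmega F (Cfsg.quadFormMinus m F a b))) :=
    Nat.finite_of_card_ne_zero (by rw [hcard]; omega)
  exact isCyclic_of_orderOf_eq_card _ (by rw [hy, hcard])

end minus

end Cfsg.Agent.Lib.H7AutPM
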