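import Cfsg.Agent.Lib.Helper7.AutPM.ClsPar
import Cfsg.Agent.Lib.Helper7.AutPM.OutM
import Cfsg.Agent.Lib.Helper5.OrthAut.InndiagMinusMain
import Mathlib

/-!
# `Inndiag(PΩ⁻_{2m+2}(q))` in all characteristics (helper7)

In characteristic two it is `Inn`; in odd characteristic it is the image of the similarities with
`det g = μ(g)^(m+1)` (helper5).  Uniform consequences.
-/

set_option autoImplicit false
set_option linter.unusedSectionVars false
set_option linter.style.haveILetI false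

namespace Cfsg.Agent.Lib.H7AutPM

open Matrix Cfsg Cfsg.Agent.Lib.H7AutPSp Cfsg.Agent.Lib.H7AutPO Cfsg.Agent.Lib.Helper5.OrthAut
  Cfsg.Agent.H9.Orth Cfsg.Agent.Lib.Helper5.OrthSN Cfsg.Agent.Lib.Helper5.OrthPar
  Cfsg.Agent.Lib.Helper5.OrthCls Cfsg.Agent.Lib.Helper5.OrthPM Cfsg.Agent.Lib.Helper5.OrthTv

universe u

section generic

variable {ι : Type} [Fintype ι] [DecidableEq ι] {F : Type u} [Field F] {Q : (ι → F) → F}

/-- bridge: automorphisms induced by a similarity -/
theorem induced_refl_iff (g : ↥(Cfsg.Geo.quadSimilarityGroup (F := F) Q))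
    (β : MulAut (Cfsg.POmega F Q)) :
    Cfsg.IsInducedBySemilinearPOmega Q g.1 (RingEquiv.refl F) β ↔ β = DhO Q g := by
  rw [← PsO_simIncl]
  exact induced_iff Q (simIncl Q g) β

/-- elements of `Ω` induce inner automorphisms -/
theorem DhO_omega (s : ↥(Cfsg.Omega F Q)) :
    DhO Q ⟨s.1.1, iso_le_sim Q s.1.2⟩ = MulAut.conj (prC s) := by
  apply autC_ext
  intro t
  rw [DhO_pr, MulAut.conj_apply, ← map_mul, ← map_inv, ← map_mul]
  congr 1

theorem DhO_mem_inn_of_omega (g : ↥(Cfsg.Geo.quadSimilarityGroup (F := F) Q))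
    (hg : g.1 ∈ Cfsg.isometryGroup F Q)
    (hω : (⟨g.1, hg⟩ : ↥(Cfsg.isometryGroup F Q)) ∈ Cfsg.Omega F Q) :
    DhO Q g ∈ Cfsg.Inn (Cfsg.POmega F Q) := by
  have := DhO_omega (Q := Q) ⟨⟨g.1, hg⟩, hω⟩
  exact ⟨_, this.symm⟩

end generic

section minus

variable {F : Type u} [Field F] [Fintype F] {m : ℕ} {a b : F}

section two

variable (hm : 3 ≤ m)
  (hab : ∀ z₁ z₂ : F, z₁ ^ 2 + a * z₁ * z₂ + b * z₂ ^ 2 = 0 → z₁ = 0 ∧ z₂ = 0)
  (h2 : (2 : F) = 0)
include hm hab h2

/-- characteristic two: decomposition of a similarity as scalar times isometry -/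
theorem exists_scalar_iso_two
    (g : ↥(Cfsg.Geo.quadSimilarityGroup (F := F) (Cfsg.quadFormMinus m F a b))) :
    ∃ (l : F) (hl0 : l ≠ 0) (g' : GL (IM m) F),
      g' ∈ Cfsg.isometryGroup F (Cfsg.quadFormMinus m F a b) ∧ g.1 = scalarGL l hl0 * g' := by
  haveI : Nonempty (IM m) := ⟨Sum.inr 0⟩
  have hchar : ringChar F = 2 :=
    CharP.ringChar_of_prime_eq_zero Nat.prime_two (by exact_mod_cast h2)
  obtain ⟨l, hl⟩ := FiniteField.isSquare_of_char_two hchar
    (mu g : F)
  obtain ⟨hl0, g', hg', e⟩ := exists_scalar_mul_iso (hQM a b hab) g l hl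
  exact ⟨l, hl0, g', hg', e⟩

theorem DhO_scalar_mul_two
    (g : ↥(Cfsg.Geo.quadSimilarityGroup (F := F) (Cfsg.quadFormMinus m F a b)))
    (l : F) (hl0 : l ≠ 0) (g' : GL (IM m) F)
    (hg' : g' ∈ Cfsg.isometryGroup F (Cfsg.quadFormMinus m F a b))
    (e : g.1 = scalarGL l hl0 * g') :
    DhO (Cfsg.quadFormMinus m F a b) g =
      DhO (Cfsg.quadFormMinus m F a b) ⟨g', iso_le_sim _ hg'⟩ := by
  have e2 : g = (⟨scalarGL l hl0, scalarGL_mem_GO (hQM a b hab) l hl0⟩ :
      ↥(Cfsg.Geo.quadSimilarityGroup (F := F) (Cfsg.quadFormMinus m F a b))) *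
        ⟨g', iso_le_sim _ hg'⟩ := Subtype.ext e
  rw [e2, map_mul, DhO_scalarG (hQM a b hab), one_mul]

/-- characteristic two: a similarity induces an inner automorphism iff its isometry part has even
parity -/
theorem DhO_mem_inn_iff_two
    (g : ↥(Cfsg.Geo.quadSimilarityGroup (F := F) (Cfsg.quadFormMinus m F a b)))
    (l : F) (hl0 : l ≠ 0) (g' : GL (IM m) F)
    (hg' : g' ∈ Cfsg.isometryGroup F (Cfsg.quadFormMinus m F a b))
    (e : g.1 = scalarGL l hl0 * g') :
    DhO (Cfsg.quadFormMinus m F a b) g ∈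
      Cfsg.Inn (Cfsg.POmega F (Cfsg.quadFormMinus m F a b)) ↔ par g' := by
  haveI : CharP F 2 := CharTwo.of_one_ne_zero_of_two_eq_zero one_ne_zero h2
  have hQ := hQM (m := m) a b hab
  have hcard : Fintype.card F ≠ 2 ∨ Fintype.card (IM m) ≠ 4 := Or.inr (by rw [card_IM]; omega)
  have hgen : Cfsg.isometryGroup F (Cfsg.quadFormMinus m F a b) ≤ RR hQ := iso_le_RR hQ hcard
  have heven : Even (Fintype.card (IM m)) := by rw [card_IM]; exact even_two_mul _
  rw [DhO_scalar_mul_two hm hab h2 g l hl0 g' hg' e]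
  constructor
  · intro h
    by_contra hpar
    exact DhO_not_mem_inn_of_not_par hQ (hnM hm) hgen heven ⟨g', iso_le_sim _ hg'⟩ hg' hpar h
  · intro hpar
    apply DhO_mem_inn_of_omega _ hg'
    rw [mem_omega_iff_even_all hQ hcard]
    exact hpar

/-- **characteristic two: `Inndiag = Inn`** -/
theorem inndiag_eq_inn_two :
    Cfsg.inndiagPOmegaMinus m F a b =
      Cfsg.Inn (Cfsg.POmega F (Cfsg.quadFormMinus m F a b)) := by
  haveI : CharP F 2 := CharTwo.of_one_ne_zero_of_two_eq_zero one_ne_zero h2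
  have hQ := hQM (m := m) a b hab
  have hcard : Fintype.card F ≠ 2 ∨ Fintype.card (IM m) ≠ 4 := Or.inr (by rw [card_IM]; omega)
  apply le_antisymm
  · unfold Cfsg.inndiagPOmegaMinus Cfsg.autSubgroupOf
    rw [Subgroup.closure_le]
    rintro β ⟨g, hgG, hpres, hind⟩
    have hβ := (induced_refl_iff ⟨g, hgG⟩ β).1 hind
    obtain ⟨l, hl0, g', hg', e⟩ := exists_scalar_iso_two hm hab h2 ⟨g, hgG⟩
    have hpar := (preservesMinus_iff_par m a b hab g l hl0 g' hg' e).1 hpres
    rw [SetLike.mem_coe, hβ]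
    exact (DhO_mem_inn_iff_two hm hab h2 ⟨g, hgG⟩ l hl0 g' hg' e).2 hpar
  · rintro _ ⟨t, rfl⟩
    obtain ⟨s, rfl⟩ := prC_surjective t
    apply Subgroup.subset_closure
    have hs := (mem_omega_iff_even_all hQ hcard s.1).1 s.2
    refine ⟨s.1.1, iso_le_sim _ s.1.2, ?_, ?_⟩
    · refine (preservesMinus_iff_par m a b hab s.1.1 1 one_ne_zero s.1.1 s.1.2 ?_).2 hs
      apply gl_ext
      intro v
      rw [act_mul, act_scalarGL, one_smul]
    · rw [induced_refl_iff ⟨s.1.1, iso_le_sim _ s.1.2⟩]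
      exact (DhO_omega s).symm

end two

section odd

variable (hm : 3 ≤ m)
  (hab : ∀ z₁ z₂ : F, z₁ ^ 2 + a * z₁ * z₂ + b * z₂ ^ 2 = 0 → z₁ = 0 ∧ z₂ = 0)
  (hodd : Odd (Fintype.card F))
include hm hab hodd

instance : Nonempty (IM m) := ⟨Sum.inr 0⟩

/-- **odd characteristic**: membership in `Inndiag` through the sign character -/
theorem mem_inndiag_iff_odd
    (g : ↥(Cfsg.Geo.quadSimilarityGroup (F := F) (Cfsg.quadFormMinus m F a b))) :
    DhO (Cfsg.quadFormMinus m F a b) g ∈ Cfsg.inndiagPOmegaMinus m F a b ↔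
      chiDet (hQM a b hab) (two_ne_zero_of_odd_card hodd) (m + 1) card_IM g = 1 := by
  have h2 := two_ne_zero_of_odd_card hodd
  have hQ := hQM (m := m) a b hab
  rw [inndiagMinus_eq m a b hodd hab]
  unfold inndiagGen
  rw [DhO_eq_conjHom, ← MonoidHom.mem_ker]
  constructor
  · rintro ⟨g', hg', e⟩
    have h1 : g'⁻¹ * g ∈
        (Cfsg.Agent.Lib.Helper5.OrthAut.conjHom (Cfsg.quadFormMinus m F a b)).ker := by
      rw [MonoidHom.mem_ker, map_mul, map_inv, e, inv_mul_cancel]
    have h3 := ker_le_chiDet hQ (hnM hm) h2 (m + 1) card_IM h1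
    have h4 := mul_mem hg' h3
    rwa [mul_inv_cancel_left] at h4
  · intro hg
    exact ⟨g, hg, rfl⟩

end odd

/-! ### uniform consequences -/

section uniform

variable (hm : 3 ≤ m)
  (hab : ∀ z₁ z₂ : F, z₁ ^ 2 + a * z₁ * z₂ + b * z₂ ^ 2 = 0 → z₁ = 0 ∧ z₂ = 0)
include hm hab

theorem odd_card_of_two_ne_zero (h2 : (2 : F) ≠ 0) : Odd (Fintype.card F) := by
  rw [← Nat.not_even_iff_odd]
  intro hev
  apply h2
  have h3 : ((Fintype.card F : ℕ) : F) = 0 := Nat.cast_card_eq_zero F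
  obtain ⟨p, hp⟩ := CharP.exists F
  haveI := hp
  have hpp : p.Prime := by
    rcases CharP.char_is_prime_or_zero F p with h | h
    · exact h
    · exfalso
      subst h
      haveI : CharZero F := CharP.charP_to_charZero F
      exact absurd (Nat.cast_injective (R := F) (h3.trans Nat.cast_zero.symm))
        Fintype.card_ne_zero
  haveI : Fact p.Prime := ⟨hpp⟩
  obtain ⟨n, hn⟩ := FiniteField.card F p
  have h4 : Even ((p : ℕ) ^ (n : ℕ)) := by rw [← hn.2]; exact hev
  have h5 : Even p := (Nat.even_pow.1 h4).1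
  have h6 : p = 2 := (Nat.Prime.even_iff hpp).1 h5
  subst h6
  exact_mod_cast CharP.cast_eq_zero F 2

theorem inndiag_le_range :
    Cfsg.inndiagPOmegaMinus m F a b ≤ (DhO (Cfsg.quadFormMinus m F a b)).range := by
  by_cases h2 : (2 : F) = 0
  · rw [inndiag_eq_inn_two hm hab h2]
    exact inn_le_DhO_range
  · have hodd := odd_card_of_two_ne_zero hm hab h2
    rw [inndiagMinus_eq m a b hodd hab, ← Cfsg.Agent.Lib.H7AutPO.pgoAut_eq]
    exact inndiagGen_le_pgo _ _ _ _

theorem inn_le_inndiag :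
    Cfsg.Inn (Cfsg.POmega F (Cfsg.quadFormMinus m F a b)) ≤
      Cfsg.inndiagPOmegaMinus m F a b := by
  by_cases h2 : (2 : F) = 0
  · rw [inndiag_eq_inn_two hm hab h2]
  · have hodd := odd_card_of_two_ne_zero hm hab h2
    rw [inndiagMinus_eq m a b hodd hab]
    have hQ := quadFormMinus_nondeg (F := F) m a b
      (disc_ne_zero (two_ne_zero_of_odd_card hodd) a b hab)
    exact inn_le_inndiagGen hQ (hnM hm) _
      (iso_le_RR hQ (Or.inr (by rw [card_IM]; omega))) _ _

/-- every similarity, or its product with the reflection of the binary part, induces an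
inner-diagonal automorphism -/
theorem inndiag_or_refl
    (g : ↥(Cfsg.Geo.quadSimilarityGroup (F := F) (Cfsg.quadFormMinus m F a b))) :
    DhO (Cfsg.quadFormMinus m F a b) g ∈ Cfsg.inndiagPOmegaMinus m F a b ∨
      DhO (Cfsg.quadFormMinus m F a b) (g * ⟨reflM m a, reflM_mem_sim⟩) ∈
        Cfsg.inndiagPOmegaMinus m F a b := by
  have hQ := hQM (m := m) a b hab
  have hD := Cfsg.Agent.S0288.disc_ne_zero a b hab
  have hgen : Cfsg.isometryGroup F (Cfsg.quadFormMinus m F a b) ≤ RR hQ :=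
    iso_le_RR hQ (Or.inr (by rw [card_IM]; omega))
  have hns : Cfsg.quadFormMinus m F a b (Sum.elim 0 ![a, -2]) ≠ 0 := by
    rw [Q_binVec]
    simp only [Matrix.cons_val_zero, Matrix.cons_val_one]
    intro h
    apply hD
    linear_combination h
  by_cases h2 : (2 : F) = 0
  · rw [inndiag_eq_inn_two hm hab h2]
    obtain ⟨l, hl0, g', hg', e⟩ := exists_scalar_iso_two hm hab h2 g
    by_cases hpar : par g'
    · exact Or.inl ((DhO_mem_inn_iff_two hm hab h2 g l hl0 g' hg' e).2 hpar)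
    · right
      have e' : (g * ⟨reflM m a, reflM_mem_sim⟩ :
          ↥(Cfsg.Geo.quadSimilarityGroup (F := F) (Cfsg.quadFormMinus m F a b))).1 =
          scalarGL l hl0 * (g' * reflM m a) := by
        show g.1 * reflM m a = _
        rw [e, mul_assoc]
      refine (DhO_mem_inn_iff_two hm hab h2 _ l hl0 (g' * reflM m a)
        (mul_mem hg' (reflM_mem m a b)) e').2 ?_
      rw [par_mul_gen hQ hgen g' _ hg' (reflM_mem m a b)]
      have hρ : ¬ par (reflM (F := F) m a) := by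
        rw [reflM_eq_rf m a b hQ hD]
        exact not_par_rf hQ _ hns
      tauto
  · have hodd := odd_card_of_two_ne_zero hm hab h2
    rw [mem_inndiag_iff_odd hm hab hodd, mem_inndiag_iff_odd hm hab hodd, map_mul]
    have hρ : chiDet hQ (two_ne_zero_of_odd_card hodd) (m + 1) card_IM
        ⟨reflM m a, reflM_mem_sim⟩ = -1 := by
      have := chiDet_rf hQ (two_ne_zero_of_odd_card hodd) (m + 1) card_IM _ hns
      convert this using 2
      exact Subtype.ext (reflM_eq_rf m a b hQ hD)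
    rw [hρ]
    rcases Int.units_eq_one_or (chiDet hQ (two_ne_zero_of_odd_card hodd) (m + 1) card_IM g)
      with h | h
    · exact Or.inl h
    · right
      rw [h]
      rfl

/-- `Inndiag` is normalised by the image of the semisimilarity group -/
theorem inndiag_conj_PsO (x : ↥(GammaO (Cfsg.quadFormMinus m F a b)))
    (δ : MulAut (Cfsg.POmega F (Cfsg.quadFormMinus m F a b)))
    (hδ : δ ∈ Cfsg.inndiagPOmegaMinus m F a b) :
    PsO _ x * δ * (PsO _ x)⁻¹ ∈ Cfsg.inndiagPOmegaMinus m F a b := by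
  by_cases h2 : (2 : F) = 0
  · rw [inndiag_eq_inn_two hm hab h2] at hδ ⊢
    exact (innNormal _).conj_mem δ hδ _
  · have hodd := odd_card_of_two_ne_zero hm hab h2
    obtain ⟨g, rfl⟩ := inndiag_le_range hm hab hδ
    rw [PsO_conj_DhO, mem_inndiag_iff_odd hm hab hodd, chiDet_conjSim]
    exact (mem_inndiag_iff_odd hm hab hodd g).1 hδ

theorem inndiag_normal (hFac : FacG (Cfsg.quadFormMinus m F a b)) :
    (Cfsg.inndiagPOmegaMinus m F a b).Normal := by
  constructor
  intro δ hδ y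
  obtain ⟨x, rfl⟩ := PsO_surjective _ hFac y
  exact inndiag_conj_PsO hm hab x δ hδ

end uniform

end minus

end Cfsg.Agent.Lib.H7AutPM
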