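import Cfsg.Agent.Lib.Helper7.AutPM.SemiGroup
import Cfsg.Agent.Lib.Helper7.AutPO.FieldInj
import Mathlib

/-!
# The kernel of `PsO` (helper7)

A semisimilarity `v ↦ g σ(v)` acting trivially on `PΩ(Q)` has `σ = 1` and `g` scalar (all
characteristics, dimension at least 7).  Consequently the field automorphism of an automorphism of
`PΩ(Q)` induced by a semisimilarity is well defined: `rho`.
-/

set_option autoImplicit false
set_option linter.unusedSectionVars false

namespace Cfsg.Agent.Lib.H7AutPM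

open Matrix Cfsg Cfsg.Agent.Lib.H7AutPSp Cfsg.Agent.Lib.H7AutPO Cfsg.Agent.Lib.Helper5.OrthAut
  Cfsg.Agent.H9.Orth Cfsg.Agent.Lib.Helper5.OrthSN

universe u

variable {ι : Type} [Fintype ι] [DecidableEq ι] {F : Type u} [Field F]
variable {Q : (ι → F) → F}

theorem sact_eq_act (x : GamL ι F) (h : x.right = 1) (v : ι → F) : sact x v = act x.left v := by
  rw [sact_def, h]
  rfl

theorem sact_zero (x : GamL ι F) : sact x (0 : ι → F) = 0 := semiMapG_zero _ _

theorem sact_ne_zero (x : GamL ι F) (v : ι → F) (hv : v ≠ 0) : sact x v ≠ 0 := by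
  intro h
  apply hv
  rw [← sact_inv_sact x v, h, sact_zero]

theorem sact_act (x : GamL ι F) (s : GL ι F) (w : ι → F) :
    sact x (act s w) = act (conjG x s) (sact x w) := sact_mulVec x s w

section main

variable (hQ : Cfsg.Geo.IsNondegenerateQuadraticForm Q)
include hQ

/-- an additive map commuting with all long root elements fixes every singular line -/
theorem add_singular_of_comm [Fintype F] (hn : 5 ≤ Fintype.card ι) (T : (ι → F) → (ι → F))
    (hadd : ∀ a b, T (a + b) = T a + T b)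
    (hT : ∀ u w : ι → F, Q u = 0 → Q w = 0 → pol Q u w = 0 →
      ∀ v, T (act (sg hQ u w) v) = act (sg hQ u w) (T v))
    (u : ι → F) (hu : Q u = 0) : ∃ c : F, T u = c • u := by
  obtain ⟨e, f, hue, huf, hqe, hqf, hef⟩ := exists_hyperbolic_perp1 hQ hn u
  have hfe : pol Q f e = 1 := by rw [pol_comm]; exact hef
  have hfu : pol Q f u = 0 := by rw [pol_comm]; exact huf
  have heu : pol Q e u = 0 := by rw [pol_comm]; exact hue
  have h1 : T u = pol Q (T f) e • u - pol Q (T f) u • e := by
    have h := hT u e hu hqe hue f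
    rw [act_sg hQ u e hu hue, act_sg hQ u e hu hue, hfe, hfu, hqe] at h
    simp only [zero_mul, mul_zero, sub_zero, zero_smul, one_smul] at h
    rw [hadd] at h
    have h' : T u = (T f + pol Q (T f) e • u - pol Q (T f) u • e) - T f := by
      rw [← h]; abel
    rw [h']; abel
  have h2 : T u = pol Q (T e) f • u - pol Q (T e) u • f := by
    have h := hT u f hu hqf huf e
    rw [act_sg hQ u f hu huf, act_sg hQ u f hu huf, hef, heu, hqf] at h
    simp only [zero_mul, mul_zero, sub_zero, zero_smul, one_smul] at h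
    rw [hadd] at h
    have h' : T u = (T e + pol Q (T e) f • u - pol Q (T e) u • f) - T e := by
      rw [← h]; abel
    rw [h']; abel
  have h3 : pol Q (T f) u = 0 := by
    have h := congrArg (fun v => pol Q v f) (h1.symm.trans h2)
    rw [pol_sub_left hQ, pol_sub_left hQ, pol_smul_left hQ, pol_smul_left hQ, pol_smul_left hQ,
      pol_smul_left hQ, huf, hef, pol_self hQ, hqf] at h
    simp only [mul_zero, mul_one, zero_sub, sub_zero] at h
    exact neg_eq_zero.1 h
  refine ⟨pol Q (T f) e, ?_⟩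
  rw [h1, h3, zero_smul, sub_zero]

/-- a semilinear map fixing every singular line is linear -/
theorem right_eq_one_of_singular [Fintype F] (hn : 5 ≤ Fintype.card ι) (x : GamL ι F)
    (h : ∀ u : ι → F, Q u = 0 → ∃ c : F, sact x u = c • u) : x.right = 1 := by
  obtain ⟨e, f, -, -, hqe, hqf, hef⟩ := exists_hyperbolic_perp1 hQ hn (0 : ι → F)
  obtain ⟨e', f', hee', hef', hqe', hqf', hef''⟩ := exists_hyperbolic_perp1 hQ hn e
  have he0 : e ≠ 0 := by
    rintro rfl
    rw [pol_zero_left hQ] at hef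
    exact zero_ne_one hef
  obtain ⟨c₀, hc₀⟩ := h e hqe
  obtain ⟨c₁, hc₁⟩ := h e' hqe'
  have hc₀0 : c₀ ≠ 0 := by
    rintro rfl
    rw [zero_smul] at hc₀
    exact sact_ne_zero x e he0 hc₀
  have key : ∀ t : F, x.right t * c₁ = c₀ * t := by
    intro t
    have hs : Q (e + t • e') = 0 := by
      rw [Q_add Q, hqe, Q_smul hQ, hqe', pol_smul_right hQ, hee']; ring
    obtain ⟨c, hc⟩ := h (e + t • e') hs
    rw [sact_add, sact_smul, hc₀, hc₁, smul_add, smul_smul, smul_smul] at hc
    have h1 := congrArg (fun v => pol Q v f') hc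
    beta_reduce at h1
    rw [pol_add_left hQ, pol_add_left hQ, pol_smul_left hQ, pol_smul_left hQ, pol_smul_left hQ,
      pol_smul_left hQ, hef', hef'', mul_zero, mul_zero, zero_add, zero_add, mul_one, mul_one]
      at h1
    have h2 : (c₀ - c) • e = 0 := by
      rw [sub_smul]
      have : c₀ • e = c • e + ((c * t) • e' - (x.right t * c₁) • e') := by
        have h5 := eq_sub_of_add_eq hc
        rw [h5]; abel
      rw [this, h1, sub_self, add_zero, sub_self]
    rcases smul_eq_zero.1 h2 with h3 | h3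
    · rw [h1, ← sub_eq_zero.1 h3]
    · exact absurd h3 he0
  have h1 := key 1
  rw [map_one, one_mul, mul_one] at h1
  apply RingEquiv.ext
  intro t
  show x.right t = t
  have h2 := key t
  rw [h1, mul_comm] at h2
  exact mul_left_cancel₀ hc₀0 h2

variable [Fintype F]

/-- a semisimilarity acting trivially on `PΩ(Q)` commutes with the long root elements -/
theorem conjG_sg_of_PsO_eq_one (hn : 7 ≤ Fintype.card ι) (x : ↥(GammaO Q))
    (hx : PsO Q x = 1) (u w : ι → F) (hu : Q u = 0) (hw : Q w = 0) (huw : pol Q u w = 0) :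
    conjG x.1 (sg hQ u w) = sg hQ u w := by
  -- up to sign
  have hpm : ∀ w : ι → F, Q w = 0 → pol Q u w = 0 →
      conjG x.1 (sg hQ u w) = sg hQ u w ∨ conjG x.1 (sg hQ u w) = -sg hQ u w := by
    intro w hw huw
    obtain ⟨y, hy, hyx⟩ := exists_omega_sg hQ hn u w hu hw huw
    have e := DFunLike.congr_fun hx (prC (⟨y, hy⟩ : ↥(Cfsg.Omega F Q)))
    rw [PsO_pr, MulAut.one_apply, prC_eq_iff] at e
    have hz := center_omega_val hQ hn _ e
    rw [Subgroup.coe_mul, Subgroup.coe_mul, Subgroup.coe_inv, Subgroup.coe_inv] at hz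
    have ea : (((commAut (semiIso Q x) (⟨y, hy⟩ : ↥(Cfsg.Omega F Q)) : ↥(Cfsg.Omega F Q)) :
        ↥(Cfsg.isometryGroup F Q)) : GL ι F) = conjG x.1 (sg hQ u w) := by
      show conjG x.1 (y : GL ι F) = _
      rw [hyx]
    rw [ea] at hz
    have eb : (((⟨y, hy⟩ : ↥(Cfsg.Omega F Q)) : ↥(Cfsg.isometryGroup F Q)) : GL ι F) =
        sg hQ u w := hyx
    rw [eb] at hz
    rcases hz with hz | hz
    · left
      exact (inv_mul_eq_one.1 hz)
    · right
      have : conjG x.1 (sg hQ u w) = sg hQ u w * (-1)⁻¹ := by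
        rw [← hz]; group
      rw [this, inv_neg, inv_one, mul_neg, mul_one]
  by_cases h2 : (2 : F) = 0
  · rcases hpm w hw huw with h | h
    · exact h
    · rw [h]
      apply Units.ext
      rw [Units.val_neg]
      have : (-1 : F) = 1 := by
        rw [neg_eq_iff_add_eq_zero]
        linear_combination h2
      rw [← neg_one_smul F, this, one_smul]
  · have h1 : pol Q u ((2 : F)⁻¹ • w) = 0 := by rw [pol_smul_right hQ, huw, mul_zero]
    have h3 : Q ((2 : F)⁻¹ • w) = 0 := by rw [Q_smul hQ, hw, mul_zero]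
    have hsq : sg hQ u w = sg hQ u ((2 : F)⁻¹ • w) * sg hQ u ((2 : F)⁻¹ • w) := by
      rw [sg_mul hQ u _ _ h1 h1, ← add_smul]
      congr 1
      have : (2 : F)⁻¹ + (2 : F)⁻¹ = 1 := by field_simp; norm_num
      rw [this, one_smul]
    have : conjG x.1 (sg hQ u w) = conjG x.1 (sg hQ u ((2 : F)⁻¹ • w)) *
        conjG x.1 (sg hQ u ((2 : F)⁻¹ • w)) := by
      rw [← map_mul, ← hsq]
    rw [this]
    rcases hpm _ h3 h1 with h6 | h6
    · rw [h6, ← hsq]
    · rw [h6, neg_mul_neg, ← hsq]

/-- **the kernel of `PsO`**: a semisimilarity acting trivially on `PΩ(Q)` is a scalar -/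
theorem ker_PsO (hn : 7 ≤ Fintype.card ι) (x : ↥(GammaO Q)) (hx : PsO Q x = 1) :
    x.1.right = 1 ∧ ∃ l : F, ∀ v, act x.1.left v = l • v := by
  have hsing : ∀ u : ι → F, Q u = 0 → ∃ c : F, sact x.1 u = c • u := by
    apply add_singular_of_comm hQ (by omega) (sact x.1) (sact_add x.1)
    intro u w hu hw huw v
    rw [sact_act, conjG_sg_of_PsO_eq_one hQ hn x hx u w hu hw huw]
  have hr : x.1.right = 1 := right_eq_one_of_singular hQ (by omega) x.1 hsing
  refine ⟨hr, ?_⟩
  apply scalar_of_singular hQ hn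
  intro v hv _
  obtain ⟨c, hc⟩ := hsing v hv
  exact ⟨c, by rw [← sact_eq_act x.1 hr, hc]⟩

theorem ker_PsO_le (hn : 7 ≤ Fintype.card ι) : (PsO Q).ker ≤ (rightO Q).ker := by
  intro x hx
  rw [MonoidHom.mem_ker] at hx ⊢
  exact (ker_PsO hQ hn x hx).1

/-- **the field automorphism of an automorphism of `PΩ(Q)`** (when all are induced by
semisimilarities) -/
noncomputable def rho (hn : 7 ≤ Fintype.card ι) (hsurj : Function.Surjective (PsO Q)) :
    MulAut (Cfsg.POmega F Q) →* RingAut F :=
  (PsO Q).liftOfSurjective hsurj ⟨rightO Q, ker_PsO_le hQ hn⟩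

theorem rho_PsO (hn : 7 ≤ Fintype.card ι) (hsurj : Function.Surjective (PsO Q))
    (x : ↥(GammaO Q)) : rho hQ hn hsurj (PsO Q x) = x.1.right :=
  (PsO Q).liftOfRightInverse_comp_apply _ _ ⟨rightO Q, ker_PsO_le hQ hn⟩ x

theorem rho_ker (hn : 7 ≤ Fintype.card ι) (hsurj : Function.Surjective (PsO Q)) :
    (rho hQ hn hsurj).ker = (DhO Q).range := by
  ext β
  rw [MonoidHom.mem_ker]
  obtain ⟨x, rfl⟩ := hsurj β
  rw [rho_PsO]
  constructor
  · intro h
    have hx : x ∈ (rightO Q).ker := h
    rw [rightO_ker] at hx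
    obtain ⟨g, rfl⟩ := hx
    exact ⟨g, (PsO_simIncl Q g).symm⟩
  · rintro ⟨g, hg⟩
    rw [← PsO_simIncl] at hg
    have h1 : PsO Q ((simIncl Q g)⁻¹ * x) = 1 := by
      rw [map_mul, map_inv, hg, inv_mul_cancel]
    have h2 := (ker_PsO hQ hn _ h1).1
    rw [Subgroup.coe_mul, SemidirectProduct.mul_right, Subgroup.coe_inv,
      SemidirectProduct.inv_right, simIncl_right, inv_one, one_mul] at h2
    exact h2

/-- the kernel of `DhO`: scalars (all characteristics) -/
theorem scalar_of_DhO_eq_one (hn : 7 ≤ Fintype.card ι)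
    (g : ↥(Cfsg.Geo.quadSimilarityGroup (F := F) Q)) (hg : DhO Q g = 1) :
    ∃ l : F, ∀ v, act g.1 v = l • v := by
  rw [← PsO_simIncl] at hg
  exact (ker_PsO hQ hn _ hg).2

end main

end Cfsg.Agent.Lib.H7AutPM
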