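import Cfsg.Agent.Lib.Helper7.AutPM.CosetMainP
import Cfsg.Agent.S2602
import Mathlib

/-!
# `Aut(PΩ⁺_{2m}(q)) / Inndiag` is abelian (under `FacG`); graph-field involutions are conjugate
(helper7)
-/

set_option autoImplicit false
set_option linter.unusedSectionVars false
set_option linter.style.haveILetI false

namespace Cfsg.Agent.Lib.H7AutPM

open Matrix Cfsg Cfsg.Agent.Lib.H7AutPSp Cfsg.Agent.Lib.H7AutPO Cfsg.Agent.Lib.H7AutPSL
  Cfsg.Agent.Lib.Helper5.OrthAut Cfsg.Agent.H9.Orth Cfsg.Agent.Lib.Helper5.OrthSN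
  Cfsg.Agent.Lib.Helper5.OrthPar Cfsg.Agent.Lib.Helper5.OrthCls Cfsg.Agent.Lib.Helper5.OrthPM

universe u

variable {F : Type u} [Field F] [Fintype F] {m : ℕ}

/-- field automorphisms of a finite field commute -/
theorem ringAut_comm (σ τ : RingAut F) : σ * τ = τ * σ := by
  obtain ⟨p, hp⟩ := CharP.exists F
  haveI := hp
  haveI : Fact p.Prime := ⟨CharP.char_is_prime F p⟩
  obtain ⟨n, -, hn⟩ := FiniteField.card F p
  haveI := (Cfsg.Agent.S2602.ringAut_cyclic (F := F) p n hn).1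
  exact Std.Commutative.comm σ τ

theorem mul_eq_of_invol {G : Type*} [Group G] (g h ρ : G) (hρ : ρ * ρ = 1) :
    g * h = (g * ρ) * (h⁻¹ * ρ)⁻¹ := by
  have hρi : ρ⁻¹ = ρ := inv_eq_of_mul_eq_one_right hρ
  rw [_root_.mul_inv_rev, inv_inv, hρi]
  calc g * h = g * (ρ * ρ) * h := by rw [hρ, mul_one]
    _ = g * ρ * (ρ * h) := by simp only [mul_assoc]

section simD

variable (hm : 4 ≤ m)
include hm

/-- membership of `DhO (g h)` in `Inndiag` -/
theorem mul_mem_inndiag_iff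
    (g h : ↥(Cfsg.Geo.quadSimilarityGroup (F := F) (Cfsg.quadFormPlus m F))) :
    DhO _ (g * h) ∈ Cfsg.inndiagPOmegaPlus m F ↔
      (DhO _ g ∈ Cfsg.inndiagPOmegaPlus m F ↔ DhO _ h ∈ Cfsg.inndiagPOmegaPlus m F) := by
  have hm0 : 0 < m := by omega
  have hv0 : Cfsg.quadFormPlus m F (vP (F := F) hm0) ≠ 0 := by
    rw [Q_vP]; exact one_ne_zero
  have key := fun k => inndiag_iff_not_mul_rf hm k (vP (F := F) hm0) hv0
  have hρ2 : rfS (vP (F := F) hm0) * rfS (vP hm0) = 1 := rfS_mul_self _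
  by_cases hg : DhO _ g ∈ Cfsg.inndiagPOmegaPlus m F
  · by_cases hh : DhO _ h ∈ Cfsg.inndiagPOmegaPlus m F
    · have : DhO _ (g * h) ∈ Cfsg.inndiagPOmegaPlus m F := by
        rw [map_mul]; exact mul_mem hg hh
      exact ⟨fun _ => ⟨fun _ => hh, fun _ => hg⟩, fun _ => this⟩
    · have : DhO _ (g * h) ∉ Cfsg.inndiagPOmegaPlus m F := by
        intro h1
        apply hh
        have : DhO _ h = (DhO _ g)⁻¹ * DhO _ (g * h) := by rw [map_mul, inv_mul_cancel_left]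
        rw [this]
        exact mul_mem (inv_mem hg) h1
      exact ⟨fun h1 => absurd h1 this, fun h1 => absurd (h1.1 hg) hh⟩
  · by_cases hh : DhO _ h ∈ Cfsg.inndiagPOmegaPlus m F
    · have : DhO _ (g * h) ∉ Cfsg.inndiagPOmegaPlus m F := by
        intro h1
        apply hg
        have : DhO _ g = DhO _ (g * h) * (DhO _ h)⁻¹ := by rw [map_mul, mul_inv_cancel_right]
        rw [this]
        exact mul_mem h1 (inv_mem hh)
      exact ⟨fun h1 => absurd h1 this, fun h1 => absurd (h1.2 hh) hg⟩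
    · have h1 : DhO _ (g * rfS (vP hm0)) ∈ Cfsg.inndiagPOmegaPlus m F := (key g).2 hg
      have h2 : DhO _ (h⁻¹ * rfS (vP hm0)) ∈ Cfsg.inndiagPOmegaPlus m F := by
        apply (key h⁻¹).2
        intro h3
        apply hh
        rw [map_inv] at h3
        have := inv_mem h3
        rwa [inv_inv] at this
      have e : DhO _ (g * h) =
          DhO _ (g * rfS (vP hm0)) * (DhO _ (h⁻¹ * rfS (vP hm0)))⁻¹ := by
        rw [← map_inv, ← map_mul]
        exact congrArg _ (mul_eq_of_invol g h _ hρ2)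
      have : DhO _ (g * h) ∈ Cfsg.inndiagPOmegaPlus m F := by
        rw [e]
        exact mul_mem h1 (inv_mem h2)
      exact ⟨fun _ => ⟨fun a => absurd a hg, fun b => absurd b hh⟩, fun _ => this⟩

theorem inv_mem_inndiag_iff
    (g : ↥(Cfsg.Geo.quadSimilarityGroup (F := F) (Cfsg.quadFormPlus m F))) :
    DhO _ g⁻¹ ∈ Cfsg.inndiagPOmegaPlus m F ↔ DhO _ g ∈ Cfsg.inndiagPOmegaPlus m F := by
  rw [map_inv]
  exact inv_mem_iff

/-- twisting by a field automorphism does not change membership in `Inndiag` -/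
theorem conjSim_mem_inndiag_iff (x : ↥(GammaO (Cfsg.quadFormPlus m F)))
    (g : ↥(Cfsg.Geo.quadSimilarityGroup (F := F) (Cfsg.quadFormPlus m F))) :
    DhO _ (conjSim x g) ∈ Cfsg.inndiagPOmegaPlus m F ↔
      DhO _ g ∈ Cfsg.inndiagPOmegaPlus m F := by
  rw [← PsO_conj_DhO]
  constructor
  · intro h
    have := inndiag_conj_PsO_P hm x⁻¹ _ h
    rw [map_inv, inv_inv] at this
    have e : (PsO _ x)⁻¹ * (PsO _ x * DhO _ g * (PsO _ x)⁻¹) * PsO _ x = DhO _ g := by group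
    rwa [e] at this
  · intro h
    exact inndiag_conj_PsO_P hm x _ h

end simD

section decomp

theorem PhiQ_mul (σ τ : RingAut F) :
    PhiQ (Q := Cfsg.quadFormPlus m F) (σ * τ) (hσP (σ * τ)) =
      PhiQ σ (hσP σ) * PhiQ τ (hσP τ) := by
  unfold PhiQ
  rw [← map_mul]
  congr 1
  apply Subtype.ext
  show (SemidirectProduct.inr (σ * τ) : GamL (Fin m ⊕ Fin m) F) =
    SemidirectProduct.inr σ * SemidirectProduct.inr τ
  rw [map_mul]

theorem PhiQ_comm (σ τ : RingAut F) :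
    PhiQ (Q := Cfsg.quadFormPlus m F) σ (hσP σ) * PhiQ τ (hσP τ) =
      PhiQ τ (hσP τ) * PhiQ σ (hσP σ) := by
  rw [← PhiQ_mul, ← PhiQ_mul]
  congr 1
  exact ringAut_comm σ τ

variable (hFac : FacG (Cfsg.quadFormPlus m F))
include hFac

/-- every automorphism is a similarity times a standard field automorphism -/
theorem exists_DhO_PhiQ (β : MulAut (Cfsg.POmega F (Cfsg.quadFormPlus m F))) :
    ∃ (g : ↥(Cfsg.Geo.quadSimilarityGroup (F := F) (Cfsg.quadFormPlus m F))) (τ : RingAut F),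
      β = DhO _ g * PhiQ τ (hσP τ) := by
  obtain ⟨x, rfl⟩ := PsO_surjective _ hFac β
  have hmem : x * (stdGQ x.1.right (hσP (m := m) x.1.right))⁻¹ ∈
      (rightO (Cfsg.quadFormPlus m F)).ker := by
    rw [MonoidHom.mem_ker, map_mul, map_inv, rightO_apply, rightO_apply, stdGQ_right,
      mul_inv_cancel]
  rw [rightO_ker] at hmem
  obtain ⟨g, hg⟩ := hmem
  refine ⟨g, x.1.right, ?_⟩
  rw [← PsO_cosGQ]
  congr 1
  unfold cosGQ
  rw [hg, inv_mul_cancel_right]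

variable (hm : 4 ≤ m)
include hm

/-- **`Aut(PΩ⁺) / Inndiag` is abelian** -/
theorem comm_mem_inndiag (u z : MulAut (Cfsg.POmega F (Cfsg.quadFormPlus m F))) :
    u * z * u⁻¹ * z⁻¹ ∈ Cfsg.inndiagPOmegaPlus m F := by
  obtain ⟨g, τ, rfl⟩ := exists_DhO_PhiQ hFac u
  obtain ⟨h, σ, rfl⟩ := exists_DhO_PhiQ hFac z
  have e1 : ∀ (g h : ↥(Cfsg.Geo.quadSimilarityGroup (F := F) (Cfsg.quadFormPlus m F)))
      (τ σ : RingAut F), DhO _ g * PhiQ τ (hσP τ) * (DhO _ h * PhiQ σ (hσP σ)) =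
        DhO _ (g * conjSim (stdGQ τ (hσP τ)) h) * PhiQ (τ * σ) (hσP (τ * σ)) := by
    intro g h τ σ
    rw [map_mul, ← PhiQ_conj_DhO, PhiQ_mul]
    group
  have e2 : DhO _ g * PhiQ τ (hσP τ) * (DhO _ h * PhiQ σ (hσP σ)) *
      (DhO _ g * PhiQ τ (hσP τ))⁻¹ * (DhO _ h * PhiQ σ (hσP σ))⁻¹ =
      DhO _ (g * conjSim (stdGQ τ (hσP τ)) h) *
        (DhO _ (h * conjSim (stdGQ σ (hσP σ)) g))⁻¹ := by
    have e3 : DhO _ g * PhiQ τ (hσP τ) * (DhO _ h * PhiQ σ (hσP σ)) *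
        (DhO _ g * PhiQ τ (hσP τ))⁻¹ * (DhO _ h * PhiQ σ (hσP σ))⁻¹ =
        (DhO _ g * PhiQ τ (hσP τ) * (DhO _ h * PhiQ σ (hσP σ))) *
          (DhO _ h * PhiQ σ (hσP σ) * (DhO _ g * PhiQ τ (hσP τ)))⁻¹ := by
      group
    rw [e3, e1, e1]
    have e4 : PhiQ (Q := Cfsg.quadFormPlus m F) (σ * τ) (hσP (σ * τ)) =
        PhiQ (τ * σ) (hσP (τ * σ)) := by
      congr 1
      exact ringAut_comm σ τ
    rw [e4, _root_.mul_inv_rev, mul_assoc, mul_inv_cancel_left]
  rw [e2, ← map_inv, ← map_mul, mul_mem_inndiag_iff hm, inv_mem_inndiag_iff hm,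
    mul_mem_inndiag_iff hm, mul_mem_inndiag_iff hm, conjSim_mem_inndiag_iff hm,
    conjSim_mem_inndiag_iff hm]
  tauto

/-- conjugate automorphisms are congruent modulo `Inndiag` -/
theorem conj_mul_inv_mem_inndiag (α x x₁ : MulAut (Cfsg.POmega F (Cfsg.quadFormPlus m F)))
    (h : α * x * α⁻¹ = x₁) : x * x₁⁻¹ ∈ Cfsg.inndiagPOmegaPlus m F := by
  have e : x * x₁⁻¹ = α⁻¹ * x₁ * α⁻¹⁻¹ * x₁⁻¹ := by
    rw [← h]
    group
  rw [e]
  exact comm_mem_inndiag hFac hm _ _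

end decomp

section conjInvol

/-- a finite field has at most one automorphism of order two -/
theorem ringAut_invol_unique (σ σ' : RingAut F) (h : orderOf σ = 2) (h' : orderOf σ' = 2) :
    σ = σ' := by
  classical
  obtain ⟨p, hp⟩ := CharP.exists F
  haveI := hp
  haveI : Fact p.Prime := ⟨CharP.char_is_prime F p⟩
  obtain ⟨n, -, hn⟩ := FiniteField.card F p
  obtain ⟨hcyc, hcard⟩ := Cfsg.Agent.S2602.ringAut_cyclic (F := F) p n hn
  haveI := hcyc
  haveI : Finite (RingAut F) := Nat.finite_of_card_ne_zero (by rw [hcard]; exact n.ne_zero)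
  haveI : Fintype (RingAut F) := Fintype.ofFinite _
  by_contra hne
  have h1 : σ ≠ 1 := by
    rintro rfl
    rw [orderOf_one] at h
    omega
  have h1' : σ' ≠ 1 := by
    rintro rfl
    rw [orderOf_one] at h'
    omega
  have hσ2 : σ ^ 2 = 1 := by rw [← h]; exact pow_orderOf_eq_one σ
  have hσ'2 : σ' ^ 2 = 1 := by rw [← h']; exact pow_orderOf_eq_one σ'
  have hle := IsCyclic.card_pow_eq_one_le (α := RingAut F) (n := 2) (by norm_num)
  have hsub : ({1, σ, σ'} : Finset (RingAut F)) ⊆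
      Finset.univ.filter (fun a : RingAut F => a ^ 2 = 1) := by
    intro a ha
    rw [Finset.mem_filter]
    refine ⟨Finset.mem_univ _, ?_⟩
    rw [Finset.mem_insert, Finset.mem_insert, Finset.mem_singleton] at ha
    rcases ha with rfl | rfl | rfl
    · exact one_pow 2
    · exact hσ2
    · exact hσ'2
  have hc : ({1, σ, σ'} : Finset (RingAut F)).card = 3 := by
    rw [Finset.card_insert_of_notMem, Finset.card_insert_of_notMem, Finset.card_singleton]
    · rw [Finset.mem_singleton]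
      exact hne
    · rw [Finset.mem_insert, Finset.mem_singleton]
      rintro (h2 | h2)
      · exact h1 h2.symm
      · exact h1' h2.symm
  have := Finset.card_le_card hsub
  omega

variable (hm : 4 ≤ m) (hFac : FacG (Cfsg.quadFormPlus m F))
include hm hFac

/-- the normal form of an involutory graph-field automorphism -/
theorem graphfield_data (x : MulAut (Cfsg.POmega F (Cfsg.quadFormPlus m F)))
    (hx : Cfsg.IsGraphFieldAutClassPOmegaPlus m x) (hx2 : orderOf x = 2) :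
    ∃ (α : MulAut (Cfsg.POmega F (Cfsg.quadFormPlus m F))) (σ : RingAut F)
      (v : Fin m ⊕ Fin m → F), orderOf σ = 2 ∧ Cfsg.quadFormPlus m F v ≠ 0 ∧ vmap σ v = v ∧
      α * x * α⁻¹ = DhO _ (rfS v) * PhiQ σ (hσP σ) := by
  obtain ⟨α, γ, φ, σ, v, rr, hσ1, hv, hvfix, hrr, hγ, hφ, hαx⟩ := hx
  rw [fieldAut_iff_Q σ (hσP σ)] at hφ
  subst hφ
  have hrr' : rr = rf hQP v :=
    Units.ext (hrr.trans (reflectionMatrix_eq_rf hQP v hv))
  subst hrr'
  have hγ' : γ = DhO _ (rfS v) :=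
    (induced_refl_iff (rfS v) γ).1 hγ
  subst hγ'
  have hfix : vmap σ v = v := funext hvfix
  have hΦr : orderOf (DhO (Cfsg.quadFormPlus m F) (rfS v) * PhiQ σ (hσP σ)) = 2 := by
    rw [← hαx, ← MulAut.conj_apply, MulEquiv.orderOf_eq, hx2]
  obtain ⟨-, hσ2⟩ := graphfield_order hm σ hσ1 v hv hfix 2 Nat.prime_two hΦr
  exact ⟨α, σ, v, hσ2, hv, hfix, hαx⟩

/-- **any two involutory graph-field automorphisms of `PΩ⁺_{2m}(q)` are `Inndiag`-conjugate** -/
theorem graphfield_invol_conj (x y : MulAut (Cfsg.POmega F (Cfsg.quadFormPlus m F)))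
    (hx : Cfsg.IsGraphFieldAutClassPOmegaPlus m x) (hx2 : orderOf x = 2)
    (hy : Cfsg.IsGraphFieldAutClassPOmegaPlus m y) (hy2 : orderOf y = 2) :
    Cfsg.IsConjUnder (Cfsg.inndiagPOmegaPlus m F) x y := by
  obtain ⟨α, σ, v, hσ2, hv, hfix, hαx⟩ := graphfield_data hm hFac x hx hx2
  obtain ⟨α', σ', v', hσ'2, hv', hfix', hαy⟩ := graphfield_data hm hFac y hy hy2
  obtain rfl : σ = σ' := ringAut_invol_unique σ σ' hσ2 hσ'2
  have h1 := conj_mul_inv_mem_inndiag hFac hm α x _ hαx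
  have h2 := conj_mul_inv_mem_inndiag hFac hm α' y _ hαy
  have h3 : DhO _ (rfS v') * PhiQ σ (hσP σ) *
      (DhO (Cfsg.quadFormPlus m F) (rfS v) * PhiQ σ (hσP σ))⁻¹ ∈
      Cfsg.inndiagPOmegaPlus m F := by
    have e : DhO _ (rfS v') * PhiQ σ (hσP σ) *
        (DhO (Cfsg.quadFormPlus m F) (rfS v) * PhiQ σ (hσP σ))⁻¹ = DhO _ (rfS v' * rfS v) := by
      rw [_root_.mul_inv_rev, DhO_rfS_inv, map_mul]
      group
    rw [e]
    exact (inndiag_iff_not_mul_rf hm (rfS v') v hv).2 (DhO_rf_not_mem_inndiag hm v' hv')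
  have hδ : y * x⁻¹ ∈ Cfsg.inndiagPOmegaPlus m F := by
    have e : y * x⁻¹ = (y * (DhO _ (rfS v') * PhiQ σ (hσP σ))⁻¹) *
        (DhO _ (rfS v') * PhiQ σ (hσP σ) *
          (DhO (Cfsg.quadFormPlus m F) (rfS v) * PhiQ σ (hσP σ))⁻¹) *
        (x * (DhO (Cfsg.quadFormPlus m F) (rfS v) * PhiQ σ (hσP σ))⁻¹)⁻¹ := by
      group
    rw [e]
    exact mul_mem (mul_mem h2 h3) (inv_mem h1)
  have key := (field_coset_iff_P hm hFac x (y * x⁻¹) (Or.inr hx) Nat.prime_two hx2 hδ).1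
  rw [inv_mul_cancel_right] at key
  exact key hy2

end conjInvol

end Cfsg.Agent.Lib.H7AutPM
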