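import Cfsg.Agent.Lib.Helper7.AutPM.GFSplit
import Cfsg.Agent.Lib.Helper7.AutPM.ModD
import Cfsg.Agent.Lib.Helper7.AutPM.SplitM
import Cfsg.Agent.Lib.Helper7.AutPSL.FixedField
import Mathlib

/-!
# Involutory graph-field automorphisms of `PΩ⁺_{2m}(q)`: the main theorem (helper7)

Everything is conditional on the factorisation `FacG` of the automorphism group (S2695).
-/

set_option autoImplicit false
set_option linter.unusedSectionVars false
set_option linter.style.haveILetI false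

namespace Cfsg.Agent.Lib.H7AutPM

open Matrix Cfsg Cfsg.Agent.Lib.H7AutPSp Cfsg.Agent.Lib.H7AutPO Cfsg.Agent.Lib.H7AutPSL
  Cfsg.Agent.Lib.Helper5.OrthAut Cfsg.Agent.H9.Orth Cfsg.Agent.Lib.Helper5.OrthSN
  Cfsg.Agent.Lib.Helper5.OrthPar Cfsg.Agent.Lib.Helper5.OrthCls Cfsg.Agent.Lib.Helper5.OrthPM

universe u v

section params

variable {F : Type u} [Field F] {F₀ : Type v} [Field F₀]

/-- the parameters of the twisted model attached to an involution of `F` with fixed field `F₀` -/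
theorem exists_gf_params (ι : F₀ →+* F) (σ : RingAut F) (hσ2 : σ * σ = 1) (hσ1 : σ ≠ 1)
    (hι : ∀ t : F, σ t = t ↔ ∃ s, ι s = t) :
    ∃ (a₀ b₀ : F₀) (θ θ' : F), θ ≠ θ' ∧ θ + θ' = ι a₀ ∧ θ * θ' = ι b₀ ∧ σ θ = θ' ∧ σ θ' = θ ∧
      (∀ z₁ z₂ : F₀, z₁ ^ 2 + a₀ * z₁ * z₂ + b₀ * z₂ ^ 2 = 0 → z₁ = 0 ∧ z₂ = 0) := by
  have hex : ∃ θ : F, σ θ ≠ θ := by
    by_contra h
    push Not at h
    exact hσ1 (RingEquiv.ext h)
  obtain ⟨θ, hθ⟩ := hex
  have hσσ : ∀ t, σ (σ t) = t := fun t => by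
    have := congrArg (fun τ : RingAut F => τ t) hσ2
    exact this
  obtain ⟨a₀, ha⟩ := (hι (θ + σ θ)).1 (by rw [map_add, hσσ, add_comm])
  obtain ⟨b₀, hb⟩ := (hι (θ * σ θ)).1 (by rw [map_mul, hσσ, mul_comm])
  refine ⟨a₀, b₀, θ, σ θ, fun h => hθ h.symm, ha.symm, hb.symm, rfl, hσσ θ, ?_⟩
  intro z₁ z₂ hz
  have h1 : (ι z₁ + θ * ι z₂) * (ι z₁ + σ θ * ι z₂) = 0 := by
    have := congrArg ι hz
    simp only [map_add, map_mul, map_pow, map_zero, ha, hb] at this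
    linear_combination this
  have hz2 : z₂ = 0 := by
    by_contra hne
    have hne' : ι z₂ ≠ 0 := fun h => hne (ι.injective (by rw [h, map_zero]))
    have hfixed : ∀ t : F, ι z₁ + t * ι z₂ = 0 → σ t = t := by
      intro t ht
      rw [hι]
      refine ⟨-z₁ / z₂, ?_⟩
      rw [map_div₀, map_neg]
      field_simp
      linear_combination -ht
    rcases mul_eq_zero.1 h1 with h | h
    · exact hθ (hfixed θ h)
    · have := hfixed (σ θ) h
      rw [hσσ] at this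
      exact hθ this.symm
  subst hz2
  refine ⟨?_, rfl⟩
  have : z₁ ^ 2 = 0 := by
    rw [← hz]
    ring
  exact pow_eq_zero_iff (two_ne_zero) |>.1 this

end params

section generic

variable {A : Type*} [Group A]

theorem splitClassCount_self (D : Subgroup A) [D.Normal] (x : A) :
    Cfsg.splitClassCount D D x = 1 :=
  splitClassCount_eq_one_of_splitSub D D le_rfl x (sup_eq_left.2 inf_le_left)

end generic

section main

variable {F : Type u} [Field F] [Fintype F]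

/-- the standard graph-field automorphism is one -/
theorem xGF_isGraphField (l : ℕ) (σ : RingAut F) (hσ1 : σ ≠ 1) :
    Cfsg.IsGraphFieldAutClassPOmegaPlus (l + 1) (xGF l σ) := by
  refine ⟨1, DhO _ (rfS vGF), PhiQ σ (hσP σ), σ, vGF, rf hQP vGF, hσ1, Q_vGF_ne, ?_, ?_, ?_, ?_, ?_⟩
  · intro i
    exact congrFun (vmap_vGF σ) i
  · exact (reflectionMatrix_eq_rf hQP vGF Q_vGF_ne).symm
  · exact (induced_refl_iff (rfS vGF) _).2 rfl
  · exact (fieldAut_iff_Q σ (hσP σ) _).2 rfl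
  · rw [one_mul, inv_one, mul_one]
    rfl

/-- the standard graph-field automorphism is an involution -/
theorem orderOf_xGF {l : ℕ} (hl : 3 ≤ l) (σ : RingAut F) (hσ : orderOf σ = 2) :
    orderOf (xGF l σ) = 2 := by
  have hm : 4 ≤ l + 1 := by omega
  have hQ := hQP (F := F) (m := l + 1)
  have hn := hnP (m := l + 1) hm
  have hσ1 : σ ≠ 1 := by
    intro h
    rw [h, orderOf_one] at hσ
    omega
  have hcomm : DhO (Cfsg.quadFormPlus (l + 1) F) (rfS vGF) * PhiQ σ (hσP σ) =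
      PhiQ σ (hσP σ) * DhO _ (rfS vGF) := DhO_rfS_comm σ vGF Q_vGF_ne (vmap_vGF σ)
  have e0 : DhO (Cfsg.quadFormPlus (l + 1) F) (rfS vGF) * DhO _ (rfS vGF) = 1 := by
    rw [← map_mul, rfS_mul_self, map_one]
  have e1 : PhiQ (Q := Cfsg.quadFormPlus (l + 1) F) σ (hσP σ) * PhiQ σ (hσP σ) = 1 := by
    rw [← pow_two, PhiQ_pow]
    have hσ2 : σ ^ 2 = 1 := by rw [← hσ]; exact pow_orderOf_eq_one σ
    have : PhiQ (Q := Cfsg.quadFormPlus (l + 1) F) (σ ^ 2) (hσP (σ ^ 2)) =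
        PhiQ (1 : RingAut F) (hσP 1) := by
      congr 1
    rw [this, PhiQ_one]
  have hpow : xGF l σ ^ 2 = 1 := by
    rw [pow_two]
    unfold xGF
    calc DhO (Cfsg.quadFormPlus (l + 1) F) (rfS vGF) * PhiQ σ (hσP σ) *
        (DhO _ (rfS vGF) * PhiQ σ (hσP σ))
        = DhO (Cfsg.quadFormPlus (l + 1) F) (rfS vGF) *
          (PhiQ σ (hσP σ) * DhO _ (rfS vGF)) * PhiQ σ (hσP σ) := by
          simp only [mul_assoc]
      _ = (DhO (Cfsg.quadFormPlus (l + 1) F) (rfS vGF) * DhO _ (rfS vGF)) *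
          (PhiQ σ (hσP σ) * PhiQ σ (hσP σ)) := by
          rw [← hcomm]
          simp only [mul_assoc]
      _ = 1 := by rw [e0, e1, one_mul]
  have hne : xGF l σ ≠ 1 := by
    intro h
    unfold xGF at h
    rw [← PsO_cosGQ] at h
    have h2 := (ker_PsO hQ hn _ h).1
    have h3 := (cosGQ_pow (Q := Cfsg.quadFormPlus (l + 1) F) σ (hσP σ) (rfS vGF) 1).2
    rw [pow_one, pow_one] at h3
    rw [← h3] at hσ1
    exact hσ1 h2
  haveI : Fact (Nat.Prime 2) := ⟨Nat.prime_two⟩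
  exact orderOf_eq_prime hpow hne

set_option maxHeartbeats 1600000 in
/-- **involutory graph-field automorphisms of `PΩ⁺_{2l+2}(q)`** -/
theorem graphfield_main {p f : ℕ} [Fact p.Prime] (hF : Fintype.card F = p ^ f) {l : ℕ}
    (hl : 4 ≤ l) (hFac : FacG (Cfsg.quadFormPlus (l + 1) F))
    (x : MulAut (Cfsg.POmega F (Cfsg.quadFormPlus (l + 1) F)))
    (hx : Cfsg.IsGraphFieldAutClassPOmegaPlus (l + 1) x) (hx2 : orderOf x = 2)
    (F₀ : Type v) [Field F₀] [Fintype F₀] (hF₀ : Fintype.card F₀ = p ^ (f / 2)) :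
    Even f ∧
    (∀ y : MulAut (Cfsg.POmega F (Cfsg.quadFormPlus (l + 1) F)),
      Cfsg.IsGraphFieldAutClassPOmegaPlus (l + 1) y → orderOf y = 2 →
      Cfsg.IsConjUnder (Cfsg.inndiagPOmegaPlus (l + 1) F) x y) ∧
    (∃ a₀ b₀ : F₀,
      (∀ z₁ z₂ : F₀, z₁ ^ 2 + a₀ * z₁ * z₂ + b₀ * z₂ ^ 2 = 0 → z₁ = 0 ∧ z₂ = 0) ∧
      Nonempty (↥(Cfsg.inndiagPOmegaPlus (l + 1) F ⊓ Subgroup.centralizer {x}) ≃*
        ↥(Cfsg.inndiagPOmegaMinus l F₀ a₀ b₀))) ∧
    (p = 2 → Cfsg.splitClassCount (Cfsg.inndiagPOmegaPlus (l + 1) F)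
      (Cfsg.Inn (Cfsg.POmega F (Cfsg.quadFormPlus (l + 1) F))) x = 1) ∧
    ((p ≠ 2 ∧ Even l ∧ p ^ (f / 2) % 4 = 1) →
      Cfsg.splitClassCount (Cfsg.inndiagPOmegaPlus (l + 1) F)
        (Cfsg.Inn (Cfsg.POmega F (Cfsg.quadFormPlus (l + 1) F))) x = 4) ∧
    ((p ≠ 2 ∧ ¬ (Even l ∧ p ^ (f / 2) % 4 = 1)) →
      Cfsg.splitClassCount (Cfsg.inndiagPOmegaPlus (l + 1) F)
        (Cfsg.Inn (Cfsg.POmega F (Cfsg.quadFormPlus (l + 1) F))) x = 2) := by
  have hm : 4 ≤ l + 1 := by omega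
  haveI hN := inndiag_normal_P hm hFac
  haveI := innNormal (Cfsg.POmega F (Cfsg.quadFormPlus (l + 1) F))
  have hKD := inn_le_inndiag_P (F := F) hm
  obtain ⟨α, σ, v, hσ2, hv, hfix, hαx⟩ := graphfield_data hm hFac x hx hx2
  obtain ⟨hdvd, ι, hι⟩ := exists_fixed_embedding p f hF σ 2 (by norm_num) hσ2 F₀ hF₀
  have hσ1 : σ ≠ 1 := by
    intro h
    rw [h, orderOf_one] at hσ2
    omega
  have hσpow : σ ^ 2 = 1 := by rw [← hσ2]; exact pow_orderOf_eq_one σ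
  have hσσ : σ * σ = 1 := by rw [← pow_two]; exact hσpow
  have hinj : ∀ i j, i < 2 → j < 2 → σ ^ i = σ ^ j → i = j := by
    intro i j hi hj hij
    rw [← hσ2] at hi hj
    exact pow_injOn_Iio_orderOf (Set.mem_Iio.2 hi) (Set.mem_Iio.2 hj) hij
  have hcard : Fintype.card F = Fintype.card F₀ ^ 2 := by
    rw [hF, hF₀, ← pow_mul, Nat.div_mul_cancel hdvd]
  obtain ⟨a₀, b₀, θ, θ', hne, ha, hb, hθ, hθ', hab₀⟩ := exists_gf_params ι σ hσσ hσ1 hι
  -- `x` is `Inndiag`-conjugate to the standard one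
  have hx₀ := xGF_isGraphField (F := F) l σ hσ1
  have hx₀2 := orderOf_xGF (F := F) (l := l) (by omega) σ hσ2
  obtain ⟨d, hd, hdx⟩ := graphfield_invol_conj hm hFac x (xGF l σ) hx hx2 hx₀ hx₀2
  have hcount : Cfsg.splitClassCount (Cfsg.inndiagPOmegaPlus (l + 1) F)
      (Cfsg.Inn (Cfsg.POmega F (Cfsg.quadFormPlus (l + 1) F))) x =
      Cfsg.splitClassCount (Cfsg.inndiagPOmegaPlus (l + 1) F)
      (Cfsg.Inn (Cfsg.POmega F (Cfsg.quadFormPlus (l + 1) F))) (xGF l σ) := by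
    rw [hdx]
    exact (splitClassCount_conj _ _ hKD d x).symm
  have hf0 : f ≠ 0 := by
    intro h
    have h1 : 1 < Fintype.card F := Fintype.one_lt_card
    rw [hF, h, pow_zero] at h1
    omega
  refine ⟨even_iff_two_dvd.2 hdvd,
    fun y hy hy2 => graphfield_invol_conj hm hFac x y hx hx2 hy hy2, ⟨a₀, b₀, hab₀, ?_⟩,
    ?_, ?_, ?_⟩
  · obtain ⟨e⟩ := nonempty_cent_gf_equiv ι a₀ b₀ θ θ' hne ha hb σ hθ hθ' (show 3 ≤ l by omega) hab₀ 2
      (by norm_num) hσpow hinj hι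
    have e' := centralizerConjEquiv (Cfsg.inndiagPOmegaPlus (l + 1) F) d x
    rw [← hdx] at e'
    exact ⟨e'.trans e⟩
  · intro hp2
    have h2 : (2 : F) = 0 := by
      apply two_eq_zero_of_even_card
      rw [hF, hp2]
      exact (Nat.even_pow' hf0).2 even_two
    rw [← inndiag_eq_inn_two_P hm h2]
    exact splitClassCount_self _ x
  · rintro ⟨hp2, hev, hmod⟩
    have hoddF : Odd (Fintype.card F) := by
      rw [hF]
      exact Odd.pow ((Fact.out : p.Prime).odd_of_ne_two hp2)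
    have h2 : (2 : F) ≠ 0 := two_ne_zero_of_odd_card hoddF
    rw [hcount]
    exact (split_gf ι a₀ b₀ θ θ' hne ha hb (show 3 ≤ l by omega) hab₀ h2 hcard σ hθ hσσ hι hθ').1
      ⟨hev, by rw [hF₀]; exact hmod⟩
  · rintro ⟨hp2, hnot⟩
    have hoddF : Odd (Fintype.card F) := by
      rw [hF]
      exact Odd.pow ((Fact.out : p.Prime).odd_of_ne_two hp2)
    have h2 : (2 : F) ≠ 0 := two_ne_zero_of_odd_card hoddF
    rw [hcount]
    exact (split_gf ι a₀ b₀ θ θ' hne ha hb (show 3 ≤ l by omega) hab₀ h2 hcard σ hθ hσσ hι hθ').2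
      (by rw [hF₀]; exact hnot)

end main

end Cfsg.Agent.Lib.H7AutPM
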