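import Cfsg.Agent.Lib.Helper7.AutPM.FPOdd
import Cfsg.Agent.Lib.Helper7.AutPM.MainGF
import Cfsg.Agent.Lib.Helper7.AutPSL.FixedField
import Mathlib

/-!
# Field automorphisms of prime order of `PΩ⁺_{2m}(q)`, `m ≥ 4`: the main theorem (helper7)

The hypothesis is that `x` is conjugate to a standard field automorphism under the image of the
semisimilarity group (automatic for `m ≥ 5` by S2695; for `m = 4` by the triality analysis).
-/

set_option autoImplicit false
set_option linter.unusedSectionVars false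
set_option linter.style.haveILetI false

namespace Cfsg.Agent.Lib.H7AutPM

open Matrix Cfsg Cfsg.Agent.Lib.H7AutPSp Cfsg.Agent.Lib.H7AutPO Cfsg.Agent.Lib.H7AutPSL
  Cfsg.Agent.Lib.Helper5.OrthAut Cfsg.Agent.H9.Orth Cfsg.Agent.Lib.Helper5.OrthSN
  Cfsg.Agent.Lib.Helper5.OrthPar Cfsg.Agent.Lib.Helper5.OrthCls Cfsg.Agent.Lib.Helper5.OrthPM

universe u v

section abstract

variable {A : Type*} [Group A]

theorem map_conj_of_normalizes (D : Subgroup A) (α : A) (h1 : ∀ d ∈ D, α * d * α⁻¹ ∈ D)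
    (h2 : ∀ d ∈ D, α⁻¹ * d * α ∈ D) : D.map (MulAut.conj α).toMonoidHom = D := by
  ext y
  constructor
  · rintro ⟨z, hz, rfl⟩
    exact h1 z hz
  · intro hy
    refine ⟨α⁻¹ * y * α, h2 y hy, ?_⟩
    show α * (α⁻¹ * y * α) * α⁻¹ = y
    group

/-- the split class count is invariant under conjugation by an element normalising `D` -/
theorem splitClassCount_conj_of (D K : Subgroup A) (hKD : K ≤ D) [K.Normal] (α x : A)
    (hD : D.map (MulAut.conj α).toMonoidHom = D) :
    Cfsg.splitClassCount D K (α * x * α⁻¹) = Cfsg.splitClassCount D K x := by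
  rw [splitClassCount_eq D K hKD, splitClassCount_eq D K hKD]
  have e : splitSub D K (α * x * α⁻¹) = (splitSub D K x).map (MulAut.conj α).toMonoidHom := by
    unfold splitSub
    rw [Subgroup.map_sup, Subgroup.map_inf _ _ _ (MulAut.conj α).injective,
      map_conj_of_normal K, hD, centralizer_conj]
  rw [e]
  calc ((splitSub D K x).map (MulAut.conj α).toMonoidHom).relIndex D
      = ((splitSub D K x).map (MulAut.conj α).toMonoidHom).relIndex
          (D.map (MulAut.conj α).toMonoidHom) := by rw [hD]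
    _ = (splitSub D K x).relIndex D :=
        Subgroup.relIndex_map_map_of_injective (f := (MulAut.conj α).toMonoidHom) _ _
          (MulAut.conj α).injective

/-- the centralisers in `D` of elements conjugate under the normaliser of `D` are isomorphic -/
noncomputable def centralizerConjEquivOf (D : Subgroup A) (α x : A)
    (hD : D.map (MulAut.conj α).toMonoidHom = D) :
    ↥(D ⊓ Subgroup.centralizer {x}) ≃* ↥(D ⊓ Subgroup.centralizer {α * x * α⁻¹}) :=
  ((D ⊓ Subgroup.centralizer {x}).equivMapOfInjective (MulAut.conj α).toMonoidHom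
    (MulAut.conj α).injective).trans
    (MulEquiv.subgroupCongr (by
      rw [Subgroup.map_inf _ _ _ (MulAut.conj α).injective, hD, centralizer_conj]))

end abstract

section main

variable {F : Type u} [Field F] [Fintype F]

set_option maxHeartbeats 1600000 in
/-- **field automorphisms of prime order of `PΩ⁺_{2m}(q)`** -/
theorem field_main_P {p f : ℕ} [Fact p.Prime] (hF : Fintype.card F = p ^ f) {m : ℕ}
    (hm : 4 ≤ m) (x : MulAut (Cfsg.POmega F (Cfsg.quadFormPlus m F)))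
    (hx : ∃ (α φ : MulAut (Cfsg.POmega F (Cfsg.quadFormPlus m F))) (σ : F ≃+* F),
      α ∈ Cfsg.gammaPOmega F (Cfsg.quadFormPlus m F) ∧ σ ≠ RingEquiv.refl F ∧
      Cfsg.IsFieldAutPOmegaOf (Cfsg.quadFormPlus m F) σ φ ∧ α * x * α⁻¹ = φ)
    {r : ℕ} (hr : r.Prime) (hxr : orderOf x = r)
    (F₀ : Type v) [Field F₀] [Fintype F₀] (hF₀ : Fintype.card F₀ = p ^ (f / r)) :
    r ∣ f ∧
    Nonempty (↥(Cfsg.inndiagPOmegaPlus m F ⊓ Subgroup.centralizer {x}) ≃*
      ↥(Cfsg.inndiagPOmegaPlus m F₀)) ∧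
    ((Odd r ∨ p = 2) → Cfsg.splitClassCount (Cfsg.inndiagPOmegaPlus m F)
      (Cfsg.Inn (Cfsg.POmega F (Cfsg.quadFormPlus m F))) x = 1) ∧
    ((r = 2 ∧ p ≠ 2 ∧ Odd m ∧ p ^ (f / 2) % 4 = 1) →
      Cfsg.splitClassCount (Cfsg.inndiagPOmegaPlus m F)
        (Cfsg.Inn (Cfsg.POmega F (Cfsg.quadFormPlus m F))) x = 2) ∧
    ((r = 2 ∧ p ≠ 2 ∧ ¬ (Odd m ∧ p ^ (f / 2) % 4 = 1)) →
      Cfsg.splitClassCount (Cfsg.inndiagPOmegaPlus m F)
        (Cfsg.Inn (Cfsg.POmega F (Cfsg.quadFormPlus m F))) x = 4) := by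
  haveI : Nonempty (Fin m ⊕ Fin m) := ⟨Sum.inl ⟨0, by omega⟩⟩
  haveI := innNormal (Cfsg.POmega F (Cfsg.quadFormPlus m F))
  have hQ := hQP (F := F) (m := m)
  have hn := hnP (m := m) hm
  have hKD := inn_le_inndiag_P (F := F) hm
  obtain ⟨α, φ, σ, hαΓ, hσ1, hφ, hαx⟩ := hx
  rw [fieldAut_iff_Q σ (hσP σ)] at hφ
  subst hφ
  rw [gammaPOmega_eq] at hαΓ
  obtain ⟨a, rfl⟩ := hαΓ
  have hDα : (Cfsg.inndiagPOmegaPlus m F).map
      (MulAut.conj (PsO (Cfsg.quadFormPlus m F) a)).toMonoidHom =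
      Cfsg.inndiagPOmegaPlus m F := by
    apply map_conj_of_normalizes
    · intro d hd
      exact inndiag_conj_PsO_P hm a d hd
    · intro d hd
      have := inndiag_conj_PsO_P hm a⁻¹ d hd
      rwa [map_inv, inv_inv] at this
  have hΦr : orderOf (PhiQ (Q := Cfsg.quadFormPlus m F) σ (hσP σ)) = r := by
    rw [← hαx, ← MulAut.conj_apply, MulEquiv.orderOf_eq, hxr]
  have hσr := orderOf_sigma_of_PhiQ hQ σ (hσP σ) hn hσ1 r hr hΦr
  have hσ : σ ^ r = 1 := by rw [← hσr]; exact pow_orderOf_eq_one σ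
  have hinj : ∀ i j, i < r → j < r → σ ^ i = σ ^ j → i = j := by
    intro i j hi hj hij
    rw [← hσr] at hi hj
    exact pow_injOn_Iio_orderOf (Set.mem_Iio.2 hi) (Set.mem_Iio.2 hj) hij
  obtain ⟨hrf, ι, hι⟩ := exists_fixed_embedding p f hF σ r hr.pos hσr F₀ hF₀
  have hcount : Cfsg.splitClassCount (Cfsg.inndiagPOmegaPlus m F)
      (Cfsg.Inn (Cfsg.POmega F (Cfsg.quadFormPlus m F))) x =
      Cfsg.splitClassCount (Cfsg.inndiagPOmegaPlus m F)
      (Cfsg.Inn (Cfsg.POmega F (Cfsg.quadFormPlus m F))) (PhiQ σ (hσP σ)) := by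
    rw [← hαx]
    exact (splitClassCount_conj_of _ _ hKD _ x hDα).symm
  have hf0 : f ≠ 0 := by
    intro h
    have h1 : 1 < Fintype.card F := Fintype.one_lt_card
    rw [hF, h, pow_zero] at h1
    omega
  have h2of : p ≠ 2 → (2 : F) ≠ 0 := by
    intro hp2
    have hoddF : Odd (Fintype.card F) := by
      rw [hF]
      exact Odd.pow ((Fact.out : p.Prime).odd_of_ne_two hp2)
    exact two_ne_zero_of_odd_card hoddF
  refine ⟨hrf, ?_, ?_, ?_, ?_⟩
  · obtain ⟨e⟩ := nonempty_cent_field_equiv_P ι σ hm r hr.pos hσ hinj hι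
    have e' := centralizerConjEquivOf (Cfsg.inndiagPOmegaPlus m F)
      (PsO (Cfsg.quadFormPlus m F) a) x hDα
    rw [hαx] at e'
    exact ⟨e'.trans e⟩
  · intro h
    by_cases hp2 : p = 2
    · have h2 : (2 : F) = 0 := by
        apply two_eq_zero_of_even_card
        rw [hF, hp2]
        exact (Nat.even_pow' hf0).2 even_two
      rw [← inndiag_eq_inn_two_P hm h2]
      haveI : (Cfsg.inndiagPOmegaPlus m F).Normal := by
        rw [inndiag_eq_inn_two_P hm h2]
        exact innNormal _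
      exact splitClassCount_self _ x
    · rcases h with hro | hp
      · rw [hcount]
        exact split_fp_odd ι (h2of hp2) hm σ r hro hσ hι
      · exact absurd hp hp2
  · rintro ⟨hr2, hp2, hmo, hmod⟩
    subst hr2
    have hcard : Fintype.card F = Fintype.card F₀ ^ 2 := by
      rw [hF, hF₀, ← pow_mul, Nat.div_mul_cancel hrf]
    have hσσ : σ * σ = 1 := by rw [← pow_two]; exact hσ
    rw [hcount]
    apply (split_fp_two ι (h2of hp2) hcard hm σ hσσ hσ1 hι).2
    rw [hF₀]
    rintro (he | h3)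
    · exact (Nat.not_even_iff_odd.2 hmo) he
    · omega
  · rintro ⟨hr2, hp2, hnot⟩
    subst hr2
    have hcard : Fintype.card F = Fintype.card F₀ ^ 2 := by
      rw [hF, hF₀, ← pow_mul, Nat.div_mul_cancel hrf]
    have hσσ : σ * σ = 1 := by rw [← pow_two]; exact hσ
    rw [hcount]
    apply (split_fp_two ι (h2of hp2) hcard hm σ hσσ hσ1 hι).1
    rw [hF₀]
    by_cases he : Even m
    · exact Or.inl he
    · right
      have hmo : Odd m := Nat.not_even_iff_odd.1 he
      have hq₀ : Odd (p ^ (f / 2)) := Odd.pow ((Fact.out : p.Prime).odd_of_ne_two hp2)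
      have h1 : ¬ p ^ (f / 2) % 4 = 1 := fun h1 => hnot ⟨hmo, h1⟩
      obtain ⟨k, hk⟩ := hq₀
      omega

end main

end Cfsg.Agent.Lib.H7AutPM
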