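import Cfsg.Agent.Lib.Helper7.AutPM.SplitM
import Mathlib

/-!
# Field automorphisms of prime order of `PΩ⁻_{2m+2}(q)`: order, centraliser and class count (helper7)

Everything is conditional on the factorisation `FacG` of the automorphism group (S2696).
-/

set_option autoImplicit false
set_option linter.unusedSectionVars false
set_option linter.style.haveILetI false

namespace Cfsg.Agent.Lib.H7AutPM

open Matrix Cfsg Cfsg.Agent.Lib.H7AutPSp Cfsg.Agent.Lib.H7AutPO Cfsg.Agent.Lib.H7AutPSL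
  Cfsg.Agent.Lib.Helper5.OrthAut Cfsg.Agent.H9.Orth Cfsg.Agent.Lib.Helper5.OrthSN
  Cfsg.Agent.Lib.Helper5.OrthPar Cfsg.Agent.Lib.Helper5.OrthCls Cfsg.Agent.Lib.Helper5.OrthPM

universe u v

section

variable {F : Type u} [Field F] [Fintype F] {F₀ : Type v} [Field F₀] [Fintype F₀]

/-- an anisotropic binary form over `F₀` becomes isotropic over the quadratic extension -/
theorem not_aniso_of_card_sq (ι : F₀ →+* F) (a₀ b₀ : F₀)
    (hab : ∀ z₁ z₂ : F, z₁ ^ 2 + ι a₀ * z₁ * z₂ + ι b₀ * z₂ ^ 2 = 0 → z₁ = 0 ∧ z₂ = 0)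
    (hcard : Fintype.card F = Fintype.card F₀ ^ 2) : False := by
  have hab₀ := aniso_of_push ι a₀ b₀ hab
  letI : Algebra F₀ F := ι.toAlgebra
  have h1 := Module.card_eq_pow_finrank (K := F₀) (V := F)
  rw [hcard] at h1
  have h2 : 1 < Fintype.card F₀ := Fintype.one_lt_card
  have h3 : Module.finrank F₀ F = 2 := (Nat.pow_right_injective h2 h1).symm
  obtain ⟨z₀, hz₀⟩ := exists_root_of_finrank_two a₀ b₀ hab₀ F h3
  have h4 : z₀ ^ 2 + ι a₀ * z₀ * 1 + ι b₀ * 1 ^ 2 = 0 := by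
    rw [mul_one, one_pow, mul_one]
    exact hz₀
  exact one_ne_zero (hab z₀ 1 h4).2

end

variable {F : Type u} [Field F] [Fintype F]

set_option maxHeartbeats 1600000 in
/-- **the order, centraliser and class count of a field automorphism of prime order of
`PΩ⁻_{2m+2}(q)`** -/
theorem field_main_M {m : ℕ} (hm : 3 ≤ m)
    (hFacAll : ∀ (a b : F),
      (∀ z₁ z₂ : F, z₁ ^ 2 + a * z₁ * z₂ + b * z₂ ^ 2 = 0 → z₁ = 0 ∧ z₂ = 0) →
      FacG (Cfsg.quadFormMinus m F a b))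
    {p f : ℕ} [Fact p.Prime] (hF : Fintype.card F = p ^ f) (a b : F)
    (hab : ∀ z₁ z₂ : F, z₁ ^ 2 + a * z₁ * z₂ + b * z₂ ^ 2 = 0 → z₁ = 0 ∧ z₂ = 0)
    (x : MulAut (Cfsg.POmega F (Cfsg.quadFormMinus m F a b)))
    (hx : Cfsg.IsFieldAutClassPOmegaMinus m x) {r : ℕ} (hr : r.Prime) (hxr : orderOf x = r)
    (F₀ : Type v) [Field F₀] [Fintype F₀] (hF₀ : Fintype.card F₀ = p ^ (f / r)) :
    Odd r ∧ r ∣ f ∧
      (∃ a₀ b₀ : F₀,
        (∀ z₁ z₂ : F₀, z₁ ^ 2 + a₀ * z₁ * z₂ + b₀ * z₂ ^ 2 = 0 → z₁ = 0 ∧ z₂ = 0) ∧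
        Nonempty (↥(Cfsg.inndiagPOmegaMinus m F a b ⊓ Subgroup.centralizer {x}) ≃*
          ↥(Cfsg.inndiagPOmegaMinus m F₀ a₀ b₀))) ∧
      Cfsg.splitClassCount (Cfsg.inndiagPOmegaMinus m F a b)
        (Cfsg.Inn (Cfsg.POmega F (Cfsg.quadFormMinus m F a b))) x = 1 := by
  obtain ⟨a', b', ψ, σ, hab', ha, hb, hσ1, hΦ⟩ := field_data_M x hx
  have hmap := map_inndiag_eq hm hab hab' (hFacAll a b hab) (hFacAll a' b' hab') ψ
  have hΦr : orderOf (PhiM (m := m) σ ha hb) = r := by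
    rw [← hΦ, MulEquiv.orderOf_eq, hxr]
  have hσr := orderOf_sigma_of_PhiM hm hab' σ ha hb hσ1 r hr hΦr
  have hσ : σ ^ r = 1 := by rw [← hσr]; exact pow_orderOf_eq_one σ
  have hinj : ∀ i j, i < r → j < r → σ ^ i = σ ^ j → i = j := by
    intro i j hi hj hij
    rw [← hσr] at hi hj
    exact pow_injOn_Iio_orderOf (Set.mem_Iio.2 hi) (Set.mem_Iio.2 hj) hij
  obtain ⟨hrf, ι, hι⟩ := exists_fixed_embedding p f hF σ r hr.pos hσr F₀ hF₀
  obtain ⟨a₀, rfl⟩ := (hι a').1 ha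
  obtain ⟨b₀, rfl⟩ := (hι b').1 hb
  have hro : Odd r := by
    rcases hr.eq_two_or_odd' with h | h
    · exfalso
      subst h
      apply not_aniso_of_card_sq ι a₀ b₀ hab'
      rw [hF, hF₀, ← pow_mul, Nat.div_mul_cancel hrf]
    · exact h
  haveI := innNormal (Cfsg.POmega F (Cfsg.quadFormMinus m F a b))
  refine ⟨hro, hrf, ⟨a₀, b₀, aniso_of_push ι a₀ b₀ hab', ?_⟩, ?_⟩
  · obtain ⟨e⟩ := nonempty_cent_field_equiv_M ι a₀ b₀ hm hab' σ r hr.pos hσ hinj hι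
    have e1 := centEquiv (MulAut.congr ψ) (Cfsg.inndiagPOmegaMinus m F a b) x
    have e2 : ↥((Cfsg.inndiagPOmegaMinus m F a b).map (MulAut.congr ψ).toMonoidHom ⊓
        Subgroup.centralizer {MulAut.congr ψ x}) ≃*
        ↥(Cfsg.inndiagPOmegaMinus m F (ι a₀) (ι b₀) ⊓
          Subgroup.centralizer {PhiM (m := m) σ ha hb}) :=
      MulEquiv.subgroupCongr (by rw [hmap, hΦ])
    exact ⟨(e1.trans e2).trans e⟩
  · rw [← splitClassCount_map (MulAut.congr ψ) _ _ (inn_le_inndiag hm hab) x, hmap, map_inn_eq,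
      hΦ]
    exact split_one_M ι a₀ b₀ hm hab' σ r hro hσ hι

end Cfsg.Agent.Lib.H7AutPM
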