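import Cfsg.Agent.Lib.Helper8.QTypeD
import Mathlib

/-!
# Descent of quadratic forms along a subfield (helper7)

A quadratic form on `F^ι` taking values in a subfield `F₀` on the `F₀`-points descends to a
quadratic form on `F₀^ι`; two quadratic forms agreeing on the `F₀`-points are equal; the type of a
scaled form.
-/

set_option autoImplicit false
set_option linter.unusedSectionVars false

namespace Cfsg.Agent.Lib.H7AutPM

open QuadraticMap Module Cfsg.Agent.H9.QuadFin Cfsg.Agent.Lib.Helper8.QType

universe u v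

variable {F : Type u} [Field F] {F₀ : Type v} [Field F₀] (j : F₀ →+* F)
variable {ι : Type} [Fintype ι] [DecidableEq ι]

/-- pushing a vector along a ring homomorphism -/
def vpush (v₀ : ι → F₀) : ι → F := fun i => j (v₀ i)

theorem vpush_apply (v₀ : ι → F₀) (i : ι) : vpush j v₀ i = j (v₀ i) := rfl

theorem vpush_add (x y : ι → F₀) : vpush j (x + y) = vpush j x + vpush j y := by
  ext i
  simp [vpush]

theorem vpush_smul (a : F₀) (x : ι → F₀) : vpush j (a • x) = j a • vpush j x := by
  ext i
  simp [vpush]

theorem vpush_single (i : ι) : vpush j (Pi.single i (1 : F₀)) = Pi.single i (1 : F) := by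
  ext k
  simp only [vpush, Pi.single_apply]
  split_ifs
  · exact map_one j
  · exact map_zero j

theorem vpush_zero : vpush j (0 : ι → F₀) = 0 := by
  ext i
  simp [vpush]

theorem vpush_eq_zero (x : ι → F₀) (h : vpush j x = 0) : x = 0 := by
  ext i
  have := congrFun h i
  rw [vpush_apply, Pi.zero_apply] at this
  exact (map_eq_zero j).1 this

theorem vpush_mulVec {κ : Type} [Fintype κ] (A : Matrix ι κ F₀) (w : κ → F₀) :
    vpush j (A.mulVec w) = (A.map j).mulVec (vpush j w) := by
  ext i
  simp only [vpush, Matrix.mulVec, dotProduct, map_sum, map_mul, Matrix.map_apply]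

/-- two quadratic forms agreeing on the `F₀`-points are equal -/
theorem quad_ext_of_points (Q₁ Q₂ : QuadraticForm F (ι → F))
    (h : ∀ v₀ : ι → F₀, Q₁ (vpush j v₀) = Q₂ (vpush j v₀)) : Q₁ = Q₂ := by
  apply ext_basis Q₁ Q₂ (Pi.basisFun F ι)
  · intro i
    rw [Pi.basisFun_apply, ← vpush_single j, h]
  · intro i k
    rw [Pi.basisFun_apply, Pi.basisFun_apply]
    unfold polar
    rw [← vpush_single j i, ← vpush_single j k, ← vpush_add, h, h, h]

/-- descent of a quadratic form -/
theorem exists_descend (Q : QuadraticForm F (ι → F))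
    (hQ : ∀ v₀ : ι → F₀, ∃ c, j c = Q (vpush j v₀)) :
    ∃ Q₀ : QuadraticForm F₀ (ι → F₀), ∀ v₀, j (Q₀ v₀) = Q (vpush j v₀) := by
  choose f hf using hQ
  have hinj := j.injective
  have hpol : ∀ x y, j (polar f x y) = polar Q (vpush j x) (vpush j y) := by
    intro x y
    unfold polar
    rw [map_sub, map_sub, hf, hf, hf, vpush_add]
  refine ⟨QuadraticMap.ofPolar f ?_ ?_ ?_, fun v₀ => hf v₀⟩
  · intro a x
    apply hinj
    rw [hf, vpush_smul, QuadraticMap.map_smul, smul_eq_mul, smul_eq_mul, map_mul, map_mul, hf]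
  · intro x x' y
    apply hinj
    rw [map_add, hpol, hpol, hpol, vpush_add, polar_add_left]
  · intro a x y
    apply hinj
    rw [smul_eq_mul, map_mul, hpol, hpol, vpush_smul, polar_smul_left, smul_eq_mul]

theorem descend_polar (Q : QuadraticForm F (ι → F)) (Q₀ : QuadraticForm F₀ (ι → F₀))
    (h : ∀ v₀, j (Q₀ v₀) = Q (vpush j v₀)) (x y : ι → F₀) :
    j (polar Q₀ x y) = polar Q (vpush j x) (vpush j y) := by
  unfold polar
  rw [map_sub, map_sub, h, h, h, vpush_add]

/-- descent preserves nondegeneracy -/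
theorem descend_nondeg (Q : QuadraticForm F (ι → F)) (Q₀ : QuadraticForm F₀ (ι → F₀))
    (h : ∀ v₀, j (Q₀ v₀) = Q (vpush j v₀)) (hQ : (polarBilin Q).Nondegenerate) :
    (polarBilin Q₀).Nondegenerate := by
  rw [nondeg_iff] at hQ ⊢
  intro x hx
  apply vpush_eq_zero j
  apply hQ
  intro y
  have hy : y = ∑ i, y i • (Pi.single i (1 : F) : ι → F) := by
    ext k
    simp [Finset.sum_apply, Pi.single_apply]
  have hlin : ∀ (s : Finset ι), polar Q (vpush j x) (∑ i ∈ s, y i • (Pi.single i (1 : F) : ι → F))
      = 0 := by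
    intro s
    induction s using Finset.induction_on with
    | empty => rw [Finset.sum_empty, polar_zero_right]
    | insert a s ha ih =>
      rw [Finset.sum_insert ha, polar_add_right, ih, add_zero, polar_smul_right,
        ← vpush_single j a, ← descend_polar j Q Q₀ h, hx, map_zero, smul_zero]
  rw [hy]
  exact hlin Finset.univ

/-- scaling a form by a nonzero scalar preserves its type -/
theorem hasType_smul [Fintype F] {V : Type v} [AddCommGroup V] [Module F V]
    [FiniteDimensional F V] {Q : QuadraticForm F V} {l : ℕ} {ε : ℤ}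
    (h : HasType Q l ε) (t : F) (ht : t ≠ 0) : HasType (t • Q) l ε := by
  obtain ⟨hV, hQ, hε, hz⟩ := h
  refine ⟨hV, ?_, hε, ?_⟩
  · rw [nondeg_iff] at hQ ⊢
    intro x hx
    apply hQ
    intro y
    have := hx y
    rw [FunLike.coe_smul, polar_smul, smul_eq_mul] at this
    exact (mul_eq_zero.1 this).resolve_left ht
  · rw [← hz]
    congr 1
    unfold nc
    apply Nat.card_congr
    apply Equiv.subtypeEquivRight
    intro v
    show t • Q v = 0 ↔ Q v = 0
    rw [smul_eq_mul]
    constructor
    · intro h0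
      exact (mul_eq_zero.1 h0).resolve_left ht
    · intro h0
      rw [h0, mul_zero]

/-- composing a form with a linear equivalence preserves its type -/
theorem hasType_comp [Fintype F] {V : Type v} [AddCommGroup V] [Module F V]
    [FiniteDimensional F V] {V₂ : Type v} [AddCommGroup V₂] [Module F V₂]
    [FiniteDimensional F V₂] {Q : QuadraticForm F V} {l : ℕ} {ε : ℤ}
    (h : HasType Q l ε) (e : V₂ ≃ₗ[F] V) : HasType (Q.comp (e : V₂ →ₗ[F] V)) l ε := by
  have e' : (Q.comp (e : V₂ →ₗ[F] V)).IsometryEquiv Q :=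
    ⟨e, fun v => rfl⟩
  exact HasType.congr e'.symm h

end Cfsg.Agent.Lib.H7AutPM
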