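import Cfsg.Agent.Lib.Helper7.AutPM.CountM
import Cfsg.Agent.Lib.Helper5.OrthAut.InndiagQuot
import Mathlib

/-!
# Conjugating similarities by semisimilarities (helper7)

For a semisimilarity `x = (g₀, σ)` and a similarity `g`: `x g x⁻¹ = g₀ σ(g) g₀⁻¹` is a similarity
with multiplier `σ(μ(g))` and determinant `σ(det g)`; consequences for the images in `Aut(PΩ)`.
-/

set_option autoImplicit false
set_option linter.unusedSectionVars false
set_option linter.style.haveILetI false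

namespace Cfsg.Agent.Lib.H7AutPM

open Matrix Cfsg Cfsg.Agent.Lib.H7AutPSp Cfsg.Agent.Lib.H7AutPO Cfsg.Agent.Lib.Helper5.OrthAut
  Cfsg.Agent.H9.Orth Cfsg.Agent.Lib.Helper5.OrthSN Cfsg.Agent.Lib.Helper5.OrthPar
  Cfsg.Agent.Lib.Helper5.OrthCls Cfsg.Agent.Lib.Helper5.OrthPM

universe u

variable {ι : Type} [Fintype ι] [DecidableEq ι] {F : Type u} [Field F]
variable {Q : (ι → F) → F}

theorem conj_inl (x : GamL ι F) (g : GL ι F) :
    x * SemidirectProduct.inl g * x⁻¹ = SemidirectProduct.inl (conjG x g) := by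
  have h : ∀ (σ : RingAut F) (k : GL ι F), gmapAut σ (gmapAut σ⁻¹ k) = k := fun σ k => by
    rw [← MulAut.mul_apply, ← map_mul, mul_inv_cancel, map_one, MulAut.one_apply]
  apply SemidirectProduct.ext
  · rw [SemidirectProduct.mul_left, SemidirectProduct.mul_left, SemidirectProduct.mul_right,
      SemidirectProduct.inv_left, SemidirectProduct.left_inl, SemidirectProduct.right_inl,
      SemidirectProduct.left_inl, mul_one, conjG_apply, h, gmapAut_apply]
  · rw [SemidirectProduct.mul_right, SemidirectProduct.mul_right, SemidirectProduct.inv_right,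
      SemidirectProduct.right_inl, SemidirectProduct.right_inl, mul_one, mul_inv_cancel]

/-- the conjugate of a similarity by a semisimilarity is a similarity, with multiplier `σ(μ)` -/
theorem conjG_sim (x : GamL ι F) (hx : x ∈ GammaO Q) (g : GL ι F) (c : F)
    (hg : ∀ v, Q (act g v) = c * Q v) (v : ι → F) :
    Q (act (conjG x g) v) = x.right c * Q v := by
  obtain ⟨d, hd⟩ := hx
  have hv : v = sact x (sact x⁻¹ v) := (sact_sact_inv x v).symm
  rw [hv, ← sact_act, hd, hg, map_mul, hd]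
  ring

theorem conjG_mem_sim (x : GamL ι F) (hx : x ∈ GammaO Q) (g : GL ι F)
    (hg : g ∈ Cfsg.Geo.quadSimilarityGroup (F := F) Q) :
    conjG x g ∈ Cfsg.Geo.quadSimilarityGroup (F := F) Q := by
  obtain ⟨c, hc⟩ := hg
  exact ⟨Units.map (x.right : F →+* F).toMonoidHom c, fun v => conjG_sim x hx g c hc v⟩

theorem det_conjG (x : GamL ι F) (g : GL ι F) :
    (conjG x g).val.det = x.right g.val.det := by
  rw [conjG_apply, Units.val_mul, Units.val_mul, Matrix.det_mul, Matrix.det_mul, gmapI_val,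
    mul_comm, ← mul_assoc, ← Matrix.det_mul, ← Units.val_mul, inv_mul_cancel, Units.val_one,
    Matrix.det_one, one_mul]
  exact ((x.right : F →+* F).map_det g.val).symm

/-- conjugation by a semisimilarity, on the similarity group -/
def conjSim (x : ↥(GammaO Q)) (g : ↥(Cfsg.Geo.quadSimilarityGroup (F := F) Q)) :
    ↥(Cfsg.Geo.quadSimilarityGroup (F := F) Q) :=
  ⟨conjG x.1 g.1, conjG_mem_sim x.1 x.2 g.1 g.2⟩

theorem conjSim_val (x : ↥(GammaO Q)) (g : ↥(Cfsg.Geo.quadSimilarityGroup (F := F) Q)) :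
    (conjSim x g).1 = conjG x.1 g.1 := rfl

theorem simIncl_conjSim (x : ↥(GammaO Q)) (g : ↥(Cfsg.Geo.quadSimilarityGroup (F := F) Q)) :
    simIncl Q (conjSim x g) = x * simIncl Q g * x⁻¹ := by
  apply Subtype.ext
  rw [Subgroup.coe_mul, Subgroup.coe_mul, Subgroup.coe_inv]
  exact (conj_inl x.1 g.1).symm

/-- **conjugating `DhO g` by `PsO x`** -/
theorem PsO_conj_DhO (x : ↥(GammaO Q)) (g : ↥(Cfsg.Geo.quadSimilarityGroup (F := F) Q)) :
    PsO Q x * DhO Q g * (PsO Q x)⁻¹ = DhO Q (conjSim x g) := by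
  rw [← PsO_simIncl, ← PsO_simIncl, simIncl_conjSim, map_mul, map_mul, map_inv]

theorem units_int_eq_of_iff (u v : ℤˣ) (h : u = 1 ↔ v = 1) : u = v := by
  rcases Int.units_eq_one_or u with hu | hu <;> rcases Int.units_eq_one_or v with hv | hv
  · rw [hu, hv]
  · rw [h.1 hu] at hv
    exact absurd hv (by decide)
  · rw [h.2 hv] at hu
    exact absurd hu (by decide)
  · rw [hu, hv]

section nondeg

variable (hQ : Cfsg.Geo.IsNondegenerateQuadraticForm Q) [Fintype F]
include hQ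

theorem mu_conjSim [Nonempty ι] (x : ↥(GammaO Q))
    (g : ↥(Cfsg.Geo.quadSimilarityGroup (F := F) Q)) :
    (mu (conjSim x g) : F) = x.1.right (mu g : F) :=
  mu_unique hQ _ _ (fun v => conjG_sim x.1 x.2 g.1 _ (mu_spec g) v)

theorem chiMu_conjSim [Nonempty ι] (x : ↥(GammaO Q))
    (g : ↥(Cfsg.Geo.quadSimilarityGroup (F := F) Q)) :
    chiMu hQ (conjSim x g) = chiMu hQ g := by
  apply units_int_eq_of_iff
  rw [chiMu_eq_one_iff, chiMu_eq_one_iff, mu_conjSim hQ]
  constructor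
  · rintro ⟨r, hr⟩
    refine ⟨x.1.right.symm r, ?_⟩
    apply x.1.right.injective
    rw [hr, map_mul, RingEquiv.apply_symm_apply]
  · rintro ⟨r, hr⟩
    exact ⟨x.1.right r, by rw [hr, map_mul]⟩

theorem chiDet_conjSim [Nonempty ι] (h2 : (2 : F) ≠ 0) (k : ℕ) (hk : Fintype.card ι = 2 * k)
    (x : ↥(GammaO Q)) (g : ↥(Cfsg.Geo.quadSimilarityGroup (F := F) Q)) :
    chiDet hQ h2 k hk (conjSim x g) = chiDet hQ h2 k hk g := by
  apply units_int_eq_of_iff
  rw [chiDet_eq_one_iff, chiDet_eq_one_iff, mu_conjSim hQ, conjSim_val, det_conjG, ← map_pow]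
  exact x.1.right.injective.eq_iff

theorem phi0_conjSim [Nonempty ι] (h2 : (2 : F) ≠ 0) (k : ℕ) (hk : Fintype.card ι = 2 * k)
    (x : ↥(GammaO Q)) (g : ↥(Cfsg.Geo.quadSimilarityGroup (F := F) Q)) :
    phi0 hQ h2 k hk (conjSim x g) = phi0 hQ h2 k hk g := by
  unfold phi0
  rw [MonoidHom.comp_apply, MonoidHom.comp_apply, MonoidHom.prod_apply, MonoidHom.prod_apply,
    chiMu_conjSim hQ, chiDet_conjSim hQ]

/-- **the commutator of a semisimilarity with a similarity lies in the image of `SO`** -/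
theorem PsO_comm_DhO_mem_pso (hn : 7 ≤ Fintype.card ι) (h2 : (2 : F) ≠ 0) (k : ℕ)
    (hk : Fintype.card ι = 2 * k) (x : ↥(GammaO Q))
    (g : ↥(Cfsg.Geo.quadSimilarityGroup (F := F) Q)) :
    PsO Q x * DhO Q g * (PsO Q x)⁻¹ * (DhO Q g)⁻¹ ∈ Cfsg.psoAut F Q := by
  haveI : Nonempty ι := by
    rw [← Fintype.card_pos_iff]; omega
  rw [PsO_conj_DhO, ← map_inv, ← map_mul, psoAut_eq, DhO_eq_conjHom]
  have h1 : conjSim x g * g⁻¹ ∈ (phi0 hQ h2 k hk).ker := by
    rw [MonoidHom.mem_ker, map_mul, map_inv, phi0_conjSim hQ, mul_inv_cancel]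
  rw [phi0_ker hQ hn h2 k hk, Subgroup.mem_sup_of_normal_right] at h1
  obtain ⟨s, hs, z, hz, e⟩ := h1
  rw [← e, map_mul, MonoidHom.mem_ker.1 hz, mul_one]
  exact Subgroup.mem_map_of_mem _ hs

/-- the image of `SO` is stable under conjugation by semisimilarities -/
theorem PsO_conj_pso_mem (x : ↥(GammaO Q)) (c : MulAut (Cfsg.POmega F Q))
    (hc : c ∈ Cfsg.psoAut F Q) : PsO Q x * c * (PsO Q x)⁻¹ ∈ Cfsg.psoAut F Q := by
  rw [psoAut_eq] at hc ⊢
  obtain ⟨s, hs, rfl⟩ := hc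
  rw [← DhO_eq_conjHom, PsO_conj_DhO, DhO_eq_conjHom]
  apply Subgroup.mem_map_of_mem
  rw [SetLike.mem_coe] at hs
  rw [Subgroup.mem_subgroupOf] at hs ⊢
  rw [conjSim_val]
  refine ⟨conjG_mem Q x.1 x.2 s.1 hs.1, ?_⟩
  have h1 : s.1.val.det = 1 := by
    have h0 : s.1 ∈ (Matrix.GeneralLinearGroup.det : GL ι F →* Fˣ).ker := hs.2
    rw [MonoidHom.mem_ker] at h0
    have h3 := congrArg Units.val h0
    exact h3
  show conjG x.1 s.1 ∈ Cfsg.Geo.specialLinear ι F
  unfold Cfsg.Geo.specialLinear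
  rw [MonoidHom.mem_ker]
  apply Units.ext
  show (conjG x.1 s.1).val.det = 1
  rw [det_conjG, h1, map_one]

end nondeg

end Cfsg.Agent.Lib.H7AutPM
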