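import Cfsg.Agent.Lib.Helper7.AutPO.Basic
import Mathlib

/-!
# The group of semisimilarities of an arbitrary form and its action on `PΩ(Q)` (helper7)

`GamL ι F = GL ι F ⋊ Aut F`, its semilinear action `sact` on `ι → F`, the subgroup `GammaO Q` of
semisimilarities of `Q` (no compatibility of `Q` with the field automorphisms needed), the
conjugation action on the isometry group and the induced homomorphism
`PsO Q : GammaO Q →* Aut(PΩ(Q))`; bridges to the Prelude predicates.
-/

set_option autoImplicit false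
set_option linter.unusedSectionVars false

namespace Cfsg.Agent.Lib.H7AutPM

open Matrix Cfsg Cfsg.Agent.Lib.H7AutPSp Cfsg.Agent.Lib.H7AutPO

universe u

variable {ι : Type} [Fintype ι] [DecidableEq ι] {F : Type u} [Field F]

/-- entrywise field automorphisms of `GL`, as automorphisms -/
def gmapAut : RingAut F →* MulAut (GL ι F) where
  toFun σ :=
    { toFun := gmapI σ
      invFun := gmapI σ⁻¹
      left_inv := fun g => by rw [← gmapI_mul, inv_mul_cancel, gmapI_one]
      right_inv := fun g => by rw [← gmapI_mul, mul_inv_cancel, gmapI_one]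
      map_mul' := map_mul (gmapI σ) }
  map_one' := by
    ext g : 1
    exact gmapI_one g
  map_mul' σ τ := by
    ext g : 1
    exact gmapI_mul σ τ g

theorem gmapAut_apply (σ : RingAut F) (g : GL ι F) : gmapAut σ g = gmapI σ g := rfl

/-- the general semilinear group `GL ⋊ Aut F` -/
abbrev GamL (ι : Type) [Fintype ι] [DecidableEq ι] (F : Type u) [Field F] : Type u :=
  GL ι F ⋊[gmapAut (ι := ι) (F := F)] RingAut F

/-- the semilinear action on vectors -/
def sact (x : GamL ι F) (v : ι → F) : ι → F := semiMapG x.right x.left.val v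

theorem sact_def (x : GamL ι F) (v : ι → F) :
    sact x v = x.left.val *ᵥ (fun i => x.right (v i)) := rfl

theorem sact_one (v : ι → F) : sact (1 : GamL ι F) v = v := by
  rw [sact_def, SemidirectProduct.one_left, SemidirectProduct.one_right, Units.val_one,
    Matrix.one_mulVec]
  rfl

theorem sact_mul (x y : GamL ι F) (v : ι → F) : sact (x * y) v = sact x (sact y v) := by
  rw [sact_def, sact_def, sact_def, SemidirectProduct.mul_left, SemidirectProduct.mul_right,
    Units.val_mul, gmapAut_apply, gmapI_val, ← Matrix.mulVec_mulVec, map_mulVecG]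
  rfl

theorem sact_add (x : GamL ι F) (v w : ι → F) : sact x (v + w) = sact x v + sact x w :=
  semiMapG_add _ _ v w

theorem sact_smul (x : GamL ι F) (c : F) (v : ι → F) : sact x (c • v) = x.right c • sact x v :=
  semiMapG_smul _ _ c v

theorem sact_inv_sact (x : GamL ι F) (v : ι → F) : sact x⁻¹ (sact x v) = v := by
  rw [← sact_mul, inv_mul_cancel, sact_one]

theorem sact_sact_inv (x : GamL ι F) (v : ι → F) : sact x (sact x⁻¹ v) = v := by
  rw [← sact_mul, mul_inv_cancel, sact_one]

/-- the conjugation action of the semilinear group on `GL`: `s ↦ g σ(s) g⁻¹` -/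
def conjG : GamL ι F →* MulAut (GL ι F) where
  toFun x := MulAut.conj x.left * gmapAut x.right
  map_one' := by
    rw [SemidirectProduct.one_left, SemidirectProduct.one_right, map_one, map_one, one_mul]
  map_mul' x y := by
    ext s : 1
    rw [SemidirectProduct.mul_left, SemidirectProduct.mul_right]
    simp only [MulAut.mul_apply, MulAut.conj_apply, gmapAut_apply, map_mul, map_inv]

theorem conjG_apply (x : GamL ι F) (s : GL ι F) :
    conjG x s = x.left * gmapI x.right s * x.left⁻¹ := rfl

theorem sact_mulVec (x : GamL ι F) (s : GL ι F) (w : ι → F) :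
    sact x (s.val *ᵥ w) = (conjG x s).val *ᵥ sact x w := by
  have h1 : ∀ u : ι → F, x.left⁻¹.val *ᵥ (x.left.val *ᵥ u) = u := fun u => by
    rw [Matrix.mulVec_mulVec, ← Units.val_mul, inv_mul_cancel, Units.val_one, Matrix.one_mulVec]
  rw [conjG_apply, sact_def, sact_def, Units.val_mul, Units.val_mul, ← Matrix.mulVec_mulVec,
    ← Matrix.mulVec_mulVec, h1, gmapI_val, map_mulVecG]

/-! ### the semisimilarity group -/

variable (Q : (ι → F) → F)

/-- the group of semisimilarities `v ↦ g σ(v)` of `Q` -/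
def GammaO : Subgroup (GamL ι F) where
  carrier := {x | ∃ c : Fˣ, ∀ v, Q (sact x v) = (c : F) * x.right (Q v)}
  one_mem' := ⟨1, fun v => by
    rw [sact_one, Units.val_one, one_mul, SemidirectProduct.one_right]; rfl⟩
  mul_mem' := by
    rintro x y ⟨c, hc⟩ ⟨d, hd⟩
    refine ⟨c * Units.map (x.right : F →+* F).toMonoidHom d, fun v => ?_⟩
    rw [sact_mul, hc, hd, map_mul, SemidirectProduct.mul_right, Units.val_mul, mul_assoc]
    rfl
  inv_mem' := by
    rintro x ⟨c, hc⟩
    refine ⟨Units.map (x.right⁻¹ : RingAut F).toRingHom.toMonoidHom c⁻¹, fun v => ?_⟩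
    have h := hc (sact x⁻¹ v)
    rw [sact_sact_inv] at h
    rw [SemidirectProduct.inv_right]
    have h2 : x.right⁻¹ (Q v) = x.right⁻¹ (c : F) * Q (sact x⁻¹ v) := by
      rw [h, map_mul]
      congr 1
      exact (x.right).symm_apply_apply _
    rw [h2, ← mul_assoc]
    have h3 : ((Units.map (x.right⁻¹ : RingAut F).toRingHom.toMonoidHom c⁻¹ : Fˣ) : F) *
        x.right⁻¹ (c : F) = 1 := by
      show x.right⁻¹ ((c⁻¹ : Fˣ) : F) * x.right⁻¹ (c : F) = 1
      rw [← map_mul, ← Units.val_mul, inv_mul_cancel, Units.val_one, map_one]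
    rw [h3, one_mul]

theorem mem_GammaO_iff (x : GamL ι F) :
    x ∈ GammaO Q ↔ Cfsg.IsSemisimilarityPair Q x.left x.right := Iff.rfl

/-- semisimilarities normalise the isometry group -/
theorem conjG_mem (x : GamL ι F) (hx : x ∈ GammaO Q) (s : GL ι F)
    (hs : s ∈ Cfsg.isometryGroup F Q) : conjG x s ∈ Cfsg.isometryGroup F Q := by
  rw [mem_iso_iff] at hs ⊢
  obtain ⟨c, hc⟩ := hx
  intro v
  have hv : v = sact x (sact x⁻¹ v) := (sact_sact_inv x v).symm
  rw [hv, ← sact_mulVec, hc, hc, hs]

/-- the action of the semisimilarity group on the isometry group -/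
def semiIso : ↥(GammaO Q) →* MulAut ↥(Cfsg.isometryGroup F Q) where
  toFun x :=
    { toFun := fun s => ⟨conjG x.1 s.1, conjG_mem Q x.1 x.2 s.1 s.2⟩
      invFun := fun s => ⟨conjG x.1⁻¹ s.1, conjG_mem Q x.1⁻¹ (inv_mem x.2) s.1 s.2⟩
      left_inv := fun s => by
        apply Subtype.ext
        show conjG x.1⁻¹ (conjG x.1 s.1) = s.1
        rw [← MulAut.mul_apply, ← map_mul, inv_mul_cancel, map_one]
        rfl
      right_inv := fun s => by
        apply Subtype.ext
        show conjG x.1 (conjG x.1⁻¹ s.1) = s.1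
        rw [← MulAut.mul_apply, ← map_mul, mul_inv_cancel, map_one]
        rfl
      map_mul' := fun s t => Subtype.ext (map_mul (conjG x.1) s.1 t.1) }
  map_one' := by
    ext s : 1
    apply Subtype.ext
    show conjG (1 : GamL ι F) s.1 = s.1
    rw [map_one]
    rfl
  map_mul' x y := by
    ext s : 1
    apply Subtype.ext
    show conjG (x.1 * y.1) s.1 = conjG x.1 (conjG y.1 s.1)
    rw [map_mul]
    rfl

theorem semiIso_val (x : ↥(GammaO Q)) (s : ↥(Cfsg.isometryGroup F Q)) :
    (semiIso Q x s).1 = conjG x.1 s.1 := rfl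

/-- the automorphisms of `PΩ(Q)` induced by semisimilarities -/
noncomputable def PsO : ↥(GammaO Q) →* MulAut (Cfsg.POmega F Q) :=
  liftC.comp (commAut.comp (semiIso Q))

theorem PsO_pr (x : ↥(GammaO Q)) (s : ↥(Cfsg.Omega F Q)) :
    PsO Q x (prC s) = prC (commAut (semiIso Q x) s) := rfl

theorem PsO_val (x : ↥(GammaO Q)) (s : ↥(Cfsg.Omega F Q)) :
    (commAut (semiIso Q x) s).1.1.val =
      x.1.left.val * s.1.1.val.map x.1.right * x.1.left⁻¹.val := by
  rw [commAut_val, semiIso_val, conjG_apply, Units.val_mul, Units.val_mul, gmapI_val]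

/-- bridge to the Prelude predicate -/
theorem induced_iff (x : ↥(GammaO Q)) (β : MulAut (Cfsg.POmega F Q)) :
    Cfsg.IsInducedBySemilinearPOmega Q x.1.left x.1.right β ↔ β = PsO Q x := by
  constructor
  · intro h
    apply autC_ext
    intro s
    rw [PsO_pr]
    refine h s _ ?_
    rw [PsO_val]
  · rintro rfl s s' hs'
    have e : s' = commAut (semiIso Q x) s := by
      apply om_ext
      rw [PsO_val]
      exact hs'
    rw [e]
    rfl

/-- the image of the semisimilarity group -/
theorem gammaPOmega_eq : Cfsg.gammaPOmega F Q = (PsO Q).range := by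
  unfold Cfsg.gammaPOmega Cfsg.autSubgroupOf
  apply le_antisymm
  · rw [Subgroup.closure_le]
    rintro β ⟨g, σ, hs, hind⟩
    exact ⟨⟨⟨g, σ⟩, hs⟩, ((induced_iff Q ⟨⟨g, σ⟩, hs⟩ β).1 hind).symm⟩
  · rintro _ ⟨x, rfl⟩
    exact Subgroup.subset_closure ⟨x.1.left, x.1.right, x.2, (induced_iff Q x _).2 rfl⟩

/-- under the factorisation hypothesis the semisimilarities induce all automorphisms -/
theorem PsO_surjective
    (hFac : ∀ β : MulAut (Cfsg.POmega F Q), ∃ (g : GL ι F) (σ : F ≃+* F),
      Cfsg.IsSemisimilarityPair Q g σ ∧ Cfsg.IsInducedBySemilinearPOmega Q g σ β) :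
    Function.Surjective (PsO Q) := by
  intro β
  obtain ⟨g, σ, hs, hind⟩ := hFac β
  exact ⟨⟨⟨g, σ⟩, hs⟩, ((induced_iff Q ⟨⟨g, σ⟩, hs⟩ β).1 hind).symm⟩

theorem gammaPOmega_eq_top
    (hFac : ∀ β : MulAut (Cfsg.POmega F Q), ∃ (g : GL ι F) (σ : F ≃+* F),
      Cfsg.IsSemisimilarityPair Q g σ ∧ Cfsg.IsInducedBySemilinearPOmega Q g σ β) :
    Cfsg.gammaPOmega F Q = ⊤ := by
  rw [gammaPOmega_eq, MonoidHom.range_eq_top]
  exact PsO_surjective Q hFac

/-! ### similarities inside the semisimilarity group -/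

/-- the similarity group inside the semisimilarity group -/
def simIncl : ↥(Cfsg.Geo.quadSimilarityGroup (F := F) Q) →* ↥(GammaO Q) where
  toFun g := ⟨SemidirectProduct.inl g.1, by
    obtain ⟨c, hc⟩ := g.2
    refine ⟨c, fun v => ?_⟩
    rw [sact_def, SemidirectProduct.left_inl, SemidirectProduct.right_inl]
    exact hc v⟩
  map_one' := by
    apply Subtype.ext
    exact map_one _
  map_mul' g h := by
    apply Subtype.ext
    exact map_mul _ g.1 h.1

theorem simIncl_left (g : ↥(Cfsg.Geo.quadSimilarityGroup (F := F) Q)) :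
    (simIncl Q g).1.left = g.1 := rfl

theorem simIncl_right (g : ↥(Cfsg.Geo.quadSimilarityGroup (F := F) Q)) :
    (simIncl Q g).1.right = 1 := rfl

/-- the field automorphism of a semisimilarity -/
def rightO : ↥(GammaO Q) →* RingAut F :=
  SemidirectProduct.rightHom.comp (GammaO Q).subtype

theorem rightO_apply (x : ↥(GammaO Q)) : rightO Q x = x.1.right := rfl

theorem rightO_ker : (rightO Q).ker = (simIncl Q).range := by
  ext x
  rw [MonoidHom.mem_ker, rightO_apply]
  constructor
  · intro h
    obtain ⟨c, hc⟩ := x.2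
    refine ⟨⟨x.1.left, c, fun v => ?_⟩, ?_⟩
    · have := hc v
      rw [sact_def, h] at this
      exact this
    · apply Subtype.ext
      apply SemidirectProduct.ext
      · rfl
      · exact h.symm
  · rintro ⟨g, rfl⟩
    rfl

theorem PsO_simIncl (g : ↥(Cfsg.Geo.quadSimilarityGroup (F := F) Q)) :
    PsO Q (simIncl Q g) = DhO Q g := by
  apply autC_ext
  intro s
  rw [PsO_pr, DhO_pr]
  congr 1

end Cfsg.Agent.Lib.H7AutPM
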