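import Cfsg.Agent.Lib.Helper7.AutPM.GFCent
import Cfsg.Agent.Lib.Helper7.AutPO.SplitO
import Cfsg.Agent.Lib.Helper7.AutPSL.SplitPSL
import Cfsg.Agent.Lib.Helper5.Orth.SpinorPlus
import Cfsg.Agent.Lib.Helper5.Orth.PlusGLSpin
import Mathlib

/-!
# Tools for counting classes when `Inndiag / Inn` has order four (helper7)
-/

set_option autoImplicit false
set_option linter.unusedSectionVars false
set_option linter.style.haveILetI false

namespace Cfsg.Agent.Lib.H7AutPM

open Matrix Cfsg Cfsg.Agent.Lib.H7AutPSp Cfsg.Agent.Lib.H7AutPO Cfsg.Agent.Lib.H7AutPSL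
  Cfsg.Agent.Lib.Helper5.OrthAut Cfsg.Agent.H9.Orth Cfsg.Agent.Lib.Helper5.OrthSN
  Cfsg.Agent.Lib.Helper5.OrthPar Cfsg.Agent.Lib.Helper5.OrthCls Cfsg.Agent.Lib.Helper5.OrthPM

universe u v

section abstract

variable {A : Type*} [Group A]

/-- index four, centraliser generated modulo `K` by one element `e` -/
theorem splitClassCount_four_cases (D K : Subgroup A) (hKD : K ≤ D) [hK : K.Normal]
    (hidx : K.relIndex D = 4) (x e : A) (he : e ∈ D ⊓ Subgroup.centralizer {x})
    (hall : ∀ c ∈ D ⊓ Subgroup.centralizer {x}, c ∈ K ∨ c * e⁻¹ ∈ K) :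
    (e ∈ K → Cfsg.splitClassCount D K x = 4) ∧ (e ∉ K → Cfsg.splitClassCount D K x = 2) := by
  constructor
  · intro heK
    rw [splitClassCount_eq D K hKD x]
    have : splitSub D K x = K := by
      apply sup_eq_left.2
      intro c hc
      rcases hall c hc with h | h
      · exact h
      · have := mul_mem h heK
        rwa [inv_mul_cancel_right] at this
    rw [this, hidx]
  · intro heK
    rw [splitClassCount_eq D K hKD x]
    have h1 : K ≤ splitSub D K x := le_sup_left
    have h2 : splitSub D K x ≤ D := sup_le hKD inf_le_left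
    have h3 := Subgroup.relIndex_mul_relIndex K (splitSub D K x) D h1 h2
    rw [hidx] at h3
    have hee : e * e ∈ K := by
      rcases hall (e * e) (mul_mem he he) with h | h
      · exact h
      · rw [mul_inv_cancel_right] at h
        exact absurd h heK
    have h4 : K.relIndex (splitSub D K x) = 2 := by
      rw [Subgroup.relIndex_eq_two_iff]
      refine ⟨e, Subgroup.mem_sup_right he, ?_⟩
      intro b hb
      obtain ⟨k, hk, c, hc, rfl⟩ := (mem_splitSub_iff D K x b).1 hb
      rcases hall c hc with h | h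
      · refine Or.inr ⟨mul_mem hk h, ?_⟩
        intro h5
        apply heK
        have := mul_mem (inv_mem (mul_mem hk h)) h5
        rwa [inv_mul_cancel_left] at this
      · refine Or.inl ⟨?_, ?_⟩
        · have e1 : k * c * e = k * (c * e⁻¹) * (e * e) := by group
          rw [e1]
          exact mul_mem (mul_mem hk h) hee
        · intro h5
          have hcK : c ∈ K := by
            have := mul_mem (inv_mem hk) h5
            rwa [inv_mul_cancel_left] at this
          apply heK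
          have := mul_mem (inv_mem h) hcK
          rw [_root_.mul_inv_rev, inv_inv, inv_mul_cancel_right] at this
          exact this
    rw [h4] at h3
    omega

end abstract

section inn

variable {ι : Type} [Fintype ι] [DecidableEq ι] {F : Type u} [Field F] [Fintype F]
  {Q : (ι → F) → F} (hQ : Cfsg.Geo.IsNondegenerateQuadraticForm Q)

include hQ in
/-- when `-1 ∈ Ω`, an isometry induces an inner automorphism iff it lies in `Ω` -/
theorem DhO_iso_mem_inn_iff (hn : 7 ≤ Fintype.card ι) (h2 : (2 : F) ≠ 0)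
    (hneg : (-1 : GL ι F) ∈ Cfsg.Geo.omegaGL Q) (s : GL ι F)
    (hs : s ∈ Cfsg.isometryGroup F Q) :
    DhO Q ⟨s, iso_le_sim Q hs⟩ ∈ Cfsg.Inn (Cfsg.POmega F Q) ↔ s ∈ Cfsg.Geo.omegaGL Q := by
  haveI : Nonempty ι := by
    rw [← Fintype.card_pos_iff]; omega
  constructor
  · intro h
    rw [DhO_eq_conjHom, conjHom_mem_inn_iff, Subgroup.mem_sup_of_normal_right] at h
    obtain ⟨ω, hω, k, hk, hωk⟩ := h
    rw [Subgroup.mem_subgroupOf] at hω
    rw [MonoidHom.mem_ker, conjHom_apply] at hk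
    obtain ⟨l, hl⟩ := scalar_of_conjT_eq_one hQ hn h2 _ k.2 hk
    have hωk' : (ω : GL ι F) * (k : GL ι F) = s := congrArg Subtype.val hωk
    have hωO : (ω : GL ι F) ∈ Cfsg.isometryGroup F Q := omegaGL_le_iso hω
    have hact : ∀ v, act s v = l • act (ω : GL ι F) v := by
      intro v
      rw [← hωk', act_mul, hl, act_smul]
    have hsq : l ^ 2 = 1 := by
      obtain ⟨x, hx⟩ := exists_nonsing hQ
      have h3 : Q (act s x) = Q x := (mem_isometryGroup_iff _).1 hs x
      rw [hact, Q_smul hQ, (mem_isometryGroup_iff _).1 hωO] at h3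
      have h4 : (l ^ 2 - 1) * Q x = 0 := by linear_combination h3
      rcases mul_eq_zero.1 h4 with h5 | h5
      · exact sub_eq_zero.1 h5
      · exact absurd h5 hx
    have hcases : l = 1 ∨ l = -1 := by
      have : (l - 1) * (l + 1) = 0 := by linear_combination hsq
      rcases mul_eq_zero.1 this with h5 | h5
      · exact Or.inl (sub_eq_zero.1 h5)
      · exact Or.inr (eq_neg_of_add_eq_zero_left h5)
    rcases hcases with h5 | h5
    · have : s = (ω : GL ι F) := by
        apply gl_ext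
        intro v
        rw [hact, h5, one_smul]
      rw [this]
      exact hω
    · have : s = (-1 : GL ι F) * (ω : GL ι F) := by
        apply gl_ext
        intro v
        rw [hact, h5, act_mul, act_neg_one]
      rw [this]
      exact mul_mem hneg hω
  · rintro ⟨y, hy, hyv⟩
    have : (⟨s, hs⟩ : ↥(Cfsg.isometryGroup F Q)) = y := Subtype.ext hyv.symm
    apply DhO_mem_inn_of_omega _ hs
    rw [this]
    exact hy

end inn

section plusfacts

variable {F : Type u} [Field F] [Fintype F] {m : ℕ}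

/-- `-1 ∈ Ω⁺_{2m}(q)` when `q ≡ 1 (mod 4)` -/
theorem neg_one_mem_omega_plus (hodd : Odd (Fintype.card F)) (h4 : Fintype.card F % 4 = 1) :
    (-1 : GL (Fin m ⊕ Fin m) F) ∈ Cfsg.Geo.omegaGL (Cfsg.quadFormPlus m F) := by
  have hiff := plus_diag_iff (F := F) m hodd m le_rfl
  rw [diagonal_dP_self] at hiff
  have hmod : Fintype.card F ^ m % 4 = 1 := by
    rw [pow_mod_four_eq_one _ _ hodd]
    exact Or.inr h4
  obtain ⟨g₀, hg₀, hval⟩ := hiff.2 hmod
  refine ⟨g₀, hg₀, ?_⟩
  apply Units.ext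
  rw [Units.val_neg, Units.val_one]
  exact hval

/-- `|Inndiag : Inn| = 4` for `PΩ⁺_{2m}(q)`, `q ≡ 1 (mod 4)` -/
theorem relIndex_inn_inndiag_plus (hm : 4 ≤ m) (hodd : Odd (Fintype.card F))
    (h4 : Fintype.card F % 4 = 1) :
    (Cfsg.Inn (Cfsg.POmega F (Cfsg.quadFormPlus m F))).relIndex
      (Cfsg.inndiagPOmegaPlus m F) = 4 := by
  classical
  haveI : Nonempty (Fin m ⊕ Fin m) := ⟨Sum.inl ⟨0, by omega⟩⟩
  have h2 := two_ne_zero_of_odd_card hodd
  have hQ := quadFormPlus_nondeg (F := F) m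
  have hcard := card_sum_fin m
  have hn : 7 ≤ Fintype.card (Fin m ⊕ Fin m) := by rw [hcard]; omega
  have hgen := iso_le_RR hQ (Or.inl (card_ne_two_of_odd_card hodd))
  have hiff := plus_diag_iff (F := F) m hodd m le_rfl
  rw [diagonal_dP_self] at hiff
  have hmod : Fintype.card F ^ m % 4 = 1 := by
    rw [pow_mod_four_eq_one _ _ hodd]
    exact Or.inr h4
  obtain ⟨g₀, hg₀, hval⟩ := hiff.2 hmod
  have hchar : ringChar F ≠ 2 := ringChar_ne_two_of_two_ne_zero h2
  obtain ⟨ν, hν⟩ := FiniteField.exists_nonsquare hchar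
  have hν0 : ν ≠ 0 := by
    rintro rfl
    exact hν ⟨0, by ring⟩
  rw [inndiagPlus_eq m hodd]
  exact relIndex_inn_inndiagGen_of_neg_mem hQ hn h2 hgen m hcard (dPlus m ν hν0) ν hν
    (dPlus_sim m ν hν0) g₀ hg₀ hval

/-- an invertible diagonal matrix -/
def diagGLn {n : ℕ} (d : Fin n → F) (hd : ∀ k, d k ≠ 0) : GL (Fin n) F :=
  ⟨diagonal d, diagonal (fun k => (d k)⁻¹), by
    rw [diagonal_mul_diagonal, ← diagonal_one]
    congr 1
    funext k
    exact mul_inv_cancel₀ (hd k), by
    rw [diagonal_mul_diagonal, ← diagonal_one]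
    congr 1
    funext k
    exact inv_mul_cancel₀ (hd k)⟩

theorem act_diagGLn {n : ℕ} (d : Fin n → F) (hd : ∀ k, d k ≠ 0) (x : Fin n → F) :
    act (diagGLn d hd) x = fun k => d k * x k := by
  funext k
  show ((diagonal d) *ᵥ x) k = _
  rw [Matrix.mulVec_diagonal]

theorem act_tinv_diagGLn {n : ℕ} (d : Fin n → F) (hd : ∀ k, d k ≠ 0) (x : Fin n → F) :
    act (tinv (diagGLn d hd)) x = fun k => (d k)⁻¹ * x k := by
  funext k
  show ((diagonal (fun k => (d k)⁻¹))ᵀ *ᵥ x) k = _
  rw [Matrix.diagonal_transpose, Matrix.mulVec_diagonal]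

theorem det_diagGLn {n : ℕ} (d : Fin n → F) (hd : ∀ k, d k ≠ 0) :
    ((diagGLn d hd : GL (Fin n) F) : Matrix (Fin n) (Fin n) F).det = ∏ k, d k :=
  Matrix.det_diagonal

theorem act_plusHom_diag (d : Fin m → F) (hd : ∀ k, d k ≠ 0) (u : Fin m ⊕ Fin m → F) :
    act ((plusHom F m (diagGLn d hd) : ↥(Cfsg.isometryGroup F (Cfsg.quadFormPlus m F))) :
      GL (Fin m ⊕ Fin m) F) u =
      Sum.elim (fun k => d k * u (Sum.inl k)) (fun k => (d k)⁻¹ * u (Sum.inr k)) := by
  show act (blockGL (diagGLn d hd) (tinv (diagGLn d hd))) u = _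
  rw [act_blockGL, act_diagGLn, act_tinv_diagGLn]
  rfl

/-- a diagonal isometry `diag(d, d⁻¹)` of the hyperbolic form lies in `Ω⁺` iff `∏ d` is a square -/
theorem plusHom_diag_mem_omega_iff (hm : 3 ≤ m) (d : Fin m → F) (hd : ∀ k, d k ≠ 0) :
    ((plusHom F m (diagGLn d hd) : ↥(Cfsg.isometryGroup F (Cfsg.quadFormPlus m F))) :
      GL (Fin m ⊕ Fin m) F) ∈ Cfsg.Geo.omegaGL (Cfsg.quadFormPlus m F) ↔
      IsSquare (∏ k, d k) := by
  rw [← det_diagGLn d hd, ← plusHom_mem_omega_iff (Or.inr (by omega))]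
  constructor
  · rintro ⟨y, hy, hyv⟩
    have : y = plusHom F m (diagGLn d hd) := Subtype.ext hyv
    rw [← this]
    exact hy
  · intro h
    exact ⟨_, h, rfl⟩

end plusfacts

section euler

variable {F : Type u} [Field F] [Fintype F] {F₀ : Type v} [Field F₀] [Fintype F₀]

/-- a square root in `F` of a non-square of `F₀` (`|F| = |F₀|²`, odd) is a square iff
`|F₀| ≡ 3 (mod 4)` -/
theorem isSquare_sqrt_iff (h2 : (2 : F) ≠ 0) (ι : F₀ →+* F)
    (hcard : Fintype.card F = Fintype.card F₀ ^ 2) (ν : F₀) (hν : ¬ IsSquare ν) (κ : F)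
    (hκ : κ * κ = ι ν) : IsSquare κ ↔ Fintype.card F₀ % 4 = 3 := by
  have hν0 : ν ≠ 0 := by
    rintro rfl
    exact hν ⟨0, by ring⟩
  have hκ0 : κ ≠ 0 := by
    rintro rfl
    rw [mul_zero] at hκ
    exact hν0 (ι.injective (by rw [← hκ, map_zero]))
  have hchar : ringChar F ≠ 2 := ringChar_ne_two_of_two_ne_zero h2
  have h2₀ : (2 : F₀) ≠ 0 := fun h => h2 ((two_eq_zero_base_iff ι).1 h)
  have hchar₀ : ringChar F₀ ≠ 2 := ringChar_ne_two_of_two_ne_zero h2₀
  rw [FiniteField.isSquare_iff hchar hκ0]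
  have hoddF : Odd (Fintype.card F) := by
    by_contra hev
    rw [Nat.not_odd_iff_even] at hev
    exact h2 (two_eq_zero_of_even_card hev)
  have hodd₀ : Odd (Fintype.card F₀) := by
    rw [hcard] at hoddF
    exact Nat.Odd.of_mul_right (by rw [← pow_two]; exact hoddF)
  obtain ⟨h, hh⟩ := hodd₀
  have hνpow : ν ^ h = -1 := by
    have h3 : Fintype.card F₀ / 2 = h := by omega
    rcases FiniteField.pow_dichotomy hchar₀ hν0 with h5 | h5
    · exfalso
      apply hν
      rw [FiniteField.isSquare_iff hchar₀ hν0]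
      exact h5
    · rw [h3] at h5
      exact h5
  have h3 : Fintype.card F / 2 = 2 * (h * (h + 1)) := by
    rw [hcard, hh]
    have : (2 * h + 1) ^ 2 = 2 * (2 * (h * (h + 1))) + 1 := by ring
    rw [this]
    omega
  rw [h3, pow_mul, pow_two, hκ, pow_mul, ← map_pow, hνpow, map_neg, map_one]
  have hne : (1 : F) ≠ -1 := by
    intro h5
    apply h2
    linear_combination h5
  constructor
  · intro h5
    rcases Nat.even_or_odd (h + 1) with he | ho
    · obtain ⟨t, ht⟩ := he
      omega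
    · rw [ho.neg_one_pow] at h5
      exact absurd h5.symm hne
  · intro h5
    have he : Even (h + 1) := ⟨(h + 1) / 2, by omega⟩
    exact he.neg_one_pow

/-- `|F₀|² ≡ 1 (mod 4)` for odd `|F₀|` -/
theorem card_sq_mod_four (q₀ : ℕ) (hq₀ : Odd q₀) : q₀ ^ 2 % 4 = 1 := by
  obtain ⟨k, rfl⟩ := hq₀
  have : (2 * k + 1) ^ 2 = 4 * (k * (k + 1)) + 1 := by ring
  rw [this]
  omega

/-- an element of `F` whose norm to `F₀` is a non-square is a non-square -/
theorem not_isSquare_of_norm (σ : RingAut F) (hσ2 : σ * σ = 1) (ι : F₀ →+* F)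
    (hι : ∀ t : F, σ t = t ↔ ∃ s, ι s = t) (ν : F₀) (hν : ¬ IsSquare ν) (w : F)
    (hw : w * σ w = ι ν) : ¬ IsSquare w := by
  rintro ⟨t, rfl⟩
  have hfix : σ (t * σ t) = t * σ t := by
    rw [map_mul]
    have : σ (σ t) = t := by
      have := congrArg (fun τ : RingAut F => τ t) hσ2
      exact this
    rw [this, mul_comm]
  obtain ⟨s₀, hs₀⟩ := (hι _).1 hfix
  apply hν
  refine ⟨s₀, ι.injective ?_⟩
  rw [map_mul, hs₀, ← hw, map_mul]
  ring

end euler

end Cfsg.Agent.Lib.H7AutPM
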