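import Mathlib

/-!
# Self-adjoint / skew-adjoint operators on a bilinear space: basic lemmas (helper7)

Abstract linear algebra used for the semisimple class fusion statements in `PΩ±`.
-/

set_option autoImplicit false
set_option linter.unusedSectionVars false

namespace Cfsg.Agent.Lib.H7AutPM

open Polynomial

section ssA

variable {F : Type*} [Field F] {V : Type*} [AddCommGroup V] [Module F V]
  (B : LinearMap.BilinForm F V)

/-- self-adjoint operators -/
def SelfAdj (t : Module.End F V) : Prop := ∀ u w, B (t u) w = B u (t w)

/-- skew-adjoint operators -/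
def SkewAdj (c : Module.End F V) : Prop := ∀ u w, B (c u) w = - B u (c w)

/-- the restriction of `B` to `U` is nondegenerate -/
def NonDegS (U : Submodule F V) : Prop := ∀ u ∈ U, (∀ w ∈ U, B u w = 0) → u = 0

variable {B}

theorem selfAdj_pow {t : Module.End F V} (ht : SelfAdj B t) (n : ℕ) : SelfAdj B (t ^ n) := by
  induction n with
  | zero => intro u w; simp
  | succ n ih =>
    intro u w
    rw [pow_succ, Module.End.mul_apply, ih, Module.End.mul_apply, ht]
    rw [← Module.End.mul_apply, ← Module.End.mul_apply, ← pow_succ, ← pow_succ']

theorem selfAdj_aeval {t : Module.End F V} (ht : SelfAdj B t) (p : F[X]) :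
    SelfAdj B (aeval t p) := by
  induction p using Polynomial.induction_on' with
  | add p q hp hq =>
    intro u w
    rw [map_add, LinearMap.add_apply, LinearMap.add_apply, map_add, LinearMap.add_apply, hp u w,
      hq u w, map_add]
  | monomial n a =>
    intro u w
    rw [aeval_monomial, ← Algebra.smul_def, LinearMap.smul_apply, LinearMap.smul_apply,
      map_smul, LinearMap.smul_apply, map_smul, selfAdj_pow ht n u w]

theorem aeval_mem_of_inv {t : Module.End F V} {U : Submodule F V} (hU : ∀ u ∈ U, t u ∈ U)
    (p : F[X]) : ∀ u ∈ U, aeval t p u ∈ U := by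
  induction p using Polynomial.induction_on' with
  | add p q hp hq =>
    intro u hu
    rw [map_add, LinearMap.add_apply]
    exact U.add_mem (hp u hu) (hq u hu)
  | monomial n a =>
    intro u hu
    rw [aeval_monomial, ← Algebra.smul_def, LinearMap.smul_apply]
    apply U.smul_mem
    induction n with
    | zero => simpa using hu
    | succ n ih =>
      rw [pow_succ', Module.End.mul_apply]
      exact hU _ ih

/-- a nondegenerate nonzero subspace contains an anisotropic vector (`char ≠ 2`) -/
theorem exists_aniso (hB : B.IsSymm) (h2 : (2 : F) ≠ 0) {U : Submodule F V} (hU : NonDegS B U)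
    (hU0 : U ≠ ⊥) : ∃ v ∈ U, B v v ≠ 0 := by
  by_contra hcon
  push Not at hcon
  obtain ⟨u, hu, hu0⟩ := (Submodule.ne_bot_iff U).1 hU0
  apply hu0
  apply hU u hu
  intro w hw
  have h1 := hcon (u + w) (U.add_mem hu hw)
  simp only [map_add, LinearMap.add_apply] at h1
  rw [hcon u hu, hcon w hw, hB.eq w u] at h1
  have h3 : (2 : F) * B u w = 0 := by linear_combination h1
  rcases mul_eq_zero.1 h3 with h4 | h4
  · exact absurd h4 h2
  · exact h4

/-- **choice of an irreducible annihilator with an anisotropic vector** -/
theorem exists_irred_aniso {t : Module.End F V} (ht : SelfAdj B t) {U : Submodule F V}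
    (hU : ∀ u ∈ U, t u ∈ U) :
    ∀ (n : ℕ) (p : F[X]), p.Monic → Squarefree p → p.natDegree = n → ∀ v ∈ U,
      aeval t p v = 0 → B v v ≠ 0 →
      ∃ h : F[X], h.Monic ∧ Irreducible h ∧ ∃ v' ∈ U, aeval t h v' = 0 ∧ B v' v' ≠ 0 := by
  intro n
  induction n using Nat.strong_induction_on with
  | _ n ih =>
    intro p hp hsq hn v hv hpv hvv
    by_cases hirr : Irreducible p
    · exact ⟨p, hp, hirr, v, hv, hpv, hvv⟩
    · have hp1 : p ≠ 1 := by
        rintro rfl
        rw [map_one, Module.End.one_apply] at hpv
        rw [hpv, map_zero] at hvv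
        exact hvv rfl
      rw [hp.irreducible_iff_natDegree'] at hirr
      push Not at hirr
      obtain ⟨f, g, hf, hg, hfg, hgdeg⟩ := hirr hp1
      rw [Finset.mem_Ioc] at hgdeg
      -- degrees
      have hdeg : p.natDegree = f.natDegree + g.natDegree := by
        rw [← hfg, hf.natDegree_mul hg]
      have hsq' : Squarefree (f * g) := by rw [hfg]; exact hsq
      rw [squarefree_mul_iff] at hsq'
      obtain ⟨hrel, hsf, hsg⟩ := hsq'
      have hcop : IsCoprime f g := hrel.isCoprime
      obtain ⟨a, b, hab⟩ := hcop
      -- the two components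
      set vg : V := aeval t (a * f) v with hvg
      set vf : V := aeval t (b * g) v with hvf
      have hsum : vg + vf = v := by
        rw [hvg, hvf, ← LinearMap.add_apply, ← map_add, hab, map_one, Module.End.one_apply]
      have hvgU : vg ∈ U := aeval_mem_of_inv hU _ v hv
      have hvfU : vf ∈ U := aeval_mem_of_inv hU _ v hv
      have hgvg : aeval t g vg = 0 := by
        rw [hvg, ← Module.End.mul_apply, ← map_mul]
        have : g * (a * f) = a * p := by rw [← hfg]; ring
        rw [this, map_mul, Module.End.mul_apply, hpv, map_zero]
      have hfvf : aeval t f vf = 0 := by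
        rw [hvf, ← Module.End.mul_apply, ← map_mul]
        have : f * (b * g) = b * p := by rw [← hfg]; ring
        rw [this, map_mul, Module.End.mul_apply, hpv, map_zero]
      have horth1 : B vg vf = 0 := by
        rw [hvg, selfAdj_aeval ht (a * f) v vf, hvf, ← Module.End.mul_apply, ← map_mul]
        have : a * f * (b * g) = a * b * p := by rw [← hfg]; ring
        rw [this, map_mul, Module.End.mul_apply, hpv, map_zero, map_zero]
      have horth2 : B vf vg = 0 := by
        rw [hvf, selfAdj_aeval ht (b * g) v vg, hvg, ← Module.End.mul_apply, ← map_mul]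
        have : b * g * (a * f) = a * b * p := by rw [← hfg]; ring
        rw [this, map_mul, Module.End.mul_apply, hpv, map_zero, map_zero]
      have hexp : B v v = B vg vg + B vf vf := by
        rw [← hsum]
        simp only [map_add, LinearMap.add_apply]
        rw [horth1, horth2]
        ring
      by_cases h1 : B vg vg ≠ 0
      · exact ih g.natDegree (by omega) g hg hsg rfl vg hvgU hgvg h1
      · push Not at h1
        have h3 : B vf vf ≠ 0 := by
          intro h3
          apply hvv
          rw [hexp, h1, h3, add_zero]
        exact ih f.natDegree (by omega) f hf hsf rfl vf hvfU hfvf h3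

end ssA

end Cfsg.Agent.Lib.H7AutPM
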