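import Cfsg.Agent.Lib.Helper7.AutPM.SsA
import Mathlib

/-!
# Rank-one pieces: the generic model (helper7)

A *model* is an injective `F`-linear map `Φ : K² → V` (`K` a finite extension of `F`) such that the
form of `V` pulls back to `ℓ (w₀ w₀' - δ w₁ w₁')`. Operators `K²→K²` given by matrices are extended
by the identity on the orthogonal complement of the range.
-/

set_option autoImplicit false
set_option linter.unusedSectionVars false

namespace Cfsg.Agent.Lib.H7AutPM

open Polynomial Module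

section dets

variable {F : Type*} [Field F] {V : Type*} [AddCommGroup V] [Module F V] [FiniteDimensional F V]

/-- the determinant of a map acting as `f` on `P` and trivially on a complement -/
theorem det_ofIsCompl_subtype {P P' : Submodule F V} (h : IsCompl P P') (f : P →ₗ[F] P) :
    LinearMap.det (LinearMap.ofIsCompl h (P.subtype ∘ₗ f) P'.subtype) = LinearMap.det f := by
  have h1 : LinearMap.ofIsCompl h (P.subtype ∘ₗ f) P'.subtype =
      ((Submodule.prodEquivOfIsCompl P P' h : (P × P') →ₗ[F] V) ∘ₗ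
        (LinearMap.prodMap f LinearMap.id) ∘ₗ
        ((Submodule.prodEquivOfIsCompl P P' h).symm : V →ₗ[F] (P × P'))) := by
    apply LinearMap.ofIsCompl_eq
    · intro u
      simp only [LinearMap.comp_apply, LinearEquiv.coe_coe]
      rw [Submodule.prodEquivOfIsCompl_symm_apply_left, LinearMap.prodMap_apply, map_zero,
        Submodule.coe_prodEquivOfIsCompl']
      simp
    · intro u
      simp only [LinearMap.comp_apply, LinearEquiv.coe_coe]
      rw [Submodule.prodEquivOfIsCompl_symm_apply_right, LinearMap.prodMap_apply, map_zero,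
        Submodule.coe_prodEquivOfIsCompl']
      simp
  rw [h1, LinearMap.det_conj, LinearMap.det_prodMap, LinearMap.det_id, mul_one]

end dets

section qmat

variable {K : Type*} [Field K] {δ : K}

/-- the binary `K`-form `w₀ w₀' - δ w₁ w₁'` -/
def betaK (δ : K) (w w' : Fin 2 → K) : K := w 0 * w' 0 - δ * w 1 * w' 1

/-- the matrices `x + y·c` of the quadratic algebra `K[c]`, `c² = δ` -/
def qm (δ x y : K) : Matrix (Fin 2) (Fin 2) K := !![x, δ * y; y, x]

theorem qm_det (x y : K) : (qm δ x y).det = x ^ 2 - δ * y ^ 2 := by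
  unfold qm
  rw [Matrix.det_fin_two_of]
  ring

theorem qm_comm (x y x' y' : K) : qm δ x y * qm δ x' y' = qm δ x' y' * qm δ x y := by
  unfold qm
  rw [Matrix.mul_fin_two, Matrix.mul_fin_two]
  congr 1
  ext i j
  fin_cases i <;> fin_cases j <;> simp <;> ring

theorem betaK_qm (x y : K) (w w' : Fin 2 → K) :
    betaK δ ((qm δ x y).mulVec w) ((qm δ x y).mulVec w') = (x ^ 2 - δ * y ^ 2) * betaK δ w w' := by
  unfold betaK qm
  simp only [Matrix.mulVec, Matrix.of_apply, Matrix.cons_val', Matrix.cons_val_zero,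
    Matrix.cons_val_one, dotProduct, Fin.sum_univ_two, Matrix.empty_val',
    Matrix.cons_val_fin_one]
  ring

end qmat

section model

variable {F : Type*} [Field F] {V : Type*} [AddCommGroup V] [Module F V] [FiniteDimensional F V]
  {B : LinearMap.BilinForm F V}
  {K : Type*} [Field K] [Algebra F K] [FiniteDimensional F K]

/-- a model of a rank-one piece -/
structure IsModel (B : LinearMap.BilinForm F V) (δ : K) (ℓ : K →ₗ[F] F)
    (Φ : (Fin 2 → K) →ₗ[F] V) : Prop where
  hδ : δ ≠ 0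
  hℓ : ℓ 1 ≠ 0
  hΦ : ∀ w w', B (Φ w) (Φ w') = ℓ (betaK δ w w')

variable {δ : K} {ℓ : K →ₗ[F] F} {Φ : (Fin 2 → K) →ₗ[F] V}

theorem IsModel.sep (hM : IsModel B δ ℓ Φ) (w : Fin 2 → K) (hw : w ≠ 0) :
    ∃ w', ℓ (betaK δ w w') ≠ 0 := by
  by_cases h0 : w 0 = 0
  · have h1 : w 1 ≠ 0 := by
      intro h1
      apply hw
      funext i
      fin_cases i
      · exact h0
      · exact h1
    refine ⟨![0, -(δ * w 1)⁻¹], ?_⟩
    have : betaK δ w ![0, -(δ * w 1)⁻¹] = 1 := by
      unfold betaK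
      simp only [Matrix.cons_val_zero, Matrix.cons_val_one, mul_zero, zero_sub]
      have h3 : δ * w 1 ≠ 0 := mul_ne_zero hM.hδ h1
      rw [mul_neg, neg_neg, mul_inv_cancel₀ h3]
    rw [this]
    exact hM.hℓ
  · refine ⟨![(w 0)⁻¹, 0], ?_⟩
    have : betaK δ w ![(w 0)⁻¹, 0] = 1 := by
      unfold betaK
      simp only [Matrix.cons_val_zero, Matrix.cons_val_one, mul_zero, sub_zero]
      exact mul_inv_cancel₀ h0
    rw [this]
    exact hM.hℓ

theorem IsModel.injective (hM : IsModel B δ ℓ Φ) : Function.Injective Φ := by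
  rw [← LinearMap.ker_eq_bot, LinearMap.ker_eq_bot']
  intro w hw
  by_contra hne
  obtain ⟨w', hw'⟩ := hM.sep w hne
  apply hw'
  rw [← hM.hΦ, hw, map_zero, LinearMap.zero_apply]

theorem IsModel.nonDegS (hM : IsModel B δ ℓ Φ) : NonDegS B (LinearMap.range Φ) := by
  rintro _ ⟨w, rfl⟩ h
  by_contra hne
  have hw : w ≠ 0 := by
    rintro rfl
    exact hne (map_zero Φ)
  obtain ⟨w', hw'⟩ := hM.sep w hw
  apply hw'
  rw [← hM.hΦ]
  exact h _ ⟨w', rfl⟩

theorem isCompl_of_nonDegS (hB : B.IsSymm) {P : Submodule F V} (hP : NonDegS B P) :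
    IsCompl P (B.orthogonal P) := by
  apply LinearMap.BilinForm.isCompl_orthogonal_of_restrict_nondegenerate hB.isRefl
  apply LinearMap.BilinForm.nondegenerate_restrict_of_disjoint_orthogonal B hB.isRefl
  rw [Submodule.disjoint_def]
  intro x hx hx'
  apply hP x hx
  intro w hw
  rw [hB.eq]
  exact hx' w hw

theorem IsModel.finrank_range (hM : IsModel B δ ℓ Φ) :
    finrank F (LinearMap.range Φ) = 2 * finrank F K := by
  rw [LinearMap.finrank_range_of_inj hM.injective, Module.finrank_pi_fintype]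
  simp

variable (hB : B.IsSymm)

include hB

/-- the extension of the matrix `M` (acting through `Φ`) by the identity -/
noncomputable def extM (hM : IsModel B δ ℓ Φ) (M : Matrix (Fin 2) (Fin 2) K) : Module.End F V :=
  LinearMap.ofIsCompl (isCompl_of_nonDegS hB hM.nonDegS)
    ((LinearMap.range Φ).subtype ∘ₗ
      (((LinearEquiv.ofInjective Φ hM.injective : (Fin 2 → K) ≃ₗ[F] LinearMap.range Φ) :
          (Fin 2 → K) →ₗ[F] LinearMap.range Φ) ∘ₗ
        ((Matrix.toLin' M).restrictScalars F) ∘ₗ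
        ((LinearEquiv.ofInjective Φ hM.injective).symm :
          LinearMap.range Φ →ₗ[F] (Fin 2 → K))))
    (B.orthogonal (LinearMap.range Φ)).subtype

theorem extM_apply (hM : IsModel B δ ℓ Φ) (M : Matrix (Fin 2) (Fin 2) K) (w : Fin 2 → K) :
    extM hB hM M (Φ w) = Φ (M.mulVec w) := by
  have h1 : (Φ w) = ((⟨Φ w, ⟨w, rfl⟩⟩ : LinearMap.range Φ) : V) := rfl
  unfold extM
  rw [h1, LinearMap.ofIsCompl_apply_left]
  have h2 : (LinearEquiv.ofInjective Φ hM.injective).symm ⟨Φ w, ⟨w, rfl⟩⟩ = w := by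
    rw [LinearEquiv.symm_apply_eq]
    apply Subtype.ext
    rfl
  simp only [LinearMap.comp_apply, LinearEquiv.coe_coe, h2, LinearMap.restrictScalars_apply,
    Matrix.toLin'_apply, Submodule.subtype_apply, LinearEquiv.ofInjective_apply]

theorem extM_perp (hM : IsModel B δ ℓ Φ) (M : Matrix (Fin 2) (Fin 2) K) (x : V)
    (hx : x ∈ B.orthogonal (LinearMap.range Φ)) : extM hB hM M x = x := by
  have h1 : x = ((⟨x, hx⟩ : B.orthogonal (LinearMap.range Φ)) : V) := rfl
  unfold extM
  rw [h1, LinearMap.ofIsCompl_apply_right]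
  rfl

theorem extM_det (hM : IsModel B δ ℓ Φ) (M : Matrix (Fin 2) (Fin 2) K) :
    LinearMap.det (extM hB hM M) = Algebra.norm F M.det := by
  unfold extM
  rw [det_ofIsCompl_subtype, LinearMap.det_conj, LinearMap.det_restrictScalars,
    LinearMap.det_toLin']

/-- every vector is a sum of a vector of the piece and one of its orthogonal complement -/
theorem IsModel.decomp (hM : IsModel B δ ℓ Φ) (a : V) :
    ∃ w : Fin 2 → K, ∃ q ∈ B.orthogonal (LinearMap.range Φ), a = Φ w + q := by
  have hc := isCompl_of_nonDegS hB hM.nonDegS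
  have h1 : a ∈ LinearMap.range Φ ⊔ B.orthogonal (LinearMap.range Φ) := by
    rw [hc.sup_eq_top]; trivial
  obtain ⟨p, ⟨w, rfl⟩, q, hq, rfl⟩ := Submodule.mem_sup.1 h1
  exact ⟨w, q, hq, rfl⟩

theorem extM_commute (hM : IsModel B δ ℓ Φ) (M N : Matrix (Fin 2) (Fin 2) K)
    (T : Module.End F V) (hT : ∀ w, T (Φ w) = Φ (N.mulVec w))
    (hT' : ∀ x ∈ B.orthogonal (LinearMap.range Φ), T x ∈ B.orthogonal (LinearMap.range Φ))
    (hNM : N * M = M * N) : Commute (extM hB hM M) T := by
  apply LinearMap.ext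
  intro a
  obtain ⟨w, q, hq, rfl⟩ := hM.decomp hB a
  rw [Module.End.mul_apply, Module.End.mul_apply, map_add, map_add, map_add, map_add, hT,
    extM_apply, extM_apply, hT, extM_perp hB hM M q hq, extM_perp hB hM M (T q) (hT' q hq),
    Matrix.mulVec_mulVec, Matrix.mulVec_mulVec, hNM]

theorem extM_form (hM : IsModel B δ ℓ Φ) (M : Matrix (Fin 2) (Fin 2) K) (w w' : Fin 2 → K) :
    B (extM hB hM M (Φ w)) (extM hB hM M (Φ w')) = ℓ (betaK δ (M.mulVec w) (M.mulVec w')) := by
  rw [extM_apply, extM_apply, hM.hΦ]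

theorem extM_mem (hM : IsModel B δ ℓ Φ) (M : Matrix (Fin 2) (Fin 2) K) (u : V)
    (hu : u ∈ LinearMap.range Φ) : extM hB hM M u ∈ LinearMap.range Φ := by
  obtain ⟨w, rfl⟩ := hu
  rw [extM_apply]
  exact ⟨_, rfl⟩

/-- `extM` of a norm-one element is an isometry of `V` -/
theorem extM_isometry (hM : IsModel B δ ℓ Φ) (x y : K) (hxy : x ^ 2 - δ * y ^ 2 = 1)
    (a a' : V) : B (extM hB hM (qm δ x y) a) (extM hB hM (qm δ x y) a') = B a a' := by
  obtain ⟨w, q, hq, rfl⟩ := hM.decomp hB a
  obtain ⟨w', q', hq', rfl⟩ := hM.decomp hB a'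
  have hmem : ∀ z : Fin 2 → K, Φ z ∈ LinearMap.range Φ := fun z => ⟨z, rfl⟩
  have e1 : ∀ z : Fin 2 → K, B (Φ z) q' = 0 := fun z => hq' _ (hmem z)
  have e2 : ∀ z : Fin 2 → K, B q (Φ z) = 0 := fun z => by rw [hB.eq]; exact hq _ (hmem z)
  simp only [map_add, LinearMap.add_apply, extM_apply, extM_perp hB hM _ q hq,
    extM_perp hB hM _ q' hq', e1, e2, hM.hΦ]
  rw [betaK_qm, hxy, one_mul]

end model

end Cfsg.Agent.Lib.H7AutPM
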