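import Cfsg.Agent.Lib.Helper7.AutPM.SsB
import Mathlib

/-!
# Finite-field input for rank-one pieces (helper7)

Conics over finite fields, norms and squares, the discriminant of a transferred form.
-/

set_option autoImplicit false
set_option linter.unusedSectionVars false

namespace Cfsg.Agent.Lib.H7AutPM

open Polynomial Module Matrix
open scoped Kronecker

section finfield

variable {K : Type*} [Field K] [Fintype K]

theorem ringChar_ne_two' {R : Type*} [Field R] (h2 : (2 : R) ≠ 0) : ringChar R ≠ 2 := by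
  intro h
  apply h2
  have := ringChar.Nat.cast_ringChar (R := R)
  rw [h] at this
  exact_mod_cast this

/-- a nondegenerate conic over a finite field of odd order represents everything -/
theorem conic_solvable (hodd : Fintype.card K % 2 = 1) (δ n : K) (hδ : δ ≠ 0) :
    ∃ x y : K, x ^ 2 - δ * y ^ 2 = n := by
  have hf : degree (X ^ 2 - C n : K[X]) = 2 := degree_X_pow_sub_C (by norm_num) n
  have hg : degree (C (-δ) * X ^ 2 : K[X]) = 2 := by
    rw [degree_C_mul_X_pow 2 (neg_ne_zero.2 hδ)]; rfl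
  obtain ⟨a, b, hab⟩ := FiniteField.exists_root_sum_quadratic hf hg hodd
  refine ⟨a, b, ?_⟩
  simp only [eval_sub, eval_pow, eval_X, eval_C, eval_mul] at hab
  linear_combination hab

variable {F : Type*} [Field F] [Fintype F] [Algebra F K]

theorem card_odd_of_two_ne_zero {R : Type*} [Field R] [Fintype R] (h2 : (2 : R) ≠ 0) :
    Fintype.card R % 2 = 1 :=
  FiniteField.odd_card_of_char_ne_two (ringChar_ne_two' h2)

theorem two_ne_zero_ext (h2 : (2 : F) ≠ 0) : (2 : K) ≠ 0 := by
  intro h
  apply h2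
  apply (algebraMap F K).injective
  rw [map_ofNat, map_zero]
  exact h

/-- the norm detects squares -/
theorem isSquare_of_isSquare_norm (h2 : (2 : F) ≠ 0) (z : K) (hz : z ≠ 0)
    (h : IsSquare (Algebra.norm F z)) : IsSquare z := by
  have h2K : (2 : K) ≠ 0 := two_ne_zero_ext h2
  have hN0 : Algebra.norm F z ≠ 0 := by
    rw [Ne, Algebra.norm_eq_zero_iff]
    exact hz
  rw [FiniteField.isSquare_iff (ringChar_ne_two' h2) hN0] at h
  rw [FiniteField.isSquare_iff (ringChar_ne_two' h2K) hz]
  have h3 := congrArg (algebraMap F K) h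
  rw [map_pow, map_one, FiniteField.algebraMap_norm_eq_pow, ← pow_mul, Nat.card_eq_fintype_card,
    Nat.card_eq_fintype_card] at h3
  have hq := card_odd_of_two_ne_zero h2
  have hcard : Fintype.card K = Fintype.card F ^ finrank F K := Module.card_eq_pow_finrank
  have hdvd : Fintype.card F - 1 ∣ Fintype.card K - 1 := by
    rw [hcard]
    exact Nat.sub_one_dvd_pow_sub_one (Fintype.card F) (finrank F K)
  obtain ⟨k, hk⟩ := hdvd
  have hq1 : 1 < Fintype.card F := Fintype.one_lt_card
  have hQ1 : 1 < Fintype.card K := Fintype.one_lt_card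
  obtain ⟨j, hj⟩ : ∃ j, Fintype.card F = 2 * j + 1 := ⟨Fintype.card F / 2, by omega⟩
  have hj0 : 0 < j := by omega
  have e1 : (Fintype.card K - 1) / (Fintype.card F - 1) = k := by
    rw [hk]
    exact Nat.mul_div_cancel_left k (by omega)
  have e2 : Fintype.card F / 2 = j := by omega
  have e3 : Fintype.card K / 2 = k * j := by
    have : Fintype.card K - 1 = 2 * (k * j) := by
      rw [hk, hj]
      have : 2 * j + 1 - 1 = 2 * j := by omega
      rw [this]; ring
    omega
  rw [e1, e2] at h3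
  rw [e3]
  exact h3

end finfield

section transfer

variable {F : Type*} [Field F] {K : Type*} [Field K] [Algebra F K] {e : ℕ}

/-- the Gram matrix of the transfer `ℓ (z z')` of the multiplication of `K` -/
noncomputable def gramL (b : Basis (Fin e) F K) (ℓ : K →ₗ[F] F) : Matrix (Fin e) (Fin e) F :=
  Matrix.of fun a c => ℓ (b a * b c)

theorem gramL_det_ne_zero (b : Basis (Fin e) F K) (ℓ : K →ₗ[F] F) (hℓ : ℓ 1 ≠ 0) :
    (gramL b ℓ).det ≠ 0 := by
  intro hdet
  obtain ⟨x, hx0, hx⟩ := Matrix.exists_mulVec_eq_zero_iff.2 hdet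
  set z : K := ∑ c, x c • b c with hz
  have hz0 : z ≠ 0 := by
    intro h
    apply hx0
    have := Fintype.linearIndependent_iff.1 b.linearIndependent x h
    funext i
    exact this i
  have h1 : ∀ a, ℓ (b a * z) = 0 := by
    intro a
    have h2 := congrFun hx a
    rw [Matrix.mulVec, dotProduct] at h2
    simp only [gramL, Matrix.of_apply, Pi.zero_apply] at h2
    rw [hz, Finset.mul_sum, map_sum]
    rw [← h2]
    apply Finset.sum_congr rfl
    intro c _
    rw [mul_smul_comm, map_smul, smul_eq_mul, mul_comm]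
  have h2 : ∀ y : K, ℓ (y * z) = 0 := by
    intro y
    rw [← b.sum_repr y, Finset.sum_mul, map_sum]
    apply Finset.sum_eq_zero
    intro a _
    rw [smul_mul_assoc, map_smul, h1, smul_zero]
  apply hℓ
  have := h2 z⁻¹
  rwa [inv_mul_cancel₀ hz0] at this

/-- **the discriminant of a transferred form** -/
theorem det_transfer (b : Basis (Fin e) F K) (ℓ : K →ₗ[F] F) (Γ : Matrix (Fin 2) (Fin 2) K) :
    (Matrix.of fun p q : Fin 2 × Fin e => ℓ (b p.2 * Γ p.1 q.1 * b q.2)).det =
      (gramL b ℓ).det ^ 2 * Algebra.norm F Γ.det := by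
  have h1 : (Matrix.of fun p q : Fin 2 × Fin e => ℓ (b p.2 * Γ p.1 q.1 * b q.2)) =
      ((1 : Matrix (Fin 2) (Fin 2) F) ⊗ₖ gramL b ℓ) *
        (Matrix.comp (Fin 2) (Fin 2) (Fin e) (Fin e) F
          (Γ.map (Algebra.leftMulMatrix b : K →ₐ[F] Matrix (Fin e) (Fin e) F).toRingHom)) := by
    ext p q
    have hC : ∀ r : Fin 2 × Fin e, (Matrix.comp (Fin 2) (Fin 2) (Fin e) (Fin e) F
          (Γ.map (Algebra.leftMulMatrix b : K →ₐ[F] Matrix (Fin e) (Fin e) F).toRingHom)) r q =
        ((Algebra.leftMulMatrix b : K →ₐ[F] Matrix (Fin e) (Fin e) F) (Γ r.1 q.1)) r.2 q.2 :=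
      fun r => rfl
    have hK : ∀ r : Fin 2 × Fin e, ((1 : Matrix (Fin 2) (Fin 2) F) ⊗ₖ gramL b ℓ) p r =
        (1 : Matrix (Fin 2) (Fin 2) F) p.1 r.1 * ℓ (b p.2 * b r.2) := fun r => rfl
    rw [Matrix.mul_apply, Matrix.of_apply]
    rw [Finset.sum_congr rfl (fun r _ => by rw [hK r, hC r])]
    rw [Fintype.sum_prod_type, Finset.sum_eq_single p.1]
    · show ℓ (b p.2 * Γ p.1 q.1 * b q.2) = ∑ y, (1 : Matrix (Fin 2) (Fin 2) F) p.1 p.1 *
          ℓ (b p.2 * b y) * (Algebra.leftMulMatrix b) (Γ p.1 q.1) y q.2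
      rw [Matrix.one_apply_eq]
      have h3 : ∀ c : Fin e, 1 * ℓ (b p.2 * b c) *
          ((Algebra.leftMulMatrix b : K →ₐ[F] Matrix (Fin e) (Fin e) F)
            (Γ p.1 q.1)) c q.2 =
          ℓ (b.repr (Γ p.1 q.1 * b q.2) c • (b p.2 * b c)) := by
        intro c
        rw [map_smul, smul_eq_mul, one_mul, mul_comm]
        congr 1
        exact Algebra.leftMulMatrix_eq_repr_mul b (Γ p.1 q.1) c q.2
      rw [Finset.sum_congr rfl (fun c _ => h3 c), ← map_sum]
      congr 1
      have h4 : ∀ c : Fin e, b.repr (Γ p.1 q.1 * b q.2) c • (b p.2 * b c) =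
          b p.2 * (b.repr (Γ p.1 q.1 * b q.2) c • b c) := fun c => by rw [mul_smul_comm]
      rw [Finset.sum_congr rfl (fun c _ => h4 c), ← Finset.mul_sum, b.sum_repr, mul_assoc]
    · intro k _ hk
      apply Finset.sum_eq_zero
      intro c _
      show (1 : Matrix (Fin 2) (Fin 2) F) p.1 k * ℓ (b p.2 * b c) *
          (Algebra.leftMulMatrix b) (Γ k q.1) c q.2 = 0
      rw [Matrix.one_apply_ne (fun h => hk h.symm), zero_mul, zero_mul]
    · intro h
      exact absurd (Finset.mem_univ _) h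
  rw [h1, Matrix.det_mul, Matrix.det_kronecker, Matrix.det_one, one_pow, one_mul,
    ← Matrix.det_det, Fintype.card_fin]
  congr 1
  exact (Algebra.norm_eq_matrix_det b _).symm

end transfer

end Cfsg.Agent.Lib.H7AutPM
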