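import Cfsg.Agent.Lib.Helper7.AutPM.SsC
import Mathlib

/-!
# Rank-one pieces: similarities and isometries of nontrivial spinor norm (helper7)
-/

set_option autoImplicit false
set_option linter.unusedSectionVars false
set_option linter.style.haveILetI false
set_option linter.unusedSimpArgs false

namespace Cfsg.Agent.Lib.H7AutPM

open Polynomial Module Matrix

section pieces

variable {F : Type*} [Field F] [Fintype F] {V : Type*} [AddCommGroup V] [Module F V]
  [FiniteDimensional F V] {B : LinearMap.BilinForm F V}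
  {K : Type*} [Field K] [Algebra F K] [FiniteDimensional F K]
  {δ : K} {ℓ : K →ₗ[F] F} {Φ : (Fin 2 → K) →ₗ[F] V}

/-- the class of operators which automatically commute with the extensions `extM (qm x y)` -/
def Compat (B : LinearMap.BilinForm F V) (δ : K) (Φ : (Fin 2 → K) →ₗ[F] V)
    (T : Module.End F V) : Prop :=
  (∃ N : Matrix (Fin 2) (Fin 2) K, (∀ w, T (Φ w) = Φ (N.mulVec w)) ∧
    ∀ x y : K, N * qm δ x y = qm δ x y * N) ∧
  ∀ x ∈ B.orthogonal (LinearMap.range Φ), T x ∈ B.orthogonal (LinearMap.range Φ)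

/-- **similarities on a rank-one piece** -/
theorem model_piece_sim (hB : B.IsSymm) (hM : IsModel B δ ℓ Φ) (h2 : (2 : F) ≠ 0) (μ : F) :
    ∃ g : Module.End F V,
      (∀ u ∈ LinearMap.range Φ, g u ∈ LinearMap.range Φ) ∧
      (∀ x ∈ B.orthogonal (LinearMap.range Φ), g x = x) ∧
      (∀ u ∈ LinearMap.range Φ, ∀ u' ∈ LinearMap.range Φ, B (g u) (g u') = μ * B u u') ∧
      LinearMap.det g = μ ^ finrank F K ∧
      ∀ T : Module.End F V, Compat B δ Φ T → Commute g T := by
  classical
  haveI : Finite K := Module.finite_of_finite F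
  letI : Fintype K := Fintype.ofFinite K
  have h2K : (2 : K) ≠ 0 := two_ne_zero_ext h2
  obtain ⟨x, y, hxy⟩ := conic_solvable (card_odd_of_two_ne_zero h2K) δ (algebraMap F K μ) hM.hδ
  refine ⟨extM hB hM (qm δ x y), fun u hu => extM_mem hB hM _ u hu,
    fun z hz => extM_perp hB hM _ z hz, ?_, ?_, ?_⟩
  · rintro _ ⟨w, rfl⟩ _ ⟨w', rfl⟩
    rw [extM_form, betaK_qm, hxy, hM.hΦ, ← Algebra.smul_def, map_smul, smul_eq_mul]
  · rw [extM_det, qm_det, hxy, Algebra.norm_algebraMap]
  · rintro T ⟨⟨N, hN, hNq⟩, hT'⟩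
    exact extM_commute hB hM _ N T hN hT' (hNq x y)

/-- the `K`-Gram matrix of the Wall form of `x + y c` -/
def wallG (δ x y : K) : Matrix (Fin 2) (Fin 2) K := !![x - 1, δ * y; -(δ * y), -(δ * (x - 1))]

theorem wallG_det (x y : K) (hxy : x ^ 2 - δ * y ^ 2 = 1) :
    (wallG δ x y).det = 2 * δ * (x - 1) := by
  unfold wallG
  rw [Matrix.det_fin_two_of]
  linear_combination (-δ) * hxy

theorem betaK_single (x y : K) (i j : Fin 2) (z z' : K) :
    betaK δ (Pi.single i z) ((qm δ x y).mulVec (Pi.single j z') - Pi.single j z') =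
      z * wallG δ x y i j * z' := by
  unfold betaK qm wallG
  fin_cases i <;> fin_cases j <;>
    simp [Matrix.mulVec, dotProduct, Fin.sum_univ_two, Pi.single_apply] <;> ring

/-- **isometries with nontrivial spinor norm on a rank-one piece** -/
theorem model_piece_spin (hB : B.IsSymm) (hM : IsModel B δ ℓ Φ) (h2 : (2 : F) ≠ 0) :
    ∃ (hh : Module.End F V) (u : Fin 2 × Fin (finrank F K) → V),
      (∀ a a', B (hh a) (hh a') = B a a') ∧
      LinearMap.range (hh - 1) = LinearMap.range Φ ∧
      ¬ IsSquare (Matrix.det (Matrix.of fun p q => B (u p) (hh (u q) - u q))) ∧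
      ∀ T : Module.End F V, Compat B δ Φ T → Commute hh T := by
  classical
  haveI : Finite K := Module.finite_of_finite F
  letI : Fintype K := Fintype.ofFinite K
  have h2K : (2 : K) ≠ 0 := two_ne_zero_ext h2
  have hδ := hM.hδ
  obtain ⟨n₀, hn₀⟩ := FiniteField.exists_nonsquare (ringChar_ne_two' h2K)
  have hn0 : n₀ ≠ 0 := by
    rintro rfl
    exact hn₀ ⟨0, by ring⟩
  obtain ⟨a, b, hab⟩ := conic_solvable (card_odd_of_two_ne_zero h2K) δ n₀ hδ
  have hb0 : b ≠ 0 := by
    rintro rfl
    apply hn₀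
    exact ⟨a, by rw [← hab]; ring⟩
  set x : K := (a ^ 2 + δ * b ^ 2) / n₀ with hx
  set y : K := 2 * a * b / n₀ with hy
  have hxy : x ^ 2 - δ * y ^ 2 = 1 := by
    rw [hx, hy]
    field_simp
    rw [← hab]
    ring
  have hx1 : x - 1 = 2 * δ * b ^ 2 / n₀ := by
    rw [hx]
    field_simp
    rw [← hab]
    ring
  have hns : ¬ IsSquare (2 * δ * (x - 1)) := by
    rintro ⟨s, hs⟩
    apply hn₀
    have hs0 : s ≠ 0 := by
      rintro rfl
      rw [hx1] at hs
      have : 2 * δ * (2 * δ * b ^ 2 / n₀) ≠ 0 := by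
        apply mul_ne_zero (mul_ne_zero h2K hδ)
        exact div_ne_zero (mul_ne_zero (mul_ne_zero h2K hδ) (pow_ne_zero 2 hb0)) hn0
      apply this
      rw [hs]; ring
    refine ⟨2 * δ * b / s, ?_⟩
    rw [hx1] at hs
    have h5 : n₀ * (s * s) = (2 * δ * b) * (2 * δ * b) := by
      rw [← hs]
      field_simp
    rw [div_mul_div_comm, eq_div_iff (mul_ne_zero hs0 hs0)]
    exact h5
  have hdet0 : (wallG δ x y).det ≠ 0 := by
    rw [wallG_det x y hxy]
    intro h
    apply hns
    rw [h]
    exact ⟨0, by ring⟩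
  set bK : Basis (Fin (finrank F K)) F K := Module.finBasis F K with hbK
  set M := qm δ x y with hMdef
  refine ⟨extM hB hM M, fun p => Φ (Pi.single p.1 (bK p.2)),
    fun a a' => extM_isometry hB hM x y hxy a a', ?_, ?_, ?_⟩
  · -- the range of `hh - 1`
    have hM1 : (M - 1).det ≠ 0 := by
      have : M - 1 = qm δ (x - 1) y := by
        rw [hMdef]
        unfold qm
        ext i j
        fin_cases i <;> fin_cases j <;> simp
      rw [this, qm_det]
      intro h
      apply hns
      have : 2 * δ * (x - 1) = 0 := by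
        have h3 : (x - 1) ^ 2 - δ * y ^ 2 = 2 - 2 * x := by linear_combination hxy
        rw [h3] at h
        have h4 : (2 : K) * (1 - x) = 0 := by linear_combination h
        have : x - 1 = 0 := by
          rcases mul_eq_zero.1 h4 with h5 | h5
          · exact absurd h5 h2K
          · linear_combination -h5
        rw [this, mul_zero]
      rw [this]
      exact ⟨0, by ring⟩
    apply le_antisymm
    · rintro _ ⟨a, rfl⟩
      obtain ⟨w, q, hq, rfl⟩ := hM.decomp hB a
      rw [LinearMap.sub_apply, Module.End.one_apply, map_add, extM_apply,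
        extM_perp hB hM M q hq]
      refine ⟨M.mulVec w - w, ?_⟩
      rw [map_sub]
      abel
    · rintro _ ⟨w, rfl⟩
      refine ⟨Φ ((M - 1)⁻¹.mulVec w), ?_⟩
      rw [LinearMap.sub_apply, Module.End.one_apply, extM_apply, ← map_sub]
      congr 1
      have h3 : M.mulVec ((M - 1)⁻¹.mulVec w) - (M - 1)⁻¹.mulVec w =
          (M - 1).mulVec ((M - 1)⁻¹.mulVec w) := by
        rw [Matrix.sub_mulVec, Matrix.one_mulVec]
      rw [h3, Matrix.mulVec_mulVec, Matrix.mul_nonsing_inv _ (Ne.isUnit hM1), Matrix.one_mulVec]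
  · -- the Wall discriminant
    have hW : (Matrix.of fun p q : Fin 2 × Fin (finrank F K) =>
        B (Φ (Pi.single p.1 (bK p.2)))
          (extM hB hM M (Φ (Pi.single q.1 (bK q.2))) - Φ (Pi.single q.1 (bK q.2)))) =
        Matrix.of fun p q : Fin 2 × Fin (finrank F K) =>
          ℓ (bK p.2 * wallG δ x y p.1 q.1 * bK q.2) := by
      ext p q
      rw [Matrix.of_apply, Matrix.of_apply, extM_apply, ← map_sub, hM.hΦ, hMdef, betaK_single]
    rw [hW, det_transfer]
    intro hsq
    have hL := gramL_det_ne_zero bK ℓ hM.hℓ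
    have hsq2 : IsSquare (Algebra.norm F (wallG δ x y).det) := by
      obtain ⟨s, hs⟩ := hsq
      refine ⟨s / (gramL bK ℓ).det, ?_⟩
      field_simp
      linear_combination hs
    have := isSquare_of_isSquare_norm h2 _ hdet0 hsq2
    rw [wallG_det x y hxy] at this
    exact hns this
  · rintro T ⟨⟨N, hN, hNq⟩, hT'⟩
    exact extM_commute hB hM _ N T hN hT' (hNq x y)

end pieces

end Cfsg.Agent.Lib.H7AutPM
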