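import Cfsg.Agent.Lib.Helper7.AutPM.SsD
import Mathlib

/-!
# Rank-one pieces from an irreducible annihilator (helper7)

Given a self-adjoint `t`, a skew-adjoint `c` commuting with `t`, `c² = t² - 4`, an irreducible monic
`h` and an anisotropic `v` with `h(t) v = 0`, `c² v ≠ 0`: a model over `K = F[X]/(h)`.
-/

set_option autoImplicit false
set_option linter.unusedSectionVars false
set_option linter.style.haveILetI false

namespace Cfsg.Agent.Lib.H7AutPM

open Polynomial Module

section commute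

variable {F : Type*} [Field F] {V : Type*} [AddCommGroup V] [Module F V]

theorem commute_aeval_of_commute {c t : Module.End F V} (h : Commute c t) (p : F[X]) :
    Commute c (aeval t p) := by
  induction p using Polynomial.induction_on' with
  | add p q hp hq => rw [map_add]; exact hp.add_right hq
  | monomial n a =>
    rw [aeval_monomial]
    exact (Algebra.commute_algebraMap_right a c).mul_right (h.pow_right n)

end commute

section provider

variable {F : Type*} [Field F] {V : Type*} [AddCommGroup V] [Module F V]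
  {B : LinearMap.BilinForm F V} {t c : Module.End F V} {h : F[X]} [Fact (Irreducible h)]

/-- `z ↦ z(t) v` on `F[X]/(h)` -/
noncomputable def phiK (t : Module.End F V) (hmonic : h.Monic) (v : V) : AdjoinRoot h →ₗ[F] V :=
  (LinearMap.applyₗ v ∘ₗ (aeval t : F[X] →ₐ[F] Module.End F V).toLinearMap) ∘ₗ
    AdjoinRoot.modByMonicHom hmonic

theorem phiK_mk (hmonic : h.Monic) {v : V} (hv : aeval t h v = 0) (p : F[X]) :
    phiK t hmonic v (AdjoinRoot.mk h p) = aeval t p v := by
  unfold phiK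
  rw [LinearMap.comp_apply, AdjoinRoot.modByMonicHom_mk, LinearMap.comp_apply,
    AlgHom.toLinearMap_apply, LinearMap.applyₗ_apply_apply]
  conv_rhs => rw [← Polynomial.modByMonic_add_div p h]
  rw [map_add, LinearMap.add_apply, mul_comm, map_mul, Module.End.mul_apply, hv, map_zero,
    add_zero]

theorem aeval_phiK (hmonic : h.Monic) {v : V} (hv : aeval t h v = 0) (p : F[X])
    (z : AdjoinRoot h) :
    aeval t p (phiK t hmonic v z) = phiK t hmonic v (AdjoinRoot.mk h p * z) := by
  obtain ⟨q, rfl⟩ := AdjoinRoot.mk_surjective z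
  rw [← map_mul, phiK_mk hmonic hv, phiK_mk hmonic hv, map_mul, Module.End.mul_apply]

theorem phiK_one (hmonic : h.Monic) {v : V} (hv : aeval t h v = 0) :
    phiK t hmonic v 1 = v := by
  have := phiK_mk hmonic hv 1
  have e1 : AdjoinRoot.mk h (1 : F[X]) = 1 := map_one _
  have e2 : aeval t (1 : F[X]) = 1 := map_one _
  rwa [e1, e2, Module.End.one_apply] at this

/-- the functional `z ↦ B (z v) v` -/
noncomputable def ellK (B : LinearMap.BilinForm F V) (t : Module.End F V) (hmonic : h.Monic)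
    (v : V) : AdjoinRoot h →ₗ[F] F :=
  (B.flip v) ∘ₗ phiK t hmonic v

theorem ellK_apply (hmonic : h.Monic) (v : V) (z : AdjoinRoot h) :
    ellK B t hmonic v z = B (phiK t hmonic v z) v := rfl

/-- the map `K² → V`, `(w₀, w₁) ↦ w₀ v + c (w₁ v)` -/
noncomputable def PhiK (t c : Module.End F V) (hmonic : h.Monic) (v : V) :
    (Fin 2 → AdjoinRoot h) →ₗ[F] V :=
  phiK t hmonic v ∘ₗ (LinearMap.proj (R := F) (ι := Fin 2) (φ := fun _ => AdjoinRoot h) 0) +
    c ∘ₗ phiK t hmonic v ∘ₗ
      (LinearMap.proj (R := F) (ι := Fin 2) (φ := fun _ => AdjoinRoot h) 1)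

theorem PhiK_apply (hmonic : h.Monic) (v : V) (w : Fin 2 → AdjoinRoot h) :
    PhiK t c hmonic v w = phiK t hmonic v (w 0) + c (phiK t hmonic v (w 1)) := rfl

variable (hB : B.IsSymm) (h2 : (2 : F) ≠ 0) (ht : SelfAdj B t) (hc : SkewAdj B c)
  (htc : Commute t c) (hcc : c * c = t * t - 4) (hmonic : h.Monic) {v : V}
  (hv : aeval t h v = 0)

include hB h2 ht hc htc hv in
theorem phiK_cross (z z' : AdjoinRoot h) :
    B (phiK t hmonic v z) (c (phiK t hmonic v z')) = 0 := by
  obtain ⟨p, rfl⟩ := AdjoinRoot.mk_surjective z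
  obtain ⟨q, rfl⟩ := AdjoinRoot.mk_surjective z'
  rw [phiK_mk hmonic hv, phiK_mk hmonic hv]
  have hcomm : ∀ r : F[X], ∀ u, c (aeval t r u) = aeval t r (c u) := by
    intro r u
    have := commute_aeval_of_commute htc.symm r
    rw [← Module.End.mul_apply, this.eq, Module.End.mul_apply]
  rw [hcomm, ← selfAdj_aeval ht q, ← Module.End.mul_apply, ← map_mul]
  -- `B (r(t) v) (c v) = 0`
  have key : ∀ r : F[X], B (aeval t r v) (c v) = 0 := by
    intro r
    have h1 : B (aeval t r v) (c v) = - B (aeval t r v) (c v) := by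
      conv_lhs => rw [← neg_neg (B (aeval t r v) (c v)), ← hc, hcomm, selfAdj_aeval ht r, hB.eq]
    have h3 : (2 : F) * B (aeval t r v) (c v) = 0 := by linear_combination h1
    rcases mul_eq_zero.1 h3 with h4 | h4
    · exact absurd h4 h2
    · exact h4
  exact key _

include ht hv in
theorem phiK_form (z z' : AdjoinRoot h) :
    B (phiK t hmonic v z) (phiK t hmonic v z') = ellK B t hmonic v (z * z') := by
  obtain ⟨p, rfl⟩ := AdjoinRoot.mk_surjective z
  obtain ⟨q, rfl⟩ := AdjoinRoot.mk_surjective z'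
  rw [ellK_apply, ← map_mul, phiK_mk hmonic hv, phiK_mk hmonic hv, phiK_mk hmonic hv,
    ← selfAdj_aeval ht q, ← Module.End.mul_apply, ← map_mul, mul_comm]

include hcc hv in
theorem cc_phiK (z : AdjoinRoot h) :
    c (c (phiK t hmonic v z)) =
      phiK t hmonic v (AdjoinRoot.mk h (X ^ 2 - C 4) * z) := by
  rw [← aeval_phiK hmonic hv, ← Module.End.mul_apply, hcc]
  congr 1
  rw [map_sub, map_pow, aeval_X, aeval_C, pow_two, map_ofNat]

include hB h2 ht hc htc hcc hv in
theorem PhiK_form (w w' : Fin 2 → AdjoinRoot h) :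
    B (PhiK t c hmonic v w) (PhiK t c hmonic v w') =
      ellK B t hmonic v (betaK (AdjoinRoot.mk h (X ^ 2 - C 4)) w w') := by
  rw [PhiK_apply, PhiK_apply]
  have e1 : B (phiK t hmonic v (w 0)) (phiK t hmonic v (w' 0)) =
      ellK B t hmonic v (w 0 * w' 0) := phiK_form ht hmonic hv _ _
  have e2 : B (phiK t hmonic v (w 0)) (c (phiK t hmonic v (w' 1))) = 0 :=
    phiK_cross hB h2 ht hc htc hmonic hv _ _
  have e3 : B (c (phiK t hmonic v (w 1))) (phiK t hmonic v (w' 0)) = 0 := by
    rw [hc, phiK_cross hB h2 ht hc htc hmonic hv, neg_zero]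
  have e4 : B (c (phiK t hmonic v (w 1))) (c (phiK t hmonic v (w' 1))) =
      - ellK B t hmonic v (w 1 * (AdjoinRoot.mk h (X ^ 2 - C 4) * w' 1)) := by
    rw [hc, cc_phiK hcc hmonic hv, phiK_form ht hmonic hv]
  simp only [map_add, LinearMap.add_apply]
  rw [e1, e2, e3, e4]
  unfold betaK
  obtain ⟨δ, hδ⟩ : ∃ δ, δ = AdjoinRoot.mk h (X ^ 2 - C 4) := ⟨_, rfl⟩
  rw [← hδ, map_sub]
  have : w 1 * (δ * w' 1) = δ * w 1 * w' 1 := by ring
  rw [this]
  ring

include hB h2 ht hc htc hcc hv in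
/-- **the model attached to an irreducible annihilator** -/
theorem isModel_PhiK (hvv : B v v ≠ 0) (hcv : c (c v) ≠ 0) :
    IsModel B (AdjoinRoot.mk h (X ^ 2 - C 4)) (ellK B t hmonic v) (PhiK t c hmonic v) := by
  refine ⟨?_, ?_, PhiK_form hB h2 ht hc htc hcc hmonic hv⟩
  · intro h0
    apply hcv
    have := cc_phiK hcc hmonic hv (1 : AdjoinRoot h)
    rw [phiK_one hmonic hv, h0, zero_mul, map_zero] at this
    exact this
  · rw [ellK_apply, phiK_one hmonic hv]
    exact hvv

include htc hv in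
theorem t_PhiK (w : Fin 2 → AdjoinRoot h) :
    t (PhiK t c hmonic v w) =
      PhiK t c hmonic v ((AdjoinRoot.root h • (1 : Matrix (Fin 2) (Fin 2) (AdjoinRoot h))).mulVec w) := by
  have h1 : ∀ z : AdjoinRoot h, t (phiK t hmonic v z) = phiK t hmonic v (AdjoinRoot.root h * z) := by
    intro z
    have := aeval_phiK hmonic hv X z
    rwa [aeval_X, AdjoinRoot.mk_X] at this
  rw [Matrix.smul_mulVec, Matrix.one_mulVec, PhiK_apply, PhiK_apply, map_add, h1,
    ← Module.End.mul_apply, htc.eq, Module.End.mul_apply, h1]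
  rfl

include hcc hv in
theorem c_PhiK (w : Fin 2 → AdjoinRoot h) :
    c (PhiK t c hmonic v w) =
      PhiK t c hmonic v ((qm (AdjoinRoot.mk h (X ^ 2 - C 4)) 0 1).mulVec w) := by
  rw [PhiK_apply, PhiK_apply, map_add, cc_phiK hcc hmonic hv, add_comm]
  unfold qm
  congr 2
  · simp [Matrix.mulVec, dotProduct, Fin.sum_univ_two]
  · simp [Matrix.mulVec, dotProduct, Fin.sum_univ_two]

include ht htc hv in
theorem compat_t : Compat B (AdjoinRoot.mk h (X ^ 2 - C 4)) (PhiK t c hmonic v) t := by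
  refine ⟨⟨_, t_PhiK htc hmonic hv, ?_⟩, ?_⟩
  · intro x y
    rw [Matrix.smul_mul, Matrix.one_mul, Matrix.mul_smul, Matrix.mul_one]
  · intro x hx n hn
    obtain ⟨w, rfl⟩ := hn
    rw [← ht, t_PhiK htc hmonic hv]
    exact hx _ ⟨_, rfl⟩

include hc hcc hv in
theorem compat_c : Compat B (AdjoinRoot.mk h (X ^ 2 - C 4)) (PhiK t c hmonic v) c := by
  refine ⟨⟨_, c_PhiK hcc hmonic hv, ?_⟩, ?_⟩
  · intro x y
    exact qm_comm 0 1 x y
  · intro x hx n hn
    obtain ⟨w, rfl⟩ := hn
    have h1 := hc (PhiK t c hmonic v w) x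
    rw [c_PhiK hcc hmonic hv] at h1
    have h3 : B (PhiK t c hmonic v w) (c x) = - B (c (PhiK t c hmonic v w)) x := by
      rw [hc, neg_neg]
    rw [h3, c_PhiK hcc hmonic hv, hx _ ⟨_, rfl⟩, neg_zero]

theorem PhiK_range_le {U : Submodule F V} (hUt : ∀ u ∈ U, t u ∈ U) (hUc : ∀ u ∈ U, c u ∈ U)
    (hvU : v ∈ U) : LinearMap.range (PhiK t c hmonic v) ≤ U := by
  rintro _ ⟨w, rfl⟩
  have h1 : ∀ z : AdjoinRoot h, phiK t hmonic v z ∈ U := by
    intro z
    unfold phiK
    simp only [LinearMap.comp_apply, AlgHom.toLinearMap_apply, LinearMap.applyₗ_apply_apply]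
    exact aeval_mem_of_inv hUt _ v hvU
  rw [PhiK_apply]
  exact U.add_mem (h1 _) (hUc _ (h1 _))

end provider

end Cfsg.Agent.Lib.H7AutPM
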