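import Cfsg.Agent.Lib.Helper7.AutPM.SsE
import Mathlib

/-!
# Rank-one pieces inside an invariant nondegenerate subspace (helper7)
-/

set_option autoImplicit false
set_option linter.unusedSectionVars false
set_option linter.style.haveILetI false

namespace Cfsg.Agent.Lib.H7AutPM

open Polynomial Module

section pieces

variable {F : Type*} [Field F] [Fintype F] {V : Type*} [AddCommGroup V] [Module F V]
  [FiniteDimensional F V] {B : LinearMap.BilinForm F V} {t c : Module.End F V}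

/-- the data common to both kinds of pieces: an irreducible annihilator of an anisotropic vector
on which `c²` does not vanish -/
theorem exists_piece_data (hB : B.IsSymm) (h2 : (2 : F) ≠ 0) (ht : SelfAdj B t)
    (hsq : Squarefree (minpoly F t)) (U : Submodule F V) (hUt : ∀ u ∈ U, t u ∈ U)
    (hUc : ∀ u ∈ U, c u ∈ U) (hUnd : NonDegS B U) (hU0 : U ≠ ⊥)
    (hcinj : ∀ u ∈ U, c u = 0 → u = 0) :
    ∃ h : F[X], h.Monic ∧ Irreducible h ∧ ∃ v ∈ U, aeval t h v = 0 ∧ B v v ≠ 0 ∧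
      c (c v) ≠ 0 := by
  obtain ⟨v0, hv0, hvv0⟩ := exists_aniso hB h2 hUnd hU0
  have hint : IsIntegral F t := Algebra.IsIntegral.isIntegral t
  obtain ⟨h, hmonic, hirr, v, hv, hhv, hvv⟩ :=
    exists_irred_aniso ht hUt _ (minpoly F t) (minpoly.monic hint) hsq rfl v0 hv0
      (by rw [minpoly.aeval, LinearMap.zero_apply]) hvv0
  refine ⟨h, hmonic, hirr, v, hv, hhv, hvv, ?_⟩
  intro h0
  have h1 := hcinj (c v) (hUc v hv) h0
  have h3 := hcinj v hv h1
  rw [h3, map_zero] at hvv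
  exact hvv rfl

/-- **a rank-one piece with a similarity of multiplier `μ`** -/
theorem piece_sim (hB : B.IsSymm) (h2 : (2 : F) ≠ 0) (ht : SelfAdj B t) (hc : SkewAdj B c)
    (htc : Commute t c) (hcc : c * c = t * t - 4) (hsq : Squarefree (minpoly F t))
    (U : Submodule F V) (hUt : ∀ u ∈ U, t u ∈ U) (hUc : ∀ u ∈ U, c u ∈ U) (hUnd : NonDegS B U)
    (hU0 : U ≠ ⊥) (hcinj : ∀ u ∈ U, c u = 0 → u = 0) (μ : F) :
    ∃ (P : Submodule F V) (g : Module.End F V) (e : ℕ), P ≤ U ∧ 0 < e ∧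
      finrank F P = 2 * e ∧ NonDegS B P ∧ (∀ u ∈ P, t u ∈ P) ∧ (∀ u ∈ P, c u ∈ P) ∧
      (∀ u ∈ P, g u ∈ P) ∧ (∀ x ∈ B.orthogonal P, g x = x) ∧
      (∀ u ∈ P, ∀ u' ∈ P, B (g u) (g u') = μ * B u u') ∧ LinearMap.det g = μ ^ e ∧
      Commute g t ∧ Commute g c := by
  obtain ⟨h, hmonic, hirr, v, hv, hhv, hvv, hcv⟩ :=
    exists_piece_data hB h2 ht hsq U hUt hUc hUnd hU0 hcinj
  haveI : Fact (Irreducible h) := ⟨hirr⟩
  haveI : Module.Finite F (AdjoinRoot h) := hmonic.finite_adjoinRoot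
  have hM := isModel_PhiK hB h2 ht hc htc hcc hmonic hhv hvv hcv
  obtain ⟨g, hg1, hg2, hg3, hg4, hg5⟩ := model_piece_sim hB hM h2 μ
  refine ⟨LinearMap.range (PhiK t c hmonic v), g, finrank F (AdjoinRoot h),
    PhiK_range_le hmonic hUt hUc hv, Module.finrank_pos, hM.finrank_range, hM.nonDegS, ?_, ?_,
    hg1, hg2, hg3, hg4, hg5 t (compat_t ht htc hmonic hhv), hg5 c (compat_c hc hcc hmonic hhv)⟩
  · rintro _ ⟨w, rfl⟩
    rw [t_PhiK htc hmonic hhv]
    exact ⟨_, rfl⟩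
  · rintro _ ⟨w, rfl⟩
    rw [c_PhiK hcc hmonic hhv]
    exact ⟨_, rfl⟩

/-- **a rank-one piece with an isometry of nontrivial spinor norm** -/
theorem piece_spin (hB : B.IsSymm) (h2 : (2 : F) ≠ 0) (ht : SelfAdj B t) (hc : SkewAdj B c)
    (htc : Commute t c) (hcc : c * c = t * t - 4) (hsq : Squarefree (minpoly F t))
    (U : Submodule F V) (hUt : ∀ u ∈ U, t u ∈ U) (hUc : ∀ u ∈ U, c u ∈ U) (hUnd : NonDegS B U)
    (hU0 : U ≠ ⊥) (hcinj : ∀ u ∈ U, c u = 0 → u = 0) :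
    ∃ (P : Submodule F V) (hh : Module.End F V) (e : ℕ) (u : Fin 2 × Fin e → V), P ≤ U ∧
      finrank F P = 2 * e ∧ (∀ a a', B (hh a) (hh a') = B a a') ∧
      LinearMap.range (hh - 1) = P ∧
      ¬ IsSquare (Matrix.det (Matrix.of fun p q => B (u p) (hh (u q) - u q))) ∧
      Commute hh t ∧ Commute hh c := by
  obtain ⟨h, hmonic, hirr, v, hv, hhv, hvv, hcv⟩ :=
    exists_piece_data hB h2 ht hsq U hUt hUc hUnd hU0 hcinj
  haveI : Fact (Irreducible h) := ⟨hirr⟩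
  haveI : Module.Finite F (AdjoinRoot h) := hmonic.finite_adjoinRoot
  have hM := isModel_PhiK hB h2 ht hc htc hcc hmonic hhv hvv hcv
  obtain ⟨hh, u, h1, h3, h4, h5⟩ := model_piece_spin hB hM h2
  exact ⟨LinearMap.range (PhiK t c hmonic v), hh, finrank F (AdjoinRoot h), u,
    PhiK_range_le hmonic hUt hUc hv, hM.finrank_range, h1, h3, h4,
    h5 t (compat_t ht htc hmonic hhv), h5 c (compat_c hc hcc hmonic hhv)⟩

end pieces

end Cfsg.Agent.Lib.H7AutPM
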