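import Cfsg.Agent.Lib.Helper7.AutPM.SsF
import Mathlib

/-!
# Orthogonal splitting lemmas and planes in the fixed space (helper7)
-/

set_option autoImplicit false
set_option linter.unusedSectionVars false
set_option linter.style.haveILetI false

namespace Cfsg.Agent.Lib.H7AutPM

open Polynomial Module

section split

variable {F : Type*} [Field F] {V : Type*} [AddCommGroup V] [Module F V]
  [FiniteDimensional F V] {B : LinearMap.BilinForm F V}

theorem decomp_of_nonDegS (hB : B.IsSymm) {P : Submodule F V} (hP : NonDegS B P) (a : V) :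
    ∃ p ∈ P, ∃ q ∈ B.orthogonal P, a = p + q := by
  have hc := isCompl_of_nonDegS hB hP
  have h1 : a ∈ P ⊔ B.orthogonal P := by rw [hc.sup_eq_top]; trivial
  obtain ⟨p, hp, q, hq, rfl⟩ := Submodule.mem_sup.1 h1
  exact ⟨p, hp, q, hq, rfl⟩

theorem decomp_in (hB : B.IsSymm) {U P : Submodule F V} (hP : NonDegS B P) (hPU : P ≤ U)
    (u : V) (hu : u ∈ U) : ∃ p ∈ P, ∃ q ∈ U ⊓ B.orthogonal P, u = p + q := by
  obtain ⟨p, hp, q, hq, rfl⟩ := decomp_of_nonDegS hB hP u
  refine ⟨p, hp, q, ⟨?_, hq⟩, rfl⟩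
  have : q = (p + q) - p := by abel
  rw [this]
  exact U.sub_mem hu (hPU hp)

theorem nonDegS_inf_orth (hB : B.IsSymm) {U P : Submodule F V} (hU : NonDegS B U)
    (hP : NonDegS B P) (hPU : P ≤ U) : NonDegS B (U ⊓ B.orthogonal P) := by
  rintro u' ⟨hu'U, hu'P⟩ h
  apply hU u' hu'U
  intro w hw
  obtain ⟨p, hp, q, hq, rfl⟩ := decomp_in hB hP hPU w hw
  rw [map_add, h q hq, add_zero, hB.eq]
  exact hu'P p hp

theorem finrank_inf_orth (hB : B.IsSymm) {U P : Submodule F V} (hP : NonDegS B P)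
    (hPU : P ≤ U) : finrank F U = finrank F P + finrank F ↥(U ⊓ B.orthogonal P) := by
  have hc := isCompl_of_nonDegS hB hP
  have h1 : P ⊔ (U ⊓ B.orthogonal P) = U := by
    apply le_antisymm
    · exact sup_le hPU inf_le_left
    · intro u hu
      obtain ⟨p, hp, q, hq, rfl⟩ := decomp_in hB hP hPU u hu
      exact Submodule.add_mem_sup hp hq
  have h3 : P ⊓ (U ⊓ B.orthogonal P) = ⊥ := by
    rw [eq_bot_iff]
    rintro x ⟨hx1, -, hx2⟩
    have := hc.inf_eq_bot
    rw [eq_bot_iff] at this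
    exact this ⟨hx1, hx2⟩
  have h4 := Submodule.finrank_sup_add_finrank_inf_eq P (U ⊓ B.orthogonal P)
  rw [h1, h3, finrank_bot, add_zero] at h4
  exact h4

theorem nonDegS_span_singleton {v : V} (hvv : B v v ≠ 0) : NonDegS B (Submodule.span F {v}) := by
  intro u hu h
  obtain ⟨a, rfl⟩ := Submodule.mem_span_singleton.1 hu
  have h1 := h v (Submodule.mem_span_singleton_self v)
  rw [map_smul, LinearMap.smul_apply, smul_eq_mul] at h1
  rcases mul_eq_zero.1 h1 with h3 | h3
  · rw [h3, zero_smul]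
  · exact absurd h3 hvv

end split

section plane

variable {F : Type*} [Field F] [Fintype F] {V : Type*} [AddCommGroup V] [Module F V]
  [FiniteDimensional F V] {B : LinearMap.BilinForm F V} {t c : Module.End F V}

/-- the map `F² → V`, `(w₀, w₁) ↦ w₀ v + w₁ v'` -/
noncomputable def PhiP (v v' : V) : (Fin 2 → F) →ₗ[F] V :=
  (LinearMap.proj (R := F) (ι := Fin 2) (φ := fun _ => F) 0).smulRight v +
    (LinearMap.proj (R := F) (ι := Fin 2) (φ := fun _ => F) 1).smulRight v'

theorem PhiP_apply (v v' : V) (w : Fin 2 → F) : PhiP v v' w = w 0 • v + w 1 • v' := rfl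

theorem isModel_PhiP (hB : B.IsSymm) {v v' : V} (hvv : B v v ≠ 0) (hvv' : B v' v' ≠ 0)
    (horth : B v v' = 0) :
    IsModel B (-(B v' v') / (B v v)) ((B v v) • (LinearMap.id : F →ₗ[F] F)) (PhiP v v') := by
  refine ⟨?_, ?_, ?_⟩
  · exact div_ne_zero (neg_ne_zero.2 hvv') hvv
  · rw [LinearMap.smul_apply, LinearMap.id_apply, smul_eq_mul, mul_one]
    exact hvv
  · intro w w'
    rw [PhiP_apply, PhiP_apply]
    simp only [map_add, map_smul, LinearMap.add_apply, LinearMap.smul_apply, smul_eq_mul,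
      LinearMap.id_apply]
    rw [horth, hB.eq v' v, horth]
    unfold betaK
    field_simp
    ring

/-- **a nondegenerate plane in the fixed space with a similarity of multiplier `μ`** -/
theorem piece_plane (hB : B.IsSymm) (h2 : (2 : F) ≠ 0) (ht : SelfAdj B t) (hc : SkewAdj B c)
    (U : Submodule F V) (hUnd : NonDegS B U) (hU2 : 2 ≤ finrank F U)
    (hUt : ∀ u ∈ U, t u = (2 : F) • u) (hUc : ∀ u ∈ U, c u = 0) (μ : F) :
    ∃ (P : Submodule F V) (g : Module.End F V) (e : ℕ), P ≤ U ∧ 0 < e ∧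
      finrank F P = 2 * e ∧ NonDegS B P ∧
      (∀ u ∈ P, g u ∈ P) ∧ (∀ x ∈ B.orthogonal P, g x = x) ∧
      (∀ u ∈ P, ∀ u' ∈ P, B (g u) (g u') = μ * B u u') ∧ LinearMap.det g = μ ^ e ∧
      Commute g t ∧ Commute g c := by
  have hU0 : U ≠ ⊥ := by
    rintro rfl
    rw [finrank_bot] at hU2
    omega
  obtain ⟨v, hv, hvv⟩ := exists_aniso hB h2 hUnd hU0
  have hP1 := nonDegS_span_singleton (F := F) hvv
  have hP1U : Submodule.span F {v} ≤ U := by
    rw [Submodule.span_singleton_le_iff_mem]; exact hv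
  have hU'nd := nonDegS_inf_orth hB hUnd hP1 hP1U
  have hv0 : v ≠ 0 := by
    rintro rfl
    rw [map_zero] at hvv
    exact hvv rfl
  have hU'0 : U ⊓ B.orthogonal (Submodule.span F {v}) ≠ ⊥ := by
    intro h0
    have h1 := finrank_inf_orth hB hP1 hP1U
    rw [h0, finrank_bot, finrank_span_singleton hv0] at h1
    omega
  obtain ⟨v', hv', hvv'⟩ := exists_aniso hB h2 hU'nd hU'0
  have horth : B v v' = 0 := hv'.2 v (Submodule.mem_span_singleton_self v)
  have hM := isModel_PhiP hB hvv hvv' horth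
  obtain ⟨g, hg1, hg2, hg3, hg4, hg5⟩ := model_piece_sim hB hM h2 μ
  have hrange : LinearMap.range (PhiP (F := F) v v') ≤ U := by
    rintro _ ⟨w, rfl⟩
    rw [PhiP_apply]
    exact U.add_mem (U.smul_mem _ hv) (U.smul_mem _ hv'.1)
  have hCt : Compat B (-(B v' v') / (B v v)) (PhiP v v') t := by
    refine ⟨⟨(2 : F) • (1 : Matrix (Fin 2) (Fin 2) F), ?_, ?_⟩, ?_⟩
    · intro w
      rw [hUt _ (hrange ⟨w, rfl⟩), Matrix.smul_mulVec, Matrix.one_mulVec, map_smul]
    · intro x y
      rw [Matrix.smul_mul, Matrix.one_mul, Matrix.mul_smul, Matrix.mul_one]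
    · intro x hx n hn
      rw [← ht, hUt n (hrange hn), map_smul, LinearMap.smul_apply, hx n hn, smul_zero]
  have hCc : Compat B (-(B v' v') / (B v v)) (PhiP v v') c := by
    refine ⟨⟨0, ?_, ?_⟩, ?_⟩
    · intro w
      rw [hUc _ (hrange ⟨w, rfl⟩), Matrix.zero_mulVec, map_zero]
    · intro x y
      rw [zero_mul, mul_zero]
    · intro x hx n hn
      have h1 := hc n x
      rw [hUc n (hrange hn), map_zero, LinearMap.zero_apply] at h1
      have : B n (c x) = 0 := by linear_combination h1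
      exact this
  refine ⟨LinearMap.range (PhiP (F := F) v v'), g, 1, hrange, one_pos, ?_, hM.nonDegS, hg1, hg2,
    hg3, ?_, hg5 t hCt, hg5 c hCc⟩
  · rw [hM.finrank_range, Module.finrank_self]
  · rw [hg4, Module.finrank_self]

end plane

end Cfsg.Agent.Lib.H7AutPM
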