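import Cfsg.Agent.Lib.Helper7.AutPM.SsG
import Mathlib

/-!
# Gluing pieces: a proper similarity commuting with a semisimple isometry (helper7)
-/

set_option autoImplicit false
set_option linter.unusedSectionVars false
set_option linter.style.haveILetI false

namespace Cfsg.Agent.Lib.H7AutPM

open Polynomial Module

section glue

variable {F : Type*} [Field F] {V : Type*} [AddCommGroup V] [Module F V]
  [FiniteDimensional F V] {B : LinearMap.BilinForm F V} {t c : Module.End F V} {μ : F}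

/-- `g` is a similarity of multiplier `μ` on `U`, trivial on `U^⊥`, of determinant `μ^k`,
`dim U = 2k`, commuting with `t` and `c` -/
def GoodOp (B : LinearMap.BilinForm F V) (t c : Module.End F V) (μ : F) (U : Submodule F V)
    (g : Module.End F V) (k : ℕ) : Prop :=
  finrank F U = 2 * k ∧ (∀ u ∈ U, g u ∈ U) ∧ (∀ x ∈ B.orthogonal U, g x = x) ∧
    (∀ u ∈ U, ∀ u' ∈ U, B (g u) (g u') = μ * B u u') ∧ LinearMap.det g = μ ^ k ∧
    Commute g t ∧ Commute g c

theorem goodOp_bot : GoodOp B t c μ ⊥ 1 0 := by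
  refine ⟨by rw [finrank_bot], fun u hu => hu, fun x _ => rfl, ?_, by rw [map_one, pow_zero],
    Commute.one_left t, Commute.one_left c⟩
  intro u hu u' hu'
  rw [(Submodule.mem_bot F).1 hu]
  simp

theorem glue_two (hB : B.IsSymm) {U P : Submodule F V} (hP : NonDegS B P) (hPU : P ≤ U)
    {gP g' : Module.End F V} {e k' : ℕ} (hgP : GoodOp B t c μ P gP e)
    (hg' : GoodOp B t c μ (U ⊓ B.orthogonal P) g' k') :
    GoodOp B t c μ U (gP * g') (e + k') := by
  obtain ⟨a1, a2, a3, a4, a5, a6, a7⟩ := hgP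
  obtain ⟨b1, b2, b3, b4, b5, b6, b7⟩ := hg'
  -- vectors of `P` are orthogonal to `U ⊓ P^⊥`
  have hPperp : ∀ p ∈ P, p ∈ B.orthogonal (U ⊓ B.orthogonal P) := by
    intro p hp n hn
    rw [hB.eq]
    exact hn.2 p hp
  have hval : ∀ p ∈ P, ∀ q ∈ U ⊓ B.orthogonal P, (gP * g') (p + q) = gP p + g' q := by
    intro p hp q hq
    rw [Module.End.mul_apply, map_add, b3 p (hPperp p hp), map_add, a3 (g' q) (b2 q hq).2]
  refine ⟨?_, ?_, ?_, ?_, ?_, a6.mul_left b6, a7.mul_left b7⟩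
  · rw [finrank_inf_orth hB hP hPU, a1, b1]
    ring
  · intro u hu
    obtain ⟨p, hp, q, hq, rfl⟩ := decomp_in hB hP hPU u hu
    rw [hval p hp q hq]
    exact U.add_mem (hPU (a2 p hp)) (b2 q hq).1
  · intro x hx
    have h1 : x ∈ B.orthogonal (U ⊓ B.orthogonal P) := fun n hn => hx n hn.1
    have h3 : x ∈ B.orthogonal P := fun n hn => hx n (hPU hn)
    rw [Module.End.mul_apply, b3 x h1, a3 x h3]
  · intro u hu u' hu'
    obtain ⟨p, hp, q, hq, rfl⟩ := decomp_in hB hP hPU u hu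
    obtain ⟨p', hp', q', hq', rfl⟩ := decomp_in hB hP hPU u' hu'
    rw [hval p hp q hq, hval p' hp' q' hq']
    have c1 : B (gP p) (g' q') = 0 := (b2 q' hq').2 _ (a2 p hp)
    have c2 : B (g' q) (gP p') = 0 := by rw [hB.eq]; exact (b2 q hq).2 _ (a2 p' hp')
    have c3 : B p q' = 0 := hq'.2 p hp
    have c4 : B q p' = 0 := by rw [hB.eq]; exact hq.2 p' hp'
    simp only [map_add, LinearMap.add_apply]
    rw [c1, c2, c3, c4, a4 p hp p' hp', b4 q hq q' hq']
    ring
  · rw [map_mul, a5, b5, pow_add]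

/-- **induction along pieces** -/
theorem glue_ind (hB : B.IsSymm) (A : Submodule F V → Prop)
    (hA : ∀ U, A U → U ≠ ⊥ → ∃ (P : Submodule F V) (g : Module.End F V) (e : ℕ),
      P ≤ U ∧ 0 < e ∧ NonDegS B P ∧ GoodOp B t c μ P g e ∧ A (U ⊓ B.orthogonal P)) :
    ∀ (n : ℕ) (U : Submodule F V), finrank F U = n → A U →
      ∃ (g : Module.End F V) (k : ℕ), GoodOp B t c μ U g k := by
  intro n
  induction n using Nat.strong_induction_on with
  | _ n ih =>
    intro U hn hU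
    by_cases hU0 : U = ⊥
    · rw [hU0]
      exact ⟨1, 0, goodOp_bot⟩
    · obtain ⟨P, gP, e, hPU, he, hPnd, hgP, hA'⟩ := hA U hU hU0
      have h1 := finrank_inf_orth hB hPnd hPU
      have h3 := hgP.1
      obtain ⟨g', k', hg'⟩ := ih (finrank F ↥(U ⊓ B.orthogonal P)) (by omega) _ rfl hA'
      exact ⟨gP * g', e + k', glue_two hB hPnd hPU hgP hg'⟩

end glue

section total

variable {F : Type*} [Field F] [Fintype F] {V : Type*} [AddCommGroup V] [Module F V]
  [FiniteDimensional F V] {B : LinearMap.BilinForm F V} {t c : Module.End F V}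

/-- admissible subspaces of the moved part -/
def Adm1 (B : LinearMap.BilinForm F V) (t c : Module.End F V) (U : Submodule F V) : Prop :=
  NonDegS B U ∧ (∀ u ∈ U, t u ∈ U) ∧ (∀ u ∈ U, c u ∈ U) ∧ (∀ u ∈ U, c u = 0 → u = 0)

/-- admissible subspaces of the fixed part -/
def Adm0 (B : LinearMap.BilinForm F V) (t c : Module.End F V) (U : Submodule F V) : Prop :=
  NonDegS B U ∧ (∀ u ∈ U, t u = (2 : F) • u) ∧ (∀ u ∈ U, c u = 0) ∧ Even (finrank F U)

theorem adm1_step (hB : B.IsSymm) (h2 : (2 : F) ≠ 0) (ht : SelfAdj B t) (hc : SkewAdj B c)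
    (htc : Commute t c) (hcc : c * c = t * t - 4) (hsq : Squarefree (minpoly F t)) (μ : F)
    (U : Submodule F V) (hU : Adm1 B t c U) (hU0 : U ≠ ⊥) :
    ∃ (P : Submodule F V) (g : Module.End F V) (e : ℕ),
      P ≤ U ∧ 0 < e ∧ NonDegS B P ∧ GoodOp B t c μ P g e ∧ Adm1 B t c (U ⊓ B.orthogonal P) := by
  obtain ⟨hUnd, hUt, hUc, hcinj⟩ := hU
  obtain ⟨P, g, e, hPU, he, hfr, hPnd, hPt, hPc, g1, g2, g3, g4, g5, g6⟩ :=
    piece_sim hB h2 ht hc htc hcc hsq U hUt hUc hUnd hU0 hcinj μ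
  refine ⟨P, g, e, hPU, he, hPnd, ⟨hfr, g1, g2, g3, g4, g5, g6⟩,
    nonDegS_inf_orth hB hUnd hPnd hPU, ?_, ?_, fun u hu => hcinj u hu.1⟩
  · rintro u ⟨hu1, hu2⟩
    refine ⟨hUt u hu1, ?_⟩
    intro n hn
    rw [← ht]
    exact hu2 _ (hPt n hn)
  · rintro u ⟨hu1, hu2⟩
    refine ⟨hUc u hu1, ?_⟩
    intro n hn
    have h1 := hc n u
    rw [hu2 _ (hPc n hn)] at h1
    have : B n (c u) = 0 := by linear_combination h1
    exact this

theorem adm0_step (hB : B.IsSymm) (h2 : (2 : F) ≠ 0) (ht : SelfAdj B t) (hc : SkewAdj B c)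
    (μ : F) (U : Submodule F V) (hU : Adm0 B t c U) (hU0 : U ≠ ⊥) :
    ∃ (P : Submodule F V) (g : Module.End F V) (e : ℕ),
      P ≤ U ∧ 0 < e ∧ NonDegS B P ∧ GoodOp B t c μ P g e ∧ Adm0 B t c (U ⊓ B.orthogonal P) := by
  obtain ⟨hUnd, hUt, hUc, hev⟩ := hU
  have hpos : 0 < finrank F U := by
    rw [Module.finrank_pos_iff]
    exact Submodule.nontrivial_iff_ne_bot.2 hU0
  have hU2 : 2 ≤ finrank F U := by
    obtain ⟨j, hj⟩ := hev
    omega
  obtain ⟨P, g, e, hPU, he, hfr, hPnd, g1, g2, g3, g4, g5, g6⟩ :=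
    piece_plane hB h2 ht hc U hUnd hU2 hUt hUc μ
  refine ⟨P, g, e, hPU, he, hPnd, ⟨hfr, g1, g2, g3, g4, g5, g6⟩,
    nonDegS_inf_orth hB hUnd hPnd hPU, fun u hu => hUt u hu.1, fun u hu => hUc u hu.1, ?_⟩
  have h1 := finrank_inf_orth hB hPnd hPU
  obtain ⟨j, hj⟩ := hev
  exact ⟨j - e, by omega⟩

/-- **a proper similarity of arbitrary multiplier commuting with `t` and `c`** -/
theorem exists_sim_total (hB : B.IsSymm) (hBnd : B.Nondegenerate) (h2 : (2 : F) ≠ 0)
    (ht : SelfAdj B t) (hc : SkewAdj B c) (htc : Commute t c) (hcc : c * c = t * t - 4)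
    (hsq : Squarefree (minpoly F t)) (V0 : Submodule F V) (h0nd : NonDegS B V0)
    (h0t : ∀ u ∈ V0, t u = (2 : F) • u) (h0c : ∀ u ∈ V0, c u = 0)
    (h1c : ∀ u ∈ B.orthogonal V0, c u = 0 → u = 0) (hev : Even (finrank F V)) (μ : F) :
    ∃ (g : Module.End F V) (k : ℕ), GoodOp B t c μ ⊤ g k := by
  have htop : NonDegS B (⊤ : Submodule F V) := by
    intro u _ h
    exact hBnd.1 u (fun w => h w trivial)
  -- the moved part
  have hA1 : Adm1 B t c (⊤ ⊓ B.orthogonal V0) := by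
    refine ⟨nonDegS_inf_orth hB htop h0nd le_top, ?_, ?_, fun u hu => h1c u hu.2⟩
    · rintro u ⟨-, hu⟩
      refine ⟨trivial, ?_⟩
      intro n hn
      rw [← ht, h0t n hn, map_smul, LinearMap.smul_apply, hu n hn, smul_zero]
    · rintro u ⟨-, hu⟩
      refine ⟨trivial, ?_⟩
      intro n hn
      have h1 := hc n u
      rw [h0c n hn, map_zero, LinearMap.zero_apply] at h1
      have : B n (c u) = 0 := by linear_combination h1
      exact this
  obtain ⟨g1, k1, hg1⟩ := glue_ind (μ := μ) hB (Adm1 B t c)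
    (adm1_step hB h2 ht hc htc hcc hsq μ) _ _ rfl hA1
  -- the fixed part
  have hfr := finrank_inf_orth hB h0nd (le_top : V0 ≤ ⊤)
  rw [finrank_top, hg1.1] at hfr
  have hA0 : Adm0 B t c V0 := by
    refine ⟨h0nd, h0t, h0c, ?_⟩
    obtain ⟨j, hj⟩ := hev
    exact ⟨j - k1, by omega⟩
  obtain ⟨g0, k0, hg0⟩ := glue_ind (μ := μ) hB (Adm0 B t c)
    (adm0_step hB h2 ht hc μ) _ _ rfl hA0
  exact ⟨g0 * g1, k0 + k1, glue_two hB h0nd le_top hg0 hg1⟩

/-- **an isometry of nontrivial spinor norm commuting with `t` and `c`** -/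
theorem exists_spin_total (hB : B.IsSymm) (hBnd : B.Nondegenerate) (h2 : (2 : F) ≠ 0)
    (ht : SelfAdj B t) (hc : SkewAdj B c) (htc : Commute t c) (hcc : c * c = t * t - 4)
    (hsq : Squarefree (minpoly F t)) (V0 : Submodule F V) (h0nd : NonDegS B V0)
    (h0t : ∀ u ∈ V0, t u = (2 : F) • u) (h0c : ∀ u ∈ V0, c u = 0)
    (h1c : ∀ u ∈ B.orthogonal V0, c u = 0 → u = 0) (hne : B.orthogonal V0 ≠ ⊥) :
    ∃ (hh : Module.End F V) (e : ℕ) (u : Fin 2 × Fin e → V),
      finrank F (LinearMap.range (hh - 1)) = 2 * e ∧ (∀ a a', B (hh a) (hh a') = B a a') ∧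
      ¬ IsSquare (Matrix.det (Matrix.of fun p q => B (u p) (hh (u q) - u q))) ∧
      Commute hh t ∧ Commute hh c := by
  have htop : NonDegS B (⊤ : Submodule F V) := by
    intro u _ h
    exact hBnd.1 u (fun w => h w trivial)
  have hnd : NonDegS B (B.orthogonal V0) := by
    have := nonDegS_inf_orth hB htop h0nd le_top
    rwa [top_inf_eq] at this
  have hUt : ∀ u ∈ B.orthogonal V0, t u ∈ B.orthogonal V0 := by
    intro u hu n hn
    rw [← ht, h0t n hn, map_smul, LinearMap.smul_apply, hu n hn, smul_zero]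
  have hUc : ∀ u ∈ B.orthogonal V0, c u ∈ B.orthogonal V0 := by
    intro u hu n hn
    have h1 := hc n u
    rw [h0c n hn, map_zero, LinearMap.zero_apply] at h1
    have : B n (c u) = 0 := by linear_combination h1
    exact this
  obtain ⟨P, hh, e, u, -, hfr, hiso, hrange, hns, c1, c2⟩ :=
    piece_spin hB h2 ht hc htc hcc hsq _ hUt hUc hnd hne h1c
  refine ⟨hh, e, u, ?_, hiso, hns, c1, c2⟩
  rw [hrange, hfr]

end total

end Cfsg.Agent.Lib.H7AutPM
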