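import Cfsg.Agent.Lib.Helper7.AutPM.SsH
import Cfsg.Agent.H9.OrthA
import Cfsg.Agent.Lib.Helper5.Orth.Spinor
import Mathlib

/-!
# Semisimple isometries of odd order: commuting similarities and commuting isometries of
nontrivial spinor norm (helper7)

We instantiate the abstract results of `SsH` at `V = I → F`, `B` the polar form of `Q`,
`t = s + s⁻¹`, `c = s - s⁻¹`.
-/

set_option autoImplicit false
set_option linter.unusedSectionVars false
set_option linter.style.haveILetI false

namespace Cfsg.Agent.Lib.H7AutPM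

open Matrix Polynomial Module Cfsg Cfsg.Agent.H9.Orth Cfsg.Agent.Lib.Helper5.OrthSN
  Cfsg.Agent.Lib.Helper5.OrthPar

section ops

variable {I : Type} [Fintype I] [DecidableEq I] {F : Type*} [Field F]

/-- the operator of an invertible matrix -/
noncomputable def opE (s : GL I F) : Module.End F (I → F) := Matrix.toLin' (s : Matrix I I F)

theorem opE_apply (s : GL I F) (v : I → F) : opE s v = act s v := Matrix.toLin'_apply _ _

theorem opE_mul (s s' : GL I F) : opE (s * s') = opE s * opE s' := by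
  apply LinearMap.ext
  intro v
  rw [Module.End.mul_apply, opE_apply, opE_apply, opE_apply, act_mul]

theorem opE_one : opE (1 : GL I F) = 1 := by
  apply LinearMap.ext
  intro v
  rw [opE_apply, act_one, Module.End.one_apply]

theorem opE_pow (s : GL I F) (n : ℕ) : opE (s ^ n) = opE s ^ n := by
  induction n with
  | zero => rw [pow_zero, pow_zero, opE_one]
  | succ k ih => rw [pow_succ, pow_succ, opE_mul, ih]

theorem opE_mul_inv (s : GL I F) : opE s * opE s⁻¹ = 1 := by
  rw [← opE_mul, mul_inv_cancel, opE_one]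

theorem opE_inv_mul (s : GL I F) : opE s⁻¹ * opE s = 1 := by
  rw [← opE_mul, inv_mul_cancel, opE_one]

theorem opE_comm_inv (s : GL I F) : Commute (opE s) (opE s⁻¹) := by
  show opE s * opE s⁻¹ = opE s⁻¹ * opE s
  rw [opE_mul_inv, opE_inv_mul]

theorem tc_commute (s : GL I F) : Commute (opE s + opE s⁻¹) (opE s - opE s⁻¹) := by
  have h := opE_comm_inv s
  exact ((Commute.refl _).sub_right h).add_left (h.symm.sub_right (Commute.refl _))

theorem cc_eq (s : GL I F) :
    (opE s - opE s⁻¹) * (opE s - opE s⁻¹) =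
      (opE s + opE s⁻¹) * (opE s + opE s⁻¹) - 4 := by
  have h4 : (4 : Module.End F (I → F)) = 1 + 1 + 1 + 1 := by norm_num
  rw [sub_mul, mul_sub, mul_sub, add_mul, mul_add, mul_add, opE_mul_inv, opE_inv_mul, h4]
  abel

theorem tOp_squarefree (s : GL I F) (r : ℕ) (hrF : (r : F) ≠ 0) (hsr : s ^ r = 1) :
    Squarefree (minpoly F (opE s + opE s⁻¹)) := by
  have hss : (opE s).IsSemisimple := by
    apply Module.End.isSemisimple_of_squarefree_aeval_eq_zero (p := X ^ r - C (1 : F))
    · exact (separable_X_pow_sub_C (1 : F) hrF one_ne_zero).squarefree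
    · rw [map_sub, map_pow, aeval_X, aeval_C, ← opE_pow, hsr, opE_one, map_one, sub_self]
  have hr0 : 0 < r := by
    rcases Nat.eq_zero_or_pos r with h | h
    · exfalso
      apply hrF
      rw [h, Nat.cast_zero]
    · exact h
  have hinv : s⁻¹ = s ^ (r - 1) := by
    apply inv_eq_of_mul_eq_one_right
    rw [← pow_succ']
    have : r - 1 + 1 = r := by omega
    rw [this, hsr]
  have ht : opE s + opE s⁻¹ = aeval (opE s) (X + X ^ (r - 1) : F[X]) := by
    rw [map_add, aeval_X, map_pow, aeval_X, hinv, opE_pow]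
  rw [ht]
  exact (hss.aeval _).minpoly_squarefree

end ops

section form

variable {I : Type} [Fintype I] [DecidableEq I] {F : Type*} [Field F] {Q : (I → F) → F}
  (hQ : Cfsg.Geo.IsNondegenerateQuadraticForm Q)

include hQ

theorem pol_act_left (s : GL I F) (hs : s ∈ Cfsg.isometryGroup F Q) (u w : I → F) :
    pol Q (act s u) w = pol Q u (act s⁻¹ w) := by
  have := pol_act_inv s⁻¹ (inv_mem hs) u w
  rwa [inv_inv] at this

theorem tOp_selfAdj (s : GL I F) (hs : s ∈ Cfsg.isometryGroup F Q) :
    SelfAdj (BF hQ) (opE s + opE s⁻¹) := by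
  intro u w
  rw [LinearMap.add_apply, LinearMap.add_apply, opE_apply, opE_apply, opE_apply, opE_apply,
    BF_apply, BF_apply, pol_add_left hQ, pol_add_right hQ, pol_act_left hQ s hs,
    pol_act_inv s hs, add_comm]

theorem cOp_skewAdj (s : GL I F) (hs : s ∈ Cfsg.isometryGroup F Q) :
    SkewAdj (BF hQ) (opE s - opE s⁻¹) := by
  intro u w
  rw [LinearMap.sub_apply, LinearMap.sub_apply, opE_apply, opE_apply, opE_apply, opE_apply,
    BF_apply, BF_apply, pol_sub_left hQ, pol_sub_right hQ, pol_act_left hQ s hs,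
    pol_act_inv s hs]
  ring

/-- the fixed space -/
noncomputable def fixV (s : GL I F) : Submodule F (I → F) := LinearMap.ker (opE s - 1)

omit hQ in
theorem mem_fixV (s : GL I F) (u : I → F) : u ∈ fixV s ↔ act s u = u := by
  unfold fixV
  rw [LinearMap.mem_ker, LinearMap.sub_apply, opE_apply, Module.End.one_apply, sub_eq_zero]

omit hQ in
theorem pow_fix (s : GL I F) (u : I → F) (hu : act s u = u) (j : ℕ) : act (s ^ j) u = u := by
  induction j with
  | zero => rw [pow_zero, act_one]
  | succ k ih => rw [pow_succ, act_mul, hu, ih]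

theorem fixV_nonDegS (s : GL I F) (hs : s ∈ Cfsg.isometryGroup F Q) (r : ℕ)
    (hrF : (r : F) ≠ 0) (hsr : s ^ r = 1) : NonDegS (BF hQ) (fixV s) := by
  intro u hu h
  rw [mem_fixV] at hu
  apply (BF_nondegenerate hQ).1 u
  intro v
  -- the averaging operator
  have hN : (∑ j ∈ Finset.range r, opE s ^ j) v ∈ fixV s := by
    unfold fixV
    rw [LinearMap.mem_ker, ← Module.End.mul_apply, mul_geom_sum, ← opE_pow, hsr, opE_one,
      sub_self, LinearMap.zero_apply]
  have h1 := h _ hN
  rw [LinearMap.sum_apply, map_sum] at h1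
  have h2 : ∀ j ∈ Finset.range r, BF hQ u ((opE s ^ j) v) = BF hQ u v := by
    intro j _
    rw [← opE_pow, opE_apply, BF_apply, BF_apply]
    have h3 := pol_act (s ^ j) (pow_mem hs j) u v
    rw [pow_fix s u hu j] at h3
    exact h3
  rw [Finset.sum_congr rfl h2, Finset.sum_const, Finset.card_range, nsmul_eq_mul] at h1
  rcases mul_eq_zero.1 h1 with h4 | h4
  · exact absurd h4 hrF
  · exact h4

omit hQ in
theorem fixV_t (s : GL I F) (u : I → F) (hu : u ∈ fixV s) :
    (opE s + opE s⁻¹) u = (2 : F) • u := by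
  rw [mem_fixV] at hu
  have h1 : act s⁻¹ u = u := by
    have := act_inv_act s u
    rwa [hu] at this
  rw [LinearMap.add_apply, opE_apply, opE_apply, hu, h1, two_smul]

omit hQ in
theorem fixV_c (s : GL I F) (u : I → F) (hu : u ∈ fixV s) :
    (opE s - opE s⁻¹) u = 0 := by
  rw [mem_fixV] at hu
  have h1 : act s⁻¹ u = u := by
    have := act_inv_act s u
    rwa [hu] at this
  rw [LinearMap.sub_apply, opE_apply, opE_apply, hu, h1, sub_self]

theorem c_inj_on_perp (s : GL I F) (hs : s ∈ Cfsg.isometryGroup F Q) (r : ℕ) (hr : Odd r)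
    (hrF : (r : F) ≠ 0) (hsr : s ^ r = 1) (u : I → F)
    (hu : u ∈ (BF hQ).orthogonal (fixV s)) (hcu : (opE s - opE s⁻¹) u = 0) : u = 0 := by
  rw [LinearMap.sub_apply, opE_apply, opE_apply, sub_eq_zero] at hcu
  have h2 : act (s ^ 2) u = u := by
    rw [pow_two, act_mul, hcu, act_act_inv]
  obtain ⟨k, hk⟩ := hr
  have h3 : act s u = u := by
    have h4 : act (s ^ r) u = u := by rw [hsr, act_one]
    rw [hk, pow_succ', pow_mul, act_mul, pow_fix (s ^ 2) u h2 k] at h4
    exact h4
  have hu0 : u ∈ fixV s := (mem_fixV s u).2 h3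
  apply fixV_nonDegS hQ s hs r hrF hsr u hu0
  intro w hw
  rw [(BF_isSymm hQ).eq]
  exact hu w hw

theorem perp_fixV_ne_bot (s : GL I F) (hs1 : s ≠ 1) :
    (BF hQ).orthogonal (fixV s) ≠ ⊥ := by
  intro h
  apply hs1
  have h1 : fixV s = ⊤ := by
    have h2 : perp hQ (perp hQ (fixV s)) = fixV s := perp_perp hQ (fixV s)
    have h3 : perp hQ (fixV s) = ⊥ := h
    rw [h3] at h2
    rw [← h2, eq_top_iff]
    intro x _
    rw [mem_perp]
    intro w hw
    rw [(Submodule.mem_bot F).1 hw, pol_zero_left hQ]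
  apply gl_ext
  intro x
  rw [act_one]
  exact (mem_fixV s x).1 (h1 ▸ Submodule.mem_top)

end form

section main

variable {I : Type} [Fintype I] [DecidableEq I] {F : Type*} [Field F] [Fintype F]
  {Q : (I → F) → F} (hQ : Cfsg.Geo.IsNondegenerateQuadraticForm Q)

include hQ

omit [Fintype F] in
/-- commuting with `s + s⁻¹` and `s - s⁻¹` means commuting with `s` -/
theorem commute_opE_of_tc (h2 : (2 : F) ≠ 0) (s : GL I F) (g : Module.End F (I → F))
    (h1 : Commute g (opE s + opE s⁻¹)) (h3 : Commute g (opE s - opE s⁻¹)) (v : I → F) :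
    g (act s v) = act s (g v) := by
  have h4 : Commute g (opE s + opE s⁻¹ + (opE s - opE s⁻¹)) := h1.add_right h3
  have h5 : opE s + opE s⁻¹ + (opE s - opE s⁻¹) = opE s + opE s := by abel
  rw [h5] at h4
  have h6 := LinearMap.congr_fun h4.eq v
  rw [Module.End.mul_apply, Module.End.mul_apply, LinearMap.add_apply, LinearMap.add_apply,
    map_add, opE_apply, opE_apply] at h6
  have h7 : (2 : F) • (g (act s v) - act s (g v)) = 0 := by
    rw [two_smul]
    have : g (act s v) - act s (g v) + (g (act s v) - act s (g v)) =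
        (g (act s v) + g (act s v)) - (act s (g v) + act s (g v)) := by abel
    rw [this, h6, sub_self]
  rcases smul_eq_zero.1 h7 with h8 | h8
  · exact absurd h8 h2
  · exact sub_eq_zero.1 h8

/-- **a proper similarity of prescribed multiplier commuting with a semisimple isometry of odd
order** -/
theorem exists_sim_commuting (h2 : (2 : F) ≠ 0) (m : ℕ) (hcard : Fintype.card I = 2 * m)
    (s : GL I F) (hs : s ∈ Cfsg.isometryGroup F Q) (r : ℕ) (hr : Odd r) (hrF : (r : F) ≠ 0)
    (hsr : s ^ r = 1) (μ : F) (hμ : μ ≠ 0) :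
    ∃ g : GL I F, (∀ v, Q (act g v) = μ * Q v) ∧ (g : Matrix I I F).det = μ ^ m ∧
      g * s = s * g := by
  have hev : Even (finrank F (I → F)) := by
    rw [Module.finrank_fintype_fun_eq_card, hcard]
    exact even_two_mul m
  obtain ⟨g, k, hk, -, -, hform, hdet, hct, hcc⟩ :=
    exists_sim_total (BF_isSymm hQ) (BF_nondegenerate hQ) h2 (tOp_selfAdj hQ s hs)
      (cOp_skewAdj hQ s hs) (tc_commute s) (cc_eq s) (tOp_squarefree s r hrF hsr) (fixV s)
      (fixV_nonDegS hQ s hs r hrF hsr) (fixV_t s) (fixV_c s)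
      (c_inj_on_perp hQ s hs r hr hrF hsr) hev μ
  rw [finrank_top, Module.finrank_fintype_fun_eq_card, hcard] at hk
  have hkm : k = m := by omega
  rw [hkm] at hdet
  have hdet' : (LinearMap.toMatrix' g).det ≠ 0 := by
    rw [LinearMap.det_toMatrix', hdet]
    exact pow_ne_zero m hμ
  refine ⟨Matrix.GeneralLinearGroup.mkOfDetNeZero (LinearMap.toMatrix' g) hdet', ?_, ?_, ?_⟩
  · intro v
    have h1 : act (Matrix.GeneralLinearGroup.mkOfDetNeZero (LinearMap.toMatrix' g) hdet') v =
        g v := LinearMap.toMatrix'_mulVec g v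
    rw [h1]
    have h3 := hform v Submodule.mem_top v Submodule.mem_top
    rw [BF_apply, BF_apply, pol_self hQ, pol_self hQ] at h3
    have h4 : (2 : F) * (Q (g v) - μ * Q v) = 0 := by linear_combination h3
    rcases mul_eq_zero.1 h4 with h5 | h5
    · exact absurd h5 h2
    · exact sub_eq_zero.1 h5
  · show (LinearMap.toMatrix' g).det = μ ^ m
    rw [LinearMap.det_toMatrix', hdet]
  · apply gl_ext
    intro v
    have h1 : ∀ w, act (Matrix.GeneralLinearGroup.mkOfDetNeZero (LinearMap.toMatrix' g) hdet') w =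
        g w := fun w => LinearMap.toMatrix'_mulVec g w
    rw [act_mul, act_mul, h1, h1]
    exact commute_opE_of_tc hQ h2 s g hct hcc v

/-- **an isometry of determinant one and nontrivial spinor norm commuting with a semisimple
isometry of odd order** -/
theorem exists_spin_commuting (h2 : (2 : F) ≠ 0)
    (s : GL I F) (hs : s ∈ Cfsg.isometryGroup F Q) (r : ℕ) (hr : Odd r) (hrF : (r : F) ≠ 0)
    (hsr : s ^ r = 1) (hs1 : s ≠ 1) :
    ∃ h : GL I F, h ∈ Cfsg.isometryGroup F Q ∧ par h ∧ ¬ spin Q h ∧ h * s = s * h := by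
  obtain ⟨hh, e, u, hrk, hiso, hns, hct, hcc⟩ :=
    exists_spin_total (BF_isSymm hQ) (BF_nondegenerate hQ) h2 (tOp_selfAdj hQ s hs)
      (cOp_skewAdj hQ s hs) (tc_commute s) (cc_eq s) (tOp_squarefree s r hrF hsr) (fixV s)
      (fixV_nonDegS hQ s hs r hrF hsr) (fixV_t s) (fixV_c s)
      (c_inj_on_perp hQ s hs r hr hrF hsr) (perp_fixV_ne_bot hQ s hs1)
  have hinj : Function.Injective hh := by
    rw [← LinearMap.ker_eq_bot, LinearMap.ker_eq_bot']
    intro v hv
    apply (BF_nondegenerate hQ).1 v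
    intro w
    rw [← hiso v w, hv, map_zero, LinearMap.zero_apply]
  obtain ⟨hG, hGdef⟩ : ∃ hG : GL I F, hG = ofLin (LinearEquiv.ofInjectiveEndo hh hinj) :=
    ⟨_, rfl⟩
  have hact : ∀ v, act hG v = hh v := by
    intro v
    rw [hGdef, act_ofLin, LinearEquiv.coe_ofInjectiveEndo]
  have hmem : hG ∈ Cfsg.isometryGroup F Q := by
    rw [mem_isometryGroup_iff]
    intro v
    rw [hact]
    have h3 := hiso v v
    rw [BF_apply, BF_apply, pol_self hQ, pol_self hQ] at h3
    have h4 : (2 : F) * (Q (hh v) - Q v) = 0 := by linear_combination h3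
    rcases mul_eq_zero.1 h4 with h5 | h5
    · exact absurd h5 h2
    · exact sub_eq_zero.1 h5
  have himS : imS hG = LinearMap.range (hh - 1) := by
    ext v
    rw [mem_imS, LinearMap.mem_range]
    constructor
    · rintro ⟨w, hw⟩
      refine ⟨w, ?_⟩
      rw [LinearMap.sub_apply, Module.End.one_apply, ← hact, hw]
    · rintro ⟨w, hw⟩
      refine ⟨w, ?_⟩
      rw [hact, ← hw, LinearMap.sub_apply, Module.End.one_apply]
  have hfr : Module.finrank F (imS hG) = 2 * e := by rw [himS, hrk]
  have hwall : wallM Q hG u = Matrix.of fun p q => BF hQ (u p) (hh (u q) - u q) := by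
    ext p q
    rw [Matrix.of_apply, BF_apply]
    show pol Q (u p) (act hG (u q) - u q) = _
    rw [hact]
  have hdet0 : (wallM Q hG u).det ≠ 0 := by
    intro h0
    apply hns
    rw [← hwall, h0]
    exact ⟨0, (mul_zero 0).symm⟩
  have hframe : IsFrame Q hG u := by
    refine ⟨?_, hdet0⟩
    rw [hfr, Fintype.card_prod, Fintype.card_fin, Fintype.card_fin]
  have hWS : (wallM Q hG u).det ∈ WS Q hG :=
    ⟨Fin 2 × Fin e, inferInstance, inferInstance, u, hframe, 1, one_ne_zero, by
      rw [one_pow, one_mul]⟩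
  refine ⟨hG, hmem, ?_, ?_, ?_⟩
  · unfold par
    rw [rank_eq, hfr]
    exact even_two_mul e
  · rw [spin_iff_of_mem hQ hG hmem _ hWS, hwall]
    exact hns
  · apply gl_ext
    intro v
    rw [act_mul, act_mul, hact, hact]
    exact commute_opE_of_tc hQ h2 s hh hct hcc v

end main

end Cfsg.Agent.Lib.H7AutPM
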