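import Cfsg.Agent.Lib.Helper7.AutPM.SsI
import Cfsg.Agent.Lib.Helper5.OrthAut.InndiagMinusMain
import Cfsg.Agent.Lib.Helper5.Orth.SpinorOdd
import Cfsg.Agent.Lib.Helper5.Orth.SpinorIndex
import Mathlib

/-!
# Class fusion for semisimple automorphisms of odd prime order of `PΩ(Q)`, `dim Q = 2m`
(helper7)

Generic part: an automorphism `x` of odd order `r` (prime to the characteristic) induced by a
similarity is induced by an element `σ` of `Ω` with `σ^r = 1`.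
-/

set_option autoImplicit false
set_option linter.unusedSectionVars false
set_option linter.style.haveILetI false

namespace Cfsg.Agent.Lib.H7AutPM

open Matrix Cfsg Cfsg.Agent.Lib.Helper5.OrthAut Cfsg.Agent.H9.Orth Cfsg.Agent.Lib.Helper5.OrthSN
  Cfsg.Agent.Lib.Helper5.OrthPar Cfsg.Agent.Lib.Helper5.OrthCls

universe u

section generic

variable {I : Type} [Fintype I] [DecidableEq I] {F : Type u} [Field F] [Fintype F]
  {Q : (I → F) → F} (hQ : Cfsg.Geo.IsNondegenerateQuadraticForm Q)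

/-- the homomorphism from the isometry group to `Aut(PΩ)` -/
noncomputable def isoHom (Q : (I → F) → F) :
    ↥(Cfsg.isometryGroup F Q) →* MulAut (Cfsg.POmega F Q) :=
  (conjHom Q).comp (Subgroup.inclusion iso_le_GO)

theorem isoHom_apply (σ : ↥(Cfsg.isometryGroup F Q)) :
    isoHom Q σ = conjHom Q ⟨σ.1, iso_le_GO σ.2⟩ := rfl

include hQ

/-- a similarity which is a scalar multiple of an isometry induces the same automorphism -/
theorem conjHom_scalar_mul (g : ↥(Cfsg.Geo.quadSimilarityGroup (F := F) Q)) (l : F)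
    (hl0 : l ≠ 0) (g' : GL I F) (hg' : g' ∈ Cfsg.isometryGroup F Q)
    (e : (g : GL I F) = scalarGL l hl0 * g') : conjHom Q g = isoHom Q ⟨g', hg'⟩ := by
  have e' : g = (⟨scalarGL l hl0, scalarGL_mem_GO hQ l hl0⟩ :
      ↥(Cfsg.Geo.quadSimilarityGroup (F := F) Q)) * ⟨g', iso_le_GO hg'⟩ := Subtype.ext e
  rw [e', map_mul, isoHom_apply]
  have h1 : conjHom Q (⟨scalarGL l hl0, scalarGL_mem_GO hQ l hl0⟩ :
      ↥(Cfsg.Geo.quadSimilarityGroup (F := F) Q)) = 1 := by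
    rw [conjHom_apply]
    exact conjT_eq_one_of_scalar _ _ l (act_scalarGL l hl0)
  rw [h1, one_mul]

/-- a similarity with square multiplier induces an element of `poAut` -/
theorem exists_iso_of_sq [Nonempty I] (g : ↥(Cfsg.Geo.quadSimilarityGroup (F := F) Q))
    (hsq : IsSquare (mu g : F)) :
    ∃ (l : F) (hl0 : l ≠ 0) (g' : GL I F) (hg' : g' ∈ Cfsg.isometryGroup F Q),
      (mu g : F) = l * l ∧ (g : GL I F) = scalarGL l hl0 * g' ∧
      conjHom Q g = isoHom Q ⟨g', hg'⟩ := by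
  obtain ⟨l, hl⟩ := hsq
  obtain ⟨hl0, g', hg', e⟩ := exists_scalar_mul_iso hQ g l hl
  exact ⟨l, hl0, g', hg', hl, e, conjHom_scalar_mul hQ g l hl0 g' hg' e⟩

/-- **lifting**: an automorphism of odd order `r` induced by a similarity is induced by an
element of `Ω` of order dividing `r` -/
theorem exists_omega_lift [Nonempty I] (hn : 7 ≤ Fintype.card I) (h2 : (2 : F) ≠ 0)
    (hgen : Cfsg.isometryGroup F Q ≤ RR hQ) (x : MulAut (Cfsg.POmega F Q))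
    (hx : x ∈ Cfsg.pgoAut F Q) (r : ℕ) (hr : Odd r) (hxr : x ^ r = 1) :
    ∃ σ : ↥(Cfsg.isometryGroup F Q), σ ∈ Cfsg.Omega F Q ∧ σ ^ r = 1 ∧ isoHom Q σ = x := by
  rw [pgoAut_eq] at hx
  obtain ⟨w, rfl⟩ := hx
  obtain ⟨j, hj⟩ := hr
  -- the square of `w` is a scalar times an isometry
  have hsq : IsSquare (mu (w * w) : F) := by
    rw [mu_mul hQ, Units.val_mul]
    exact ⟨_, rfl⟩
  obtain ⟨l, hl0, g', hg', -, -, e2⟩ := exists_iso_of_sq hQ (w * w) hsq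
  -- `σ₀ = g'^2 ∈ Ω`
  obtain ⟨γ, hγ⟩ : ∃ γ : ↥(Cfsg.isometryGroup F Q), γ = ⟨g', hg'⟩ := ⟨_, rfl⟩
  rw [← hγ] at e2
  have hγ2 : isoHom Q γ = conjHom Q w ^ 2 := by rw [← e2, map_mul, pow_two]
  have hΩ0 : γ ^ 2 ∈ Cfsg.Omega F Q := by
    rw [mem_omega_iff hQ h2 hgen, Subgroup.coe_pow, pow_two]
    refine ⟨(par_mul_gen hQ hgen _ _ γ.2 γ.2).2 Iff.rfl, (spin_mul_iff hQ hgen _ _ γ.2 γ.2).2 Iff.rfl⟩
  -- `σ₁ = σ₀^k`, `k = (j+1)^2`
  obtain ⟨σ₁, hσ₁⟩ : ∃ σ₁ : ↥(Cfsg.isometryGroup F Q), σ₁ = (γ ^ 2) ^ ((j + 1) ^ 2) := ⟨_, rfl⟩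
  have hΩ1 : σ₁ ∈ Cfsg.Omega F Q := by
    rw [hσ₁]
    exact pow_mem hΩ0 _
  have h1 : isoHom Q σ₁ = conjHom Q w := by
    rw [hσ₁, map_pow, map_pow, hγ2, ← pow_mul, ← pow_mul]
    have : 2 * (2 * (j + 1) ^ 2) = r * (r + 2) + 1 := by
      rw [hj]
      ring
    rw [this, pow_succ, pow_mul, hxr, one_pow, one_mul]
  -- `σ₁^r = ± 1`
  have h3 : (σ₁ ^ r) ^ 2 = 1 := by
    have h4 : conjT ((σ₁ ^ r : ↥(Cfsg.isometryGroup F Q)) : GL I F)
        (iso_le_GO (σ₁ ^ r : ↥(Cfsg.isometryGroup F Q)).2) = 1 := by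
      rw [← conjHom_apply ⟨_, iso_le_GO (σ₁ ^ r : ↥(Cfsg.isometryGroup F Q)).2⟩, ← isoHom_apply,
        map_pow, h1, hxr]
    apply Subtype.ext
    rw [Subgroup.coe_pow, Subgroup.coe_one]
    rcases pm_one_of_conjT_eq_one hQ hn h2 _ (σ₁ ^ r).2 h4 with h5 | h5
    · rw [h5, one_pow]
    · rw [h5, neg_one_sq]
  refine ⟨σ₁ ^ (r + 1), pow_mem hΩ1 _, ?_, ?_⟩
  · have : (r + 1) * r = r * 2 * (j + 1) := by
      rw [hj]
      ring
    rw [← pow_mul, this, pow_mul, pow_mul, h3, one_pow]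
  · rw [map_pow, h1, pow_succ, hxr, one_mul]

omit hQ [Fintype F] in
theorem mem_GO_of_sim (g : GL I F) (c : F) (hc : c ≠ 0) (hg : ∀ v, Q (act g v) = c * Q v) :
    g ∈ Cfsg.Geo.quadSimilarityGroup (F := F) Q := ⟨Units.mk0 c hc, fun v => hg v⟩

/-- **the commuting similarity and the commuting isometry** -/
theorem exists_commuting_data [Nonempty I] (hn : 7 ≤ Fintype.card I) (h2 : (2 : F) ≠ 0)
    (hgen : Cfsg.isometryGroup F Q ≤ RR hQ) (m : ℕ) (hcard : Fintype.card I = 2 * m)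
    (x : MulAut (Cfsg.POmega F Q)) (hx : x ∈ Cfsg.pgoAut F Q) (r : ℕ) (hr : Odd r)
    (hrF : (r : F) ≠ 0) (hxr : x ^ r = 1) (hx1 : x ≠ 1) (ν : F) (hν0 : ν ≠ 0) :
    ∃ (gA : ↥(Cfsg.Geo.quadSimilarityGroup (F := F) Q)) (hB : ↥(Cfsg.isometryGroup F Q)),
      (mu gA : F) = ν ∧ ((gA : GL I F) : Matrix I I F).det = ν ^ m ∧
      Commute (conjHom Q gA) x ∧ par (hB : GL I F) ∧ ¬ spin Q (hB : GL I F) ∧
      Commute (isoHom Q hB) x := by
  obtain ⟨σ, -, hσr, hσx⟩ := exists_omega_lift hQ hn h2 hgen x hx r hr hxr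
  have hσr' : (σ : GL I F) ^ r = 1 := by
    have := congrArg Subtype.val hσr
    rwa [Subgroup.coe_pow, Subgroup.coe_one] at this
  have hσ1 : (σ : GL I F) ≠ 1 := by
    intro h
    apply hx1
    have : σ = 1 := Subtype.ext h
    rw [← hσx, this, map_one]
  obtain ⟨g, hgsim, hgdet, hgc⟩ :=
    exists_sim_commuting hQ h2 m hcard σ.1 σ.2 r hr hrF hσr' ν hν0
  obtain ⟨h, hhiso, hhpar, hhspin, hhc⟩ :=
    exists_spin_commuting hQ h2 σ.1 σ.2 r hr hrF hσr' hσ1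
  refine ⟨⟨g, mem_GO_of_sim g ν hν0 hgsim⟩, ⟨h, hhiso⟩, mu_unique hQ _ ν hgsim, hgdet, ?_,
    hhpar, hhspin, ?_⟩
  · show conjHom Q _ * x = x * conjHom Q _
    rw [← hσx, isoHom_apply, ← map_mul, ← map_mul]
    congr 1
    exact Subtype.ext hgc
  · show isoHom Q _ * x = x * isoHom Q _
    rw [← hσx, ← map_mul, ← map_mul]
    congr 1
    exact Subtype.ext hhc

/-- a similarity with square multiplier induces an element of `poAut` -/
theorem conjHom_mem_po_of_sq [Nonempty I] (g : ↥(Cfsg.Geo.quadSimilarityGroup (F := F) Q))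
    (hsq : IsSquare (mu g : F)) : conjHom Q g ∈ Cfsg.poAut F Q := by
  obtain ⟨l, hl0, g', hg', -, -, e⟩ := exists_iso_of_sq hQ g hsq
  rw [e, poAut_eq, isoHom_apply]
  exact Subgroup.mem_map_of_mem _ (Subgroup.mem_subgroupOf.2 hg')

/-- the multiplier of `g * gA⁻¹` -/
theorem isSquare_mu_mul_inv [Nonempty I] (g gA : ↥(Cfsg.Geo.quadSimilarityGroup (F := F) Q))
    (hg : ¬ IsSquare (mu g : F)) (hgA : ¬ IsSquare (mu gA : F)) :
    IsSquare (mu (g * gA⁻¹) : F) := by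
  have h1 : (mu g : F) = (mu (g * gA⁻¹) : F) * (mu gA : F) := by
    rw [← Units.val_mul, ← mu_mul hQ, inv_mul_cancel_right]
  have h3 := Cfsg.Agent.Lib.Helper5.OrthSN.isSquare_mul_iff (Units.ne_zero (mu (g * gA⁻¹)))
    (Units.ne_zero (mu gA))
  rw [← h1] at h3
  by_contra hcon
  exact hg (h3.2 ⟨fun h => absurd h hcon, fun h => absurd h hgA⟩)

/-- **covering of `pgoAut` by `poAut` and the centraliser of `x`** -/
theorem cover_po [Nonempty I] (hn : 7 ≤ Fintype.card I) (h2 : (2 : F) ≠ 0)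
    (hgen : Cfsg.isometryGroup F Q ≤ RR hQ) (m : ℕ) (hcard : Fintype.card I = 2 * m)
    (x : MulAut (Cfsg.POmega F Q)) (hx : x ∈ Cfsg.pgoAut F Q) (r : ℕ) (hr : Odd r)
    (hrF : (r : F) ≠ 0) (hxr : x ^ r = 1) (hx1 : x ≠ 1)
    (γ : MulAut (Cfsg.POmega F Q)) (hγ : γ ∈ Cfsg.pgoAut F Q) :
    ∃ ι ∈ Cfsg.poAut F Q, ∃ ζ, Commute ζ x ∧ γ = ι * ζ := by
  have hchar : ringChar F ≠ 2 := ringChar_ne_two' h2
  obtain ⟨ν, hν⟩ := FiniteField.exists_nonsquare hchar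
  have hν0 : ν ≠ 0 := by
    rintro rfl
    exact hν ⟨0, by ring⟩
  obtain ⟨gA, hB, hmuA, -, hcA, -, -, -⟩ :=
    exists_commuting_data hQ hn h2 hgen m hcard x hx r hr hrF hxr hx1 ν hν0
  rw [pgoAut_eq] at hγ
  obtain ⟨g, rfl⟩ := hγ
  by_cases hsq : IsSquare (mu g : F)
  · exact ⟨conjHom Q g, conjHom_mem_po_of_sq hQ g hsq, 1, Commute.one_left x, (mul_one _).symm⟩
  · have hsq' : IsSquare (mu (g * gA⁻¹) : F) :=
      isSquare_mu_mul_inv hQ g gA hsq (by rw [hmuA]; exact hν)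
    refine ⟨conjHom Q (g * gA⁻¹), conjHom_mem_po_of_sq hQ _ hsq', conjHom Q gA, hcA, ?_⟩
    rw [← map_mul, inv_mul_cancel_right]

omit hQ in
theorem isoHom_mem_inn (σ : ↥(Cfsg.isometryGroup F Q)) (hσ : σ ∈ Cfsg.Omega F Q) :
    isoHom Q σ ∈ Cfsg.Inn (Cfsg.POmega F Q) := by
  rw [inn_eq, isoHom_apply]
  exact Subgroup.mem_map_of_mem _ (Subgroup.mem_subgroupOf.2 ⟨σ, hσ, rfl⟩)

/-- a proper similarity with square multiplier is inner, possibly after multiplying by `hB` -/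
theorem inn_or [Nonempty I] (h2 : (2 : F) ≠ 0)
    (hgen : Cfsg.isometryGroup F Q ≤ RR hQ) (m : ℕ) (hcard : Fintype.card I = 2 * m)
    (g : ↥(Cfsg.Geo.quadSimilarityGroup (F := F) Q))
    (hdet : ((g : GL I F) : Matrix I I F).det = (mu g : F) ^ m) (hsq : IsSquare (mu g : F))
    (hB : ↥(Cfsg.isometryGroup F Q)) (hBpar : par (hB : GL I F))
    (hBspin : ¬ spin Q (hB : GL I F)) :
    conjHom Q g ∈ Cfsg.Inn (Cfsg.POmega F Q) ∨
      conjHom Q g * isoHom Q hB ∈ Cfsg.Inn (Cfsg.POmega F Q) := by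
  obtain ⟨l, hl0, g', hg', hmu, e, hc⟩ := exists_iso_of_sq hQ g hsq
  have hdet' : (g' : Matrix I I F).det = 1 := by
    have h1 : ((g : GL I F) : Matrix I I F).det = l ^ Fintype.card I * (g' : Matrix I I F).det := by
      rw [e, Units.val_mul, Matrix.det_mul, det_scalarGL]
    rw [hdet, hmu, hcard, ← pow_two, ← pow_mul] at h1
    have h3 : l ^ (2 * m) * ((g' : Matrix I I F).det - 1) = 0 := by linear_combination -h1
    rcases mul_eq_zero.1 h3 with h4 | h4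
    · exact absurd h4 (pow_ne_zero _ hl0)
    · exact sub_eq_zero.1 h4
  have hpar : par g' := (par_iff_det hQ h2 hgen g' hg').2 hdet'
  rw [hc]
  by_cases hs : spin Q g'
  · left
    exact isoHom_mem_inn _ ((mem_omega_iff hQ h2 hgen _).2 ⟨hpar, hs⟩)
  · right
    rw [← map_mul]
    apply isoHom_mem_inn
    rw [mem_omega_iff hQ h2 hgen, Subgroup.coe_mul]
    exact ⟨(par_mul_gen hQ hgen g' hB.1 hg' hB.2).2 ⟨fun _ => hBpar, fun _ => hpar⟩,
      (spin_mul_iff hQ hgen g' hB.1 hg' hB.2).2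
        ⟨fun h => absurd h hs, fun h => absurd h hBspin⟩⟩

/-- **covering of `inndiagGen` by `Inn` and the centraliser of `x`** -/
theorem cover_inn [Nonempty I] (hn : 7 ≤ Fintype.card I) (h2 : (2 : F) ≠ 0)
    (hgen : Cfsg.isometryGroup F Q ≤ RR hQ) (m : ℕ) (hcard : Fintype.card I = 2 * m)
    (x : MulAut (Cfsg.POmega F Q)) (hx : x ∈ Cfsg.pgoAut F Q) (r : ℕ) (hr : Odd r)
    (hrF : (r : F) ≠ 0) (hxr : x ^ r = 1) (hx1 : x ≠ 1)
    (γ : MulAut (Cfsg.POmega F Q)) (hγ : γ ∈ inndiagGen hQ h2 m hcard) :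
    ∃ ι ∈ Cfsg.Inn (Cfsg.POmega F Q), ∃ ζ, Commute ζ x ∧ γ = ι * ζ := by
  have hchar : ringChar F ≠ 2 := ringChar_ne_two' h2
  obtain ⟨ν, hν⟩ := FiniteField.exists_nonsquare hchar
  have hν0 : ν ≠ 0 := by
    rintro rfl
    exact hν ⟨0, by ring⟩
  obtain ⟨gA, hB, hmuA, hdetA, hcA, hBpar, hBspin, hcB⟩ :=
    exists_commuting_data hQ hn h2 hgen m hcard x hx r hr hrF hxr hx1 ν hν0
  obtain ⟨g, hg, rfl⟩ := Subgroup.mem_map.1 hγ
  rw [MonoidHom.mem_ker, chiDet_eq_one_iff] at hg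
  -- reduce to square multiplier
  obtain ⟨g₁, ζ₁, hdet₁, hsq₁, hζ₁, e₁⟩ : ∃ (g₁ : ↥(Cfsg.Geo.quadSimilarityGroup (F := F) Q))
      (ζ₁ : MulAut (Cfsg.POmega F Q)),
      ((g₁ : GL I F) : Matrix I I F).det = (mu g₁ : F) ^ m ∧ IsSquare (mu g₁ : F) ∧
      Commute ζ₁ x ∧ conjHom Q g = conjHom Q g₁ * ζ₁ := by
    by_cases hsq : IsSquare (mu g : F)
    · exact ⟨g, 1, hg, hsq, Commute.one_left x, (mul_one _).symm⟩
    · have hsq' : IsSquare (mu (g * gA⁻¹) : F) :=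
        isSquare_mu_mul_inv hQ g gA hsq (by rw [hmuA]; exact hν)
      refine ⟨g * gA⁻¹, conjHom Q gA, ?_, hsq', hcA, ?_⟩
      · have hgA : gA ∈ (chiDet hQ h2 m hcard).ker := by
          rw [MonoidHom.mem_ker, chiDet_eq_one_iff, hdetA, hmuA]
        have hg' : g ∈ (chiDet hQ h2 m hcard).ker := by
          rw [MonoidHom.mem_ker, chiDet_eq_one_iff]
          exact hg
        have := mul_mem hg' (inv_mem hgA)
        rwa [MonoidHom.mem_ker, chiDet_eq_one_iff] at this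
      · rw [← map_mul, inv_mul_cancel_right]
  rw [e₁]
  rcases inn_or hQ h2 hgen m hcard g₁ hdet₁ hsq₁ hB hBpar hBspin with h | h
  · exact ⟨_, h, ζ₁, hζ₁, rfl⟩
  · refine ⟨_, h, (isoHom Q hB)⁻¹ * ζ₁, (hcB.inv_left).mul_left hζ₁, ?_⟩
    rw [mul_assoc, mul_inv_cancel_left]

end generic

section classes

variable {X : Type*} [Group X]

theorem isConjUnder_of_cover (K H : Subgroup X) (hKH : K ≤ H) (x : X)
    (hcov : ∀ γ ∈ H, ∃ ι ∈ K, ∃ ζ, Commute ζ x ∧ γ = ι * ζ) (y : X) :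
    Cfsg.IsConjUnder K x y ↔ Cfsg.IsConjUnder H x y := by
  constructor
  · rintro ⟨h, hh, e⟩
    exact ⟨h, hKH hh, e⟩
  · rintro ⟨γ, hγ, e⟩
    obtain ⟨ι, hι, ζ, hζ, rfl⟩ := hcov γ hγ
    refine ⟨ι, hι, ?_⟩
    rw [e, _root_.mul_inv_rev]
    have h1 : ζ * x * ζ⁻¹ = x := by
      rw [hζ.eq, mul_inv_cancel_right]
    calc ι * ζ * x * (ζ⁻¹ * ι⁻¹) = ι * (ζ * x * ζ⁻¹) * ι⁻¹ := by group
      _ = ι * x * ι⁻¹ := by rw [h1]

theorem isConjUnder_mid (K M H : Subgroup X) (hKM : K ≤ M) (hMH : M ≤ H) (x y : X)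
    (h : Cfsg.IsConjUnder K x y ↔ Cfsg.IsConjUnder H x y) :
    Cfsg.IsConjUnder M x y ↔ Cfsg.IsConjUnder H x y := by
  constructor
  · rintro ⟨g, hg, e⟩
    exact ⟨g, hMH hg, e⟩
  · intro h1
    obtain ⟨g, hg, e⟩ := h.2 h1
    exact ⟨g, hKM hg, e⟩

end classes

section fusion

variable {I : Type} [Fintype I] [DecidableEq I] {F : Type u} [Field F] [Fintype F]
  {Q : (I → F) → F} (hQ : Cfsg.Geo.IsNondegenerateQuadraticForm Q)

include hQ

/-- **class fusion for semisimple automorphisms of odd order** -/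
theorem fusion_gen [Nonempty I] (hn : 7 ≤ Fintype.card I) (h2 : (2 : F) ≠ 0)
    (hgen : Cfsg.isometryGroup F Q ≤ RR hQ) (m : ℕ) (hcard : Fintype.card I = 2 * m)
    (x : MulAut (Cfsg.POmega F Q)) (hx : x ∈ Cfsg.pgoAut F Q) (r : ℕ) (hr : Odd r)
    (hrF : (r : F) ≠ 0) (hxr : x ^ r = 1) (hx1 : x ≠ 1) :
    (∀ y : MulAut (Cfsg.POmega F Q),
      (Cfsg.IsConjUnder (Cfsg.Inn (Cfsg.POmega F Q)) x y ↔
        Cfsg.IsConjUnder (inndiagGen hQ h2 m hcard) x y) ∧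
      (Cfsg.IsConjUnder (Cfsg.psoAut F Q) x y ↔
        Cfsg.IsConjUnder (inndiagGen hQ h2 m hcard) x y)) ∧
    (∀ y : MulAut (Cfsg.POmega F Q),
      Cfsg.IsConjUnder (Cfsg.poAut F Q) x y ↔ Cfsg.IsConjUnder (Cfsg.pgoAut F Q) x y) := by
  have hKH := inn_le_inndiagGen hQ hn h2 hgen m hcard
  have hpsoH : Cfsg.psoAut F Q ≤ inndiagGen hQ h2 m hcard := by
    rw [psoAut_eq]
    exact Subgroup.map_mono (SO'_le_chiDet hQ hn h2 m hcard)
  have hpo : Cfsg.poAut F Q ≤ Cfsg.pgoAut F Q := by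
    rw [poAut_eq, pgoAut_eq]
    exact Subgroup.map_le_range _ _
  refine ⟨fun y => ?_, fun y => ?_⟩
  · have h1 := isConjUnder_of_cover _ _ hKH x
      (cover_inn hQ hn h2 hgen m hcard x hx r hr hrF hxr hx1) y
    exact ⟨h1, isConjUnder_mid _ _ _ (inn_le_pso hQ h2 hgen) hpsoH x y h1⟩
  · exact isConjUnder_of_cover _ _ hpo x
      (cover_po hQ hn h2 hgen m hcard x hx r hr hrF hxr hx1) y

end fusion

end Cfsg.Agent.Lib.H7AutPM
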