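import Cfsg.Agent.Lib.Helper7.AutPM.SsJ
import Cfsg.Agent.Lib.Helper7.AutPM.GrI
import Mathlib

/-!
# Class fusion for semisimple automorphisms of odd prime order of `PΩ^±_{2n}(q)`, `q` odd
(helper7)
-/

set_option autoImplicit false
set_option linter.unusedSectionVars false
set_option linter.style.haveILetI false

namespace Cfsg.Agent.Lib.H7AutPM

open Matrix Cfsg Cfsg.Agent.Lib.Helper5.OrthAut Cfsg.Agent.H9.Orth Cfsg.Agent.Lib.Helper5.OrthSN
  Cfsg.Agent.Lib.Helper5.OrthPar Cfsg.Agent.Lib.Helper5.OrthCls Cfsg.Agent.Lib.Helper5.OrthPM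

universe u

section arith

variable {F : Type u} [Field F] [Fintype F] {p : ℕ} [Fact p.Prime] [CharP F p]

theorem two_ne_zero_of_charP (hp : p ≠ 2) : (2 : F) ≠ 0 := by
  intro h
  have h1 : ((2 : ℕ) : F) = 0 := by exact_mod_cast h
  rw [CharP.cast_eq_zero_iff F p] at h1
  exact hp ((Nat.prime_dvd_prime_iff_eq Fact.out Nat.prime_two).1 h1)

theorem cast_ne_zero_of_prime_ne {r : ℕ} (hr : r.Prime) (hrp : r ≠ p) : (r : F) ≠ 0 := by
  intro h
  rw [CharP.cast_eq_zero_iff F p] at h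
  exact hrp ((Nat.prime_dvd_prime_iff_eq Fact.out hr).1 h).symm

theorem odd_card_of_charP (hp : p ≠ 2) : Odd (Fintype.card F) := by
  have h := card_odd_of_two_ne_zero (two_ne_zero_of_charP (F := F) hp)
  exact Nat.odd_iff.2 h

end arith

section plus

variable {F : Type u} [Field F] [Fintype F] {m : ℕ}

/-- **`PΩ⁺_{2m}(q)`, `q` odd: class fusion for automorphisms of odd prime order `r ∤ q`** -/
theorem fusion_plus (hodd : Odd (Fintype.card F)) (hm : 4 ≤ m)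
    (x : MulAut (Cfsg.POmega F (Cfsg.quadFormPlus m F)))
    (hx : x ∈ Cfsg.pgoAut F (Cfsg.quadFormPlus m F)) {r : ℕ} (hr : r.Prime) (hro : Odd r)
    (hrF : (r : F) ≠ 0) (hxr : orderOf x = r) :
    (∀ y : MulAut (Cfsg.POmega F (Cfsg.quadFormPlus m F)),
      (Cfsg.IsConjUnder (Cfsg.Inn (Cfsg.POmega F (Cfsg.quadFormPlus m F))) x y ↔
        Cfsg.IsConjUnder (Cfsg.inndiagPOmegaPlus m F) x y) ∧
      (Cfsg.IsConjUnder (Cfsg.psoAut F (Cfsg.quadFormPlus m F)) x y ↔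
        Cfsg.IsConjUnder (Cfsg.inndiagPOmegaPlus m F) x y)) ∧
    (∀ y : MulAut (Cfsg.POmega F (Cfsg.quadFormPlus m F)),
      Cfsg.IsConjUnder (Cfsg.poAut F (Cfsg.quadFormPlus m F)) x y ↔
        Cfsg.IsConjUnder (Cfsg.pgoAut F (Cfsg.quadFormPlus m F)) x y) := by
  classical
  haveI : Nonempty (Fin m ⊕ Fin m) := ⟨Sum.inl ⟨0, by omega⟩⟩
  have h2 := two_ne_zero_of_odd_card hodd
  have hQ := quadFormPlus_nondeg (F := F) m
  have hcard := card_sum_fin m
  have hn : 7 ≤ Fintype.card (Fin m ⊕ Fin m) := by rw [hcard]; omega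
  have hgen := iso_le_RR hQ (Or.inl (card_ne_two_of_odd_card hodd))
  have hxr' : x ^ r = 1 := by
    rw [← hxr]
    exact pow_orderOf_eq_one x
  have hx1 : x ≠ 1 := by
    rintro rfl
    rw [orderOf_one] at hxr
    exact hr.one_lt.ne hxr
  rw [inndiagPlus_eq m hodd]
  exact fusion_gen hQ hn h2 hgen m hcard x hx r hro hrF hxr' hx1

end plus

section minus

variable {F : Type u} [Field F] [Fintype F] {m : ℕ}

/-- **`PΩ⁻_{2m+2}(q)`, `q` odd: class fusion for automorphisms of odd prime order `r ∤ q`** -/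
theorem fusion_minus (hodd : Odd (Fintype.card F)) (hm : 3 ≤ m) (a b : F)
    (hab : ∀ z₁ z₂ : F, z₁ ^ 2 + a * z₁ * z₂ + b * z₂ ^ 2 = 0 → z₁ = 0 ∧ z₂ = 0)
    (x : MulAut (Cfsg.POmega F (Cfsg.quadFormMinus m F a b)))
    (hx : x ∈ Cfsg.pgoAut F (Cfsg.quadFormMinus m F a b)) {r : ℕ} (hr : r.Prime) (hro : Odd r)
    (hrF : (r : F) ≠ 0) (hxr : orderOf x = r) :
    (∀ y : MulAut (Cfsg.POmega F (Cfsg.quadFormMinus m F a b)),
      (Cfsg.IsConjUnder (Cfsg.Inn (Cfsg.POmega F (Cfsg.quadFormMinus m F a b))) x y ↔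
        Cfsg.IsConjUnder (Cfsg.inndiagPOmegaMinus m F a b) x y) ∧
      (Cfsg.IsConjUnder (Cfsg.psoAut F (Cfsg.quadFormMinus m F a b)) x y ↔
        Cfsg.IsConjUnder (Cfsg.inndiagPOmegaMinus m F a b) x y)) ∧
    (∀ y : MulAut (Cfsg.POmega F (Cfsg.quadFormMinus m F a b)),
      Cfsg.IsConjUnder (Cfsg.poAut F (Cfsg.quadFormMinus m F a b)) x y ↔
        Cfsg.IsConjUnder (Cfsg.pgoAut F (Cfsg.quadFormMinus m F a b)) x y) := by
  classical
  haveI : Nonempty ((Fin m ⊕ Fin m) ⊕ Fin 2) := ⟨Sum.inr 0⟩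
  have h2 := two_ne_zero_of_odd_card hodd
  have hab' := disc_ne_zero h2 a b hab
  have hQ := quadFormMinus_nondeg (F := F) m a b hab'
  have hcard := card_minus m
  have hn : 7 ≤ Fintype.card ((Fin m ⊕ Fin m) ⊕ Fin 2) := by rw [hcard]; omega
  have hgen := iso_le_RR hQ (Or.inl (card_ne_two_of_odd_card hodd))
  have hxr' : x ^ r = 1 := by
    rw [← hxr]
    exact pow_orderOf_eq_one x
  have hx1 : x ≠ 1 := by
    rintro rfl
    rw [orderOf_one] at hxr
    exact hr.one_lt.ne hxr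
  rw [inndiagMinus_eq m a b hodd hab]
  exact fusion_gen hQ hn h2 hgen (m + 1) hcard x hx r hro hrF hxr' hx1

end minus

end Cfsg.Agent.Lib.H7AutPM
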