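import Cfsg.Agent.Lib.Helper7.AutPM.BaseM
import Mathlib

/-!
# The standard field automorphism of `PΩ(Q)` for a form `Q` compatible with `σ`; cosets (helper7)

Generic versions (any form `Q` with `Q(σ v) = σ(Q v)`) of the minus-type constructions of `CosetM`.
-/

set_option autoImplicit false
set_option linter.unusedSectionVars false
set_option linter.style.haveILetI false

namespace Cfsg.Agent.Lib.H7AutPM

open Matrix Cfsg Cfsg.Agent.Lib.H7AutPSp Cfsg.Agent.Lib.H7AutPO Cfsg.Agent.Lib.H7AutPSL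
  Cfsg.Agent.Lib.Helper5.OrthAut Cfsg.Agent.H9.Orth Cfsg.Agent.Lib.Helper5.OrthSN
  Cfsg.Agent.Lib.Helper5.OrthPar Cfsg.Agent.Lib.Helper5.OrthCls Cfsg.Agent.Lib.Helper5.OrthPM

universe u

section stdQ

variable {ι : Type} [Fintype ι] [DecidableEq ι] {F : Type u} [Field F] {Q : (ι → F) → F}
  (σ : RingAut F) (hσQ : ∀ v : ι → F, Q (fun i => σ (v i)) = σ (Q v))

/-- the standard semisimilarity `v ↦ σ(v)` -/
def stdGQ : ↥(GammaO Q) :=
  ⟨SemidirectProduct.inr σ, ⟨1, fun v => by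
    rw [sact_def, SemidirectProduct.left_inr, SemidirectProduct.right_inr, Units.val_one,
      Matrix.one_mulVec, Units.val_one, one_mul]
    exact hσQ v⟩⟩

theorem stdGQ_left : (stdGQ σ hσQ).1.left = 1 := rfl

theorem stdGQ_right : (stdGQ σ hσQ).1.right = σ := rfl

/-- the standard field automorphism of `PΩ(Q)` -/
noncomputable def PhiQ : MulAut (Cfsg.POmega F Q) := PsO _ (stdGQ σ hσQ)

/-- bridge to the Prelude predicate -/
theorem fieldAut_iff_Q (φ : MulAut (Cfsg.POmega F Q)) :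
    Cfsg.IsFieldAutPOmegaOf Q σ φ ↔ φ = PhiQ σ hσQ := by
  have hval : ∀ s : ↥(Cfsg.Omega F Q),
      (commAut (semiIso _ (stdGQ σ hσQ)) s).1.1.val = s.1.1.val.map σ := by
    intro s
    rw [PsO_val, stdGQ_left, stdGQ_right, inv_one, Units.val_one, Matrix.one_mul, Matrix.mul_one]
  constructor
  · intro h
    apply autC_ext
    intro s
    unfold PhiQ
    rw [PsO_pr]
    exact h s _ (hval s)
  · rintro rfl s s' hs'
    have e : s' = commAut (semiIso _ (stdGQ σ hσQ)) s := by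
      apply om_ext
      rw [hval]
      exact hs'
    rw [e]
    rfl

/-- the coset element `(g, σ)` -/
def cosGQ (g : ↥(Cfsg.Geo.quadSimilarityGroup (F := F) Q)) : ↥(GammaO Q) :=
  simIncl _ g * stdGQ σ hσQ

theorem PsO_cosGQ (g : ↥(Cfsg.Geo.quadSimilarityGroup (F := F) Q)) :
    PsO _ (cosGQ σ hσQ g) = DhO _ g * PhiQ σ hσQ := by
  unfold cosGQ PhiQ
  rw [map_mul, PsO_simIncl]

theorem cosGQ_pow (g : ↥(Cfsg.Geo.quadSimilarityGroup (F := F) Q)) (k : ℕ) :
    ((cosGQ σ hσQ g) ^ k).1.left.val = pnormG σ g.1.val k ∧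
      ((cosGQ σ hσQ g) ^ k).1.right = σ ^ k := by
  induction k with
  | zero =>
    rw [pow_zero, pow_zero]
    exact ⟨rfl, rfl⟩
  | succ k ih =>
    rw [pow_succ']
    have hl : (cosGQ σ hσQ g).1.left = g.1 := by
      show (SemidirectProduct.inl g.1 * SemidirectProduct.inr σ : GamL ι F).left = g.1
      rw [SemidirectProduct.mul_left, SemidirectProduct.left_inl, SemidirectProduct.right_inl,
        SemidirectProduct.left_inr, map_one, mul_one]
    have hr : (cosGQ σ hσQ g).1.right = σ := by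
      show (SemidirectProduct.inl g.1 * SemidirectProduct.inr σ : GamL ι F).right = σ
      rw [SemidirectProduct.mul_right, SemidirectProduct.right_inl, SemidirectProduct.right_inr,
        one_mul]
    constructor
    · show ((cosGQ σ hσQ g).1 * ((cosGQ σ hσQ g) ^ k).1).left.val = _
      rw [SemidirectProduct.mul_left, hl, hr, Units.val_mul, gmapAut_apply, gmapI_val, ih.1]
      rfl
    · show ((cosGQ σ hσQ g).1 * ((cosGQ σ hσQ g) ^ k).1).right = _
      rw [SemidirectProduct.mul_right, hr, ih.2, pow_succ']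

/-- conjugating a similarity by the standard field automorphism -/
theorem conjSim_stdGQ_val (g : ↥(Cfsg.Geo.quadSimilarityGroup (F := F) Q)) :
    (conjSim (stdGQ σ hσQ) g).1.val = g.1.val.map σ := by
  rw [conjSim_val, conjG_apply, stdGQ_left, stdGQ_right, inv_one, mul_one, one_mul, gmapI_val]

theorem PhiQ_conj_DhO (g : ↥(Cfsg.Geo.quadSimilarityGroup (F := F) Q)) :
    PhiQ σ hσQ * DhO Q g * (PhiQ σ hσQ)⁻¹ = DhO _ (conjSim (stdGQ σ hσQ) g) :=
  PsO_conj_DhO (stdGQ σ hσQ) g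

end stdQ

section coset

variable {ι : Type} [Fintype ι] [DecidableEq ι] [Nonempty ι] {F : Type u} [Field F] [Fintype F]
  {Q : (ι → F) → F} (hQ : Cfsg.Geo.IsNondegenerateQuadraticForm Q)
  (σ : RingAut F) (hσQ : ∀ v : ι → F, Q (fun i => σ (v i)) = σ (Q v))

include hQ

/-- the order of the field automorphism behind a standard field automorphism of prime order -/
theorem orderOf_sigma_of_PhiQ (hn : 7 ≤ Fintype.card ι) (hσ1 : σ ≠ 1) (r : ℕ) (hr : r.Prime)
    (hΦ : orderOf (PhiQ (Q := Q) σ hσQ) = r) : orderOf σ = r := by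
  haveI : Fact r.Prime := ⟨hr⟩
  have h1 : PhiQ (Q := Q) σ hσQ ^ r = 1 := by rw [← hΦ]; exact pow_orderOf_eq_one _
  unfold PhiQ at h1
  rw [← map_pow] at h1
  have h2 := (ker_PsO hQ hn _ h1).1
  have h3 : (stdGQ (Q := Q) σ hσQ ^ r).1.right = σ ^ r := by
    have := map_pow (rightO Q) (stdGQ σ hσQ) r
    rw [rightO_apply, rightO_apply, stdGQ_right] at this
    exact this
  rw [h3] at h2
  exact orderOf_eq_prime h2 hσ1

/-- normalisation of an element of order `r` in the coset of the standard field automorphism -/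
theorem coset_normalise (hn : 7 ≤ Fintype.card ι) (r : ℕ) (hr : r.Prime) (hσ : orderOf σ = r)
    (g : ↥(Cfsg.Geo.quadSimilarityGroup (F := F) Q))
    (hy : (DhO Q g * PhiQ σ hσQ) ^ r = 1) :
    ∃ μ : F, μ ≠ 0 ∧ pnormG σ (μ⁻¹ • g.1.val) r = 1 := by
  have hσr : σ ^ r = 1 := by rw [← hσ]; exact pow_orderOf_eq_one σ
  have hinj : ∀ i j, i < r → j < r → σ ^ i = σ ^ j → i = j := by
    intro i j hi hj hij
    rw [← hσ] at hi hj
    exact pow_injOn_Iio_orderOf (Set.mem_Iio.2 hi) (Set.mem_Iio.2 hj) hij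
  obtain ⟨k₀⟩ := ‹Nonempty ι›
  rw [← PsO_cosGQ, ← map_pow] at hy
  obtain ⟨-, l, hl⟩ := ker_PsO hQ hn _ hy
  obtain ⟨M, hM⟩ : ∃ M, M = g.1.val := ⟨_, rfl⟩
  have hcs : pnormG σ M r = l • (1 : Matrix ι ι F) := by
    rw [hM, ← (cosGQ_pow σ hσQ g r).1]
    ext i k
    have := congrFun (hl (Pi.single k 1)) i
    rw [Pi.smul_apply, Pi.single_apply, smul_eq_mul] at this
    rw [Matrix.smul_apply, Matrix.one_apply, smul_eq_mul, ← this]
    show _ = (Matrix.mulVec _ (Pi.single k 1)) i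
    rw [Matrix.mulVec_single_one]
    rfl
  have hl0 : l ≠ 0 := scalar_ne_zero_of_act _ l hl
  have hMM : M * g.1⁻¹.val = 1 := by
    rw [hM, ← Units.val_mul, mul_inv_cancel, Units.val_one]
  have hfix : σ l = l := by
    have e1 : pnormG σ M (r + 1) = M * (pnormG σ M r).map σ := rfl
    have e2 := pnormG_succ' σ M r
    rw [hσr, e1, hcs, map_smulG] at e2
    have h1 : (1 : Matrix ι ι F).map σ = 1 := by
      ext i j
      rw [Matrix.map_apply, Matrix.one_apply]
      split_ifs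
      · exact map_one σ
      · exact map_zero σ
    have h2' : M.map (1 : RingAut F) = M := by
      ext i j
      rfl
    rw [h1, h2', Matrix.mul_smul, Matrix.mul_one, Matrix.smul_mul, Matrix.one_mul] at e2
    have e3 : (σ l • M) * g.1⁻¹.val = (l • M) * g.1⁻¹.val := by rw [e2]
    rw [Matrix.smul_mul, Matrix.smul_mul, hMM] at e3
    have e4 := congrFun (congrFun e3 k₀) k₀
    rw [Matrix.smul_apply, Matrix.smul_apply, Matrix.one_apply_eq, smul_eq_mul, smul_eq_mul,
      mul_one, mul_one] at e4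
    exact e4
  obtain ⟨μ, hμ0, hμ⟩ := norm_surj σ r hr.pos hσr hinj l hl0 hfix
  refine ⟨μ, hμ0, ?_⟩
  rw [← hM, pnormG_smul, hcs, fnorm_inv, hμ, smul_smul, inv_mul_cancel₀ hl0, one_smul]

/-- a twisted conjugacy relation between similarities gives a conjugacy in the coset -/
theorem coset_conj_of_rel (g g' h : ↥(Cfsg.Geo.quadSimilarityGroup (F := F) Q)) (l : F)
    (hl0 : l ≠ 0) (hrel : g'.1.val * h.1.val.map σ = l • (h.1.val * g.1.val)) :
    DhO Q g' * PhiQ σ hσQ = DhO Q h * (DhO Q g * PhiQ σ hσQ) * (DhO Q h)⁻¹ := by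
  have e1 : g' * conjSim (stdGQ σ hσQ) h =
      (⟨scalarGL l hl0, scalarGL_mem_GO hQ l hl0⟩ :
        ↥(Cfsg.Geo.quadSimilarityGroup (F := F) Q)) * (h * g) := by
    apply sim_ext'
    show (g'.1 * (conjSim (stdGQ σ hσQ) h).1).val = (scalarGL l hl0 * (h.1 * g.1)).val
    rw [Units.val_mul, conjSim_stdGQ_val, hrel, Units.val_mul, Units.val_mul]
    show _ = (l • (1 : Matrix ι ι F)) * _
    rw [Matrix.smul_mul, Matrix.one_mul]
  have e2 : DhO Q g' * DhO Q (conjSim (stdGQ σ hσQ) h) = DhO Q h * DhO Q g := by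
    rw [← map_mul, e1, map_mul, DhO_scalarG hQ, one_mul, map_mul]
  have e3 := PhiQ_conj_DhO σ hσQ h
  have e4 : DhO Q g' = DhO Q h * DhO Q g * (DhO Q (conjSim (stdGQ σ hσQ) h))⁻¹ := by
    rw [← e2, mul_inv_cancel_right]
  rw [e4, ← e3]
  group

end coset

end Cfsg.Agent.Lib.H7AutPM
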