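import Cfsg.Agent.Lib.Helper7.AutPM.FrobInst
import Cfsg.Agent.Lib.Helper7.AutPO.OutO
import Cfsg.Agent.S2602
import Mathlib

/-!
# The structure of `Aut(PΩ⁻_{2m+2}(q))` under the factorisation hypothesis (helper7)

`rhoM : Aut(PΩ⁻) →* Aut F` is surjective with kernel the image of the conformal orthogonal group;
`|Aut(PΩ⁻)| = f · |PGO⁻-image|`.
-/

set_option autoImplicit false
set_option linter.unusedSectionVars false
set_option linter.style.haveILetI false

namespace Cfsg.Agent.Lib.H7AutPM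

open Matrix Cfsg Cfsg.Agent.Lib.H7AutPSp Cfsg.Agent.Lib.H7AutPO Cfsg.Agent.Lib.Helper5.OrthAut
  Cfsg.Agent.H9.Orth Cfsg.Agent.Lib.Helper5.OrthSN Cfsg.Agent.Lib.Helper5.OrthPar
  Cfsg.Agent.Lib.Helper5.OrthCls Cfsg.Agent.Lib.Helper5.OrthPM

universe u

variable {F : Type u} [Field F] [Fintype F]

/-- every automorphism of a finite field is a power of the Frobenius -/
theorem ringAut_eq_frob_pow (p : ℕ) [Fact p.Prime] [CharP F p] (σ : RingAut F) :
    ∃ n : ℕ, σ = (frobeniusEquiv F p : RingAut F) ^ n := by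
  letI : Algebra (ZMod p) F := ZMod.algebra F p
  let τ : F ≃ₐ[ZMod p] F := AlgEquiv.ofRingEquiv (f := σ) (fun x =>
        DFunLike.congr_fun (Subsingleton.elim ((σ : F →+* F).comp (algebraMap (ZMod p) F))
          (algebraMap (ZMod p) F)) x)
  obtain ⟨n, hn⟩ := (FiniteField.bijective_frobeniusAlgEquivOfAlgebraic_pow (ZMod p) F).2 τ
  refine ⟨n.1, ?_⟩
  apply RingEquiv.ext
  intro c
  have h1 := DFunLike.congr_fun hn c
  beta_reduce at h1
  rw [AlgEquiv.coe_pow, FiniteField.coe_frobeniusAlgEquivOfAlgebraic_iterate, ZMod.card] at h1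
  rw [frob_pow_apply]
  exact h1.symm

/-- the factorisation hypothesis -/
def FacG {ι : Type} [Fintype ι] [DecidableEq ι] (Q : (ι → F) → F) : Prop :=
  ∀ β : MulAut (Cfsg.POmega F Q), ∃ (g : GL ι F) (σ : F ≃+* F),
    Cfsg.IsSemisimilarityPair Q g σ ∧ Cfsg.IsInducedBySemilinearPOmega Q g σ β

section minus

variable {m : ℕ} (a b : F)

theorem hQM (hab : ∀ z₁ z₂ : F, z₁ ^ 2 + a * z₁ * z₂ + b * z₂ ^ 2 = 0 → z₁ = 0 ∧ z₂ = 0) :
    Cfsg.Geo.IsNondegenerateQuadraticForm (Cfsg.quadFormMinus m F a b) :=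
  quadFormMinus_nondeg m a b (Cfsg.Agent.S0288.disc_ne_zero a b hab)

theorem card_IM : Fintype.card (IM m) = 2 * (m + 1) := card_minus m

theorem hnM (hm : 3 ≤ m) : 7 ≤ Fintype.card (IM m) := by
  rw [card_IM]; omega

variable {a b}
variable (hm : 3 ≤ m)
  (hab : ∀ z₁ z₂ : F, z₁ ^ 2 + a * z₁ * z₂ + b * z₂ ^ 2 = 0 → z₁ = 0 ∧ z₂ = 0)
  (hFac : FacG (Cfsg.quadFormMinus m F a b))

/-- the field automorphism of an automorphism of `PΩ⁻` -/
noncomputable def rhoM : MulAut (Cfsg.POmega F (Cfsg.quadFormMinus m F a b)) →* RingAut F :=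
  rho (hQM a b hab) (hnM hm) (PsO_surjective _ hFac)

/-- the core of S2696 -/
theorem gamma_minus_eq_top (hFac : FacG (Cfsg.quadFormMinus m F a b)) :
    Cfsg.gammaPOmega F (Cfsg.quadFormMinus m F a b) = ⊤ :=
  gammaPOmega_eq_top _ hFac

theorem rhoM_PsO (x : ↥(GammaO (Cfsg.quadFormMinus m F a b))) :
    rhoM hm hab hFac (PsO _ x) = x.1.right := rho_PsO _ _ _ x

theorem rhoM_ker : (rhoM hm hab hFac).ker = (DhO (Cfsg.quadFormMinus m F a b)).range :=
  rho_ker _ _ _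

theorem rhoM_surjective (p : ℕ) [Fact p.Prime] [CharP F p] {f : ℕ}
    (hF : Fintype.card F = p ^ f) : Function.Surjective (rhoM hm hab hFac) := by
  intro σ
  obtain ⟨n, rfl⟩ := ringAut_eq_frob_pow p σ
  obtain ⟨g₂, hmem, -⟩ := exists_frob_minus a b p hF m hab
  refine ⟨PsO _ (⟨_, hmem⟩ : ↥(GammaO (Cfsg.quadFormMinus m F a b))) ^ n, ?_⟩
  rw [map_pow, rhoM_PsO]
  rfl

include hm hab hFac in
/-- **`|Aut(PΩ⁻)| = f · |PGO⁻-image|`** -/
theorem card_aut_minus (p : ℕ) [Fact p.Prime] [CharP F p] {f : ℕ}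
    (hF : Fintype.card F = p ^ f) :
    Nat.card (MulAut (Cfsg.POmega F (Cfsg.quadFormMinus m F a b))) =
      f * Nat.card (DhO (Cfsg.quadFormMinus m F a b)).range := by
  have h1 := Subgroup.card_eq_card_quotient_mul_card_subgroup (rhoM hm hab hFac).ker
  have h2 : Nat.card (MulAut (Cfsg.POmega F (Cfsg.quadFormMinus m F a b)) ⧸
      (rhoM hm hab hFac).ker) = f := by
    rw [Nat.card_congr (QuotientGroup.quotientKerEquivOfSurjective _
      (rhoM_surjective hm hab hFac p hF)).toEquiv]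
    exact (Cfsg.Agent.S2602.ringAut_cyclic (F := F) p f hF).2
  rw [h2, rhoM_ker] at h1
  exact h1

end minus

end Cfsg.Agent.Lib.H7AutPM
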