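import Cfsg.Agent.Lib.Helper7.AutPM.ConjL
import Mathlib

/-!
# The centraliser of `DhO g₀ · PhiQ σ` in the image of the conformal group: twisted base change
(helper7)

Data: a form `Q` over `F` (index `I`), a form `Q₀` over `F₀` (index `κ`) with base change `Q'`,
a linear equivalence `T : (κ → F) ≃ (I → F)` with `Q ∘ T = Q'`, intertwining the standard
Frobenius `σ` on `κ → F` with the twisted Frobenius `g₀ σ` on `I → F`.  Then
`k₀ ↦ T k₀ T⁻¹` maps the similarities of `Q₀` onto the centraliser of `DhO g₀ · PhiQ σ`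
(modulo scalars).
-/

set_option autoImplicit false
set_option linter.unusedSectionVars false
set_option linter.style.haveILetI false

namespace Cfsg.Agent.Lib.H7AutPM

open Matrix Cfsg Cfsg.Agent.Lib.H7AutPSp Cfsg.Agent.Lib.H7AutPO Cfsg.Agent.Lib.H7AutPSL
  Cfsg.Agent.Lib.Helper5.OrthAut Cfsg.Agent.H9.Orth Cfsg.Agent.Lib.Helper5.OrthSN
  Cfsg.Agent.Lib.Helper5.OrthPar Cfsg.Agent.Lib.Helper5.OrthCls Cfsg.Agent.Lib.Helper5.OrthPM

universe u v

section twist

variable {I κ : Type} [Fintype I] [DecidableEq I] [Fintype κ] [DecidableEq κ]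
  {F : Type u} [Field F] (T : (κ → F) ≃ₗ[F] (I → F)) (σ : RingAut F) (g₀ : GL I F)

theorem vmap_symm' (a : κ → F) : vmap σ.symm (vmap σ a) = a := by
  funext i
  simp [vmap]

/-- the intertwining identity -/
theorem conjL_twist (hTσ : ∀ w, act g₀ (vmap σ (T w)) = T (vmap σ w)) (g : GL κ F) :
    g₀ * gmapI σ (conjL T g) = conjL T (gmapI σ g) * g₀ := by
  apply gl_ext
  intro u
  rw [act_mul, act_mul, act_gmapI, act_conjL, hTσ, act_conjL, act_gmapI]
  have h1 : T.symm (act g₀ u) = vmap σ (T.symm (vmap σ.symm u)) := by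
    have := hTσ (T.symm (vmap σ.symm u))
    rw [LinearEquiv.apply_symm_apply, vmap_symm] at this
    rw [this, LinearEquiv.symm_apply_apply]
  rw [h1, vmap_symm']

end twist

section semifixed

variable {κ : Type} [Fintype κ] [DecidableEq κ] [Nonempty κ] {F : Type u} [Field F] [Fintype F]

/-- a matrix fixed by `σ` up to a scalar is, up to a scalar, fixed by `σ` -/
theorem exists_fixed_scalar (σ : RingAut F) (r : ℕ) (hr : 0 < r) (hσ : σ ^ r = 1)
    (hinj : ∀ i j, i < r → j < r → σ ^ i = σ ^ j → i = j) (g : GL κ F) (d : F)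
    (h' : g.val.map σ = d • g.val) :
    ∃ (c : F) (_ : c ≠ 0), (c • g.val).map σ = c • g.val := by
  obtain ⟨k₀⟩ := ‹Nonempty κ›
  have hN : fnorm σ d r = 1 := by
    have e := map_pow_of_semifixedG σ g.val d h' r
    rw [hσ] at e
    have e1 : g.val.map (1 : RingAut F) = g.val := by
      ext i j
      rfl
    rw [e1] at e
    have e2 : g.val * g⁻¹.val = (fnorm σ d r • g.val) * g⁻¹.val := by rw [← e]
    rw [Matrix.smul_mul, ← Units.val_mul, mul_inv_cancel, Units.val_one] at e2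
    have e3 := congrFun (congrFun e2 k₀) k₀
    rw [Matrix.smul_apply, Matrix.one_apply_eq, smul_eq_mul, mul_one] at e3
    exact e3.symm
  obtain ⟨c, hc0, hc⟩ := hilbert90_field σ r hr hσ hinj d hN
  refine ⟨c, hc0, ?_⟩
  rw [map_smulG, h', smul_smul, mul_comm, hc]

end semifixed

section tw

variable {I κ : Type} [Fintype I] [DecidableEq I] [Nonempty I] [Fintype κ] [DecidableEq κ]
  [Nonempty κ]
  {F : Type u} [Field F] [Fintype F] {F₀ : Type v} [Field F₀] [Fintype F₀] (ι : F₀ →+* F)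
  {Q : (I → F) → F} {Q₀ : (κ → F₀) → F₀} {Q' : (κ → F) → F}
  (T : (κ → F) ≃ₗ[F] (I → F)) (hTQ : ∀ w, Q (T w) = Q' w)
  (hsim : ∀ (g : Matrix κ κ F₀) (c : F₀), (∀ v, Q₀ (g *ᵥ v) = c * Q₀ v) →
      ∀ w, Q' ((g.map ι) *ᵥ w) = ι c * Q' w)

/-- the twisted base change of similarities -/
noncomputable def twHom :
    ↥(Cfsg.Geo.quadSimilarityGroup (F := F₀) Q₀) →* ↥(Cfsg.Geo.quadSimilarityGroup (F := F) Q) :=
  ((conjL T).comp ((Matrix.GeneralLinearGroup.map ι).comp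
      (Cfsg.Geo.quadSimilarityGroup (F := F₀) Q₀).subtype)).codRestrict _ (fun g => by
    obtain ⟨c, hc⟩ := (mem_sim_iff _ g.1).1 g.2
    apply conjL_mem_sim T hTQ
    rw [mem_sim_iff]
    exact ⟨Units.map (ι : F₀ →* F) c, fun w => hsim g.1.val c hc w⟩)

theorem twHom_coe (g : ↥(Cfsg.Geo.quadSimilarityGroup (F := F₀) Q₀)) :
    (twHom ι T hTQ hsim g).1 = conjL T (Matrix.GeneralLinearGroup.map ι g.1) := rfl

theorem gmapI_map_base (σ : RingAut F) (hι : ∀ s, σ (ι s) = ι s) (g : GL κ F₀) :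
    gmapI σ (Matrix.GeneralLinearGroup.map ι g) = Matrix.GeneralLinearGroup.map ι g := by
  apply Units.ext
  ext i k
  exact hι _

variable (hQ : Cfsg.Geo.IsNondegenerateQuadraticForm Q) (σ : RingAut F)
  (hσQ : ∀ v : I → F, Q (fun i => σ (v i)) = σ (Q v))
  (g₀ : ↥(Cfsg.Geo.quadSimilarityGroup (F := F) Q))
  (hTσ : ∀ w, act g₀.1 (vmap σ (T w)) = T (vmap σ w))

include hQ hTσ in
/-- the image of the twisted base change centralises the twisted field automorphism -/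
theorem twHom_comm (hι : ∀ s, σ (ι s) = ι s)
    (k₀ : ↥(Cfsg.Geo.quadSimilarityGroup (F := F₀) Q₀)) :
    DhO Q (twHom ι T hTQ hsim k₀) * (DhO Q g₀ * PhiQ σ hσQ) =
      (DhO Q g₀ * PhiQ σ hσQ) * DhO Q (twHom ι T hTQ hsim k₀) := by
  have h1 := conjL_twist T σ g₀.1 hTσ (Matrix.GeneralLinearGroup.map ι k₀.1)
  rw [gmapI_map_base ι σ hι] at h1
  have h2 := coset_conj_of_rel hQ σ hσQ g₀ g₀ (twHom ι T hTQ hsim k₀) 1 one_ne_zero (by
    rw [one_smul, twHom_coe, ← gmapI_val, ← Units.val_mul, ← Units.val_mul, h1])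
  rw [eq_mul_inv_iff_mul_eq] at h2
  exact h2.symm

include hQ in
/-- an element of the image of the conformal group centralising the twisted field automorphism -/
theorem comm_twisted (hn : 7 ≤ Fintype.card I)
    (k : ↥(Cfsg.Geo.quadSimilarityGroup (F := F) Q))
    (hk : DhO Q k * (DhO Q g₀ * PhiQ σ hσQ) = (DhO Q g₀ * PhiQ σ hσQ) * DhO Q k) :
    ∃ (l : F) (hl : l ≠ 0), g₀.1 * gmapI σ k.1 = scalarGL l hl * (k.1 * g₀.1) := by
  have e3 := PhiQ_conj_DhO σ hσQ k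
  have hval : (conjSim (stdGQ σ hσQ) k).1 = gmapI σ k.1 := by
    apply Units.ext
    rw [conjSim_stdGQ_val, gmapI_val]
  have h1 : DhO Q (k * g₀) = DhO Q (g₀ * conjSim (stdGQ σ hσQ) k) := by
    rw [map_mul, map_mul, ← e3]
    have : DhO Q k * DhO Q g₀ * PhiQ σ hσQ =
        DhO Q g₀ * (PhiQ σ hσQ * DhO Q k * (PhiQ σ hσQ)⁻¹) * PhiQ σ hσQ := by
      rw [mul_assoc, hk]
      group
    exact mul_right_cancel this
  have h2 : DhO Q ((k * g₀)⁻¹ * (g₀ * conjSim (stdGQ σ hσQ) k)) = 1 := by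
    rw [map_mul, map_inv, h1, inv_mul_cancel]
  obtain ⟨l, hl⟩ := scalar_of_DhO_eq_one hQ hn _ h2
  have hl0 := scalar_ne_zero_of_act _ l hl
  have e1 := eq_scalarGL_of_act _ l hl0 hl
  refine ⟨l, hl0, ?_⟩
  have e2 : (g₀ * conjSim (stdGQ σ hσQ) k).1 =
      (k * g₀).1 * ((k * g₀)⁻¹ * (g₀ * conjSim (stdGQ σ hσQ) k)).1 := by
    rw [← Subgroup.coe_mul, mul_inv_cancel_left]
  rw [e1, Subgroup.coe_mul, hval, Subgroup.coe_mul] at e2
  rw [e2]
  apply gl_ext
  intro v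
  rw [act_mul, act_mul, act_scalarGL, act_mul, act_scalarGL, act_mul, act_smul, act_smul]

include hQ hTσ in
set_option maxHeartbeats 1600000 in
/-- every element of the image of the conformal group centralising the twisted field
automorphism comes from the twisted base change -/
theorem twHom_surj_cent (hn : 7 ≤ Fintype.card I)
    (hpush : ∀ w₀, Q' (vpush ι w₀) = ι (Q₀ w₀)) (hne : ∃ v₀, Q₀ v₀ ≠ 0)
    (r : ℕ) (hr : 0 < r) (hσ : σ ^ r = 1)
    (hinj : ∀ i j, i < r → j < r → σ ^ i = σ ^ j → i = j)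
    (hι : ∀ t : F, σ t = t ↔ ∃ s, ι s = t)
    (k : ↥(Cfsg.Geo.quadSimilarityGroup (F := F) Q))
    (hk : DhO Q k * (DhO Q g₀ * PhiQ σ hσQ) = (DhO Q g₀ * PhiQ σ hσQ) * DhO Q k) :
    ∃ k₀ : ↥(Cfsg.Geo.quadSimilarityGroup (F := F₀) Q₀),
      DhO Q (twHom ι T hTQ hsim k₀) = DhO Q k := by
  obtain ⟨l, hl0, hrel⟩ := comm_twisted hQ σ hσQ g₀ hn k hk
  obtain ⟨g, hg⟩ : ∃ g : GL κ F, g = conjL T.symm k.1 := ⟨_, rfl⟩
  have hgk : conjL T g = k.1 := by rw [hg, conjL_conjL_symm]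
  have htw := conjL_twist T σ g₀.1 hTσ g
  rw [hgk, hrel] at htw
  have h1 : conjL T (gmapI σ g) = conjL T (scalarGL l hl0 * g) := by
    rw [map_mul, conjL_scalarGL, hgk]
    have := mul_right_cancel (b := g₀.1) (a := scalarGL l hl0 * k.1)
      (c := conjL T (gmapI σ g)) (by rw [mul_assoc]; exact htw)
    exact this.symm
  have h2 : gmapI σ g = scalarGL l hl0 * g := conjL_injective T h1
  have h' : g.val.map σ = l • g.val := by
    have := congrArg Units.val h2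
    rw [gmapI_val, Units.val_mul] at this
    rw [this]
    show (l • (1 : Matrix κ κ F)) * g.val = _
    rw [Matrix.smul_mul, Matrix.one_mul]
  obtain ⟨c, hc0, hfix⟩ := exists_fixed_scalar σ r hr hσ hinj g l h'
  obtain ⟨M, hM⟩ : ∃ M, M = c • g.val := ⟨_, rfl⟩
  rw [← hM] at hfix
  have hentry : ∀ i j, ∃ s, ι s = M i j := by
    intro i j
    rw [← hι]
    have := congrFun (congrFun hfix i) j
    rw [Matrix.map_apply] at this
    exact this
  choose M₀ hM₀ using hentry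
  have hmap : (Matrix.of M₀).map ι = M := by
    ext i j
    rw [Matrix.map_apply, Matrix.of_apply, hM₀]
  have hmapv : ∀ v : κ → F₀, M *ᵥ (vpush ι v) = vpush ι (Matrix.of M₀ *ᵥ v) := by
    intro v
    rw [vpush_mulVec, hmap]
  obtain ⟨cg, hcg⟩ := (mem_sim_iff _ k.1).1 k.2
  have hQ's : ∀ (a : F) (w : κ → F), Q' (a • w) = a ^ 2 * Q' w := by
    intro a w
    rw [← hTQ, map_smul, Q_smul hQ, hTQ]
  have hgsim : ∀ w, Q' (g.val *ᵥ w) = (cg : F) * Q' w := by
    intro w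
    have e1 : T (g.val *ᵥ w) = act k.1 (T w) := by
      rw [← hgk, act_conjL_apply]
    rw [← hTQ, e1]
    have := hcg (T w)
    rw [hTQ] at this
    exact this
  have hMsim : ∀ w, Q' (M *ᵥ w) = (c * c * (cg : F)) * Q' w := by
    intro w
    rw [hM, Matrix.smul_mulVec, hQ's, hgsim]
    ring
  obtain ⟨v₁, hv₁⟩ := hne
  obtain ⟨C₀, hC₀⟩ : ∃ C₀ : F₀, ι C₀ = c * c * (cg : F) := by
    have h3 := hMsim (vpush ι v₁)
    rw [hmapv, hpush, hpush] at h3
    refine ⟨Q₀ (Matrix.of M₀ *ᵥ v₁) / Q₀ v₁, ?_⟩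
    rw [map_div₀, h3, mul_div_assoc, div_self ((map_ne_zero ι).2 hv₁), mul_one]
  have hC₀0 : C₀ ≠ 0 := by
    rintro rfl
    rw [map_zero] at hC₀
    exact mul_ne_zero (mul_ne_zero hc0 hc0) cg.ne_zero hC₀.symm
  have hform : ∀ v, Q₀ (Matrix.of M₀ *ᵥ v) = C₀ * Q₀ v := by
    intro v
    apply ι.injective
    rw [← hpush, ← hmapv, hMsim, map_mul, hC₀, hpush]
  have hMdet : M.det ≠ 0 := by
    rw [hM, Matrix.det_smul]
    have h2' : IsUnit g.val.det := (Matrix.isUnit_iff_isUnit_det _).1 g.isUnit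
    exact mul_ne_zero (pow_ne_zero _ hc0) h2'.ne_zero
  have hdet : (Matrix.of M₀).det ≠ 0 := by
    intro h0
    have h3 : ι (Matrix.of M₀).det = M.det := by
      rw [RingHom.map_det, RingHom.mapMatrix_apply, hmap]
    rw [h0, map_zero] at h3
    exact hMdet h3.symm
  obtain ⟨k₀, hk₀⟩ : ∃ k₀ : ↥(Cfsg.Geo.quadSimilarityGroup (F := F₀) Q₀),
      k₀.1.val = Matrix.of M₀ :=
    ⟨⟨Matrix.GeneralLinearGroup.mkOfDetNeZero (Matrix.of M₀) hdet,
      (mem_sim_iff _ _).2 ⟨Units.mk0 C₀ hC₀0, hform⟩⟩, rfl⟩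
  refine ⟨k₀, ?_⟩
  have e : twHom ι T hTQ hsim k₀ =
      (⟨scalarGL c hc0, scalarGL_mem_GO hQ c hc0⟩ :
        ↥(Cfsg.Geo.quadSimilarityGroup (F := F) Q)) * k := by
    apply Subtype.ext
    rw [twHom_coe, Subgroup.coe_mul]
    show _ = scalarGL c hc0 * k.1
    rw [← hgk, ← conjL_scalarGL T c hc0, ← map_mul]
    congr 1
    apply Units.ext
    show k₀.1.val.map ι = _
    rw [hk₀, hmap, hM, Units.val_mul]
    show _ = (c • (1 : Matrix κ κ F)) * g.val
    rw [Matrix.smul_mul, Matrix.one_mul]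
  rw [e, map_mul, DhO_scalarG hQ, one_mul]

include hQ in
/-- the kernel of the twisted base change followed by `DhO` -/
theorem DhO_twHom_eq_one_iff (hn : 7 ≤ Fintype.card I)
    (hQ₀ : Cfsg.Geo.IsNondegenerateQuadraticForm Q₀) (hn₀ : 7 ≤ Fintype.card κ)
    (k₀ : ↥(Cfsg.Geo.quadSimilarityGroup (F := F₀) Q₀)) :
    DhO Q (twHom ι T hTQ hsim k₀) = 1 ↔ DhO Q₀ k₀ = 1 := by
  constructor
  · intro h
    obtain ⟨l, hl⟩ := scalar_of_DhO_eq_one hQ hn _ h
    have hl0 := scalar_ne_zero_of_act _ l hl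
    have e1 := eq_scalarGL_of_act _ l hl0 hl
    rw [twHom_coe, ← conjL_scalarGL T l hl0] at e1
    have e2 := conjL_injective T e1
    have hent : ∀ i j, ι (k₀.1.val i j) = if i = j then l else 0 := by
      intro i j
      have e2' := congrArg Units.val e2
      have := congrFun (congrFun e2' i) j
      show (k₀.1.val.map ι) i j = _
      rw [show k₀.1.val.map ι = (Matrix.GeneralLinearGroup.map ι k₀.1).val from rfl, this]
      show (l • (1 : Matrix κ κ F)) i j = _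
      rw [Matrix.smul_apply, Matrix.one_apply, smul_eq_mul, mul_ite, mul_one, mul_zero]
    obtain ⟨j₀⟩ := ‹Nonempty κ›
    obtain ⟨l₀, hl₀⟩ : ∃ l₀, l₀ = k₀.1.val j₀ j₀ := ⟨_, rfl⟩
    have hιl : ι l₀ = l := by rw [hl₀, hent, if_pos rfl]
    have hl₀0 : l₀ ≠ 0 := by
      rintro rfl
      rw [map_zero] at hιl
      exact hl0 hιl.symm
    have e3 : k₀ = (⟨scalarGL l₀ hl₀0, scalarGL_mem_GO hQ₀ l₀ hl₀0⟩ :
        ↥(Cfsg.Geo.quadSimilarityGroup (F := F₀) Q₀)) := by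
      apply sim_ext'
      ext i j
      apply ι.injective
      rw [hent]
      show _ = ι ((l₀ • (1 : Matrix κ κ F₀)) i j)
      rw [Matrix.smul_apply, Matrix.one_apply, smul_eq_mul, mul_ite, mul_one, mul_zero,
        apply_ite ι, hιl, map_zero]
    rw [e3, DhO_scalarG hQ₀]
  · intro h
    obtain ⟨l₀, hl⟩ := scalar_of_DhO_eq_one hQ₀ hn₀ _ h
    have hl0 := scalar_ne_zero_of_act _ l₀ hl
    have e1 := eq_scalarGL_of_act _ l₀ hl0 hl
    have e2 : twHom ι T hTQ hsim k₀ =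
        (⟨scalarGL (ι l₀) ((map_ne_zero ι).2 hl0),
          scalarGL_mem_GO hQ (ι l₀) ((map_ne_zero ι).2 hl0)⟩ :
        ↥(Cfsg.Geo.quadSimilarityGroup (F := F) Q)) := by
      apply Subtype.ext
      rw [twHom_coe, e1, map_scalarGL, conjL_scalarGL]
    rw [e2, DhO_scalarG hQ]

end tw

end Cfsg.Agent.Lib.H7AutPM
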